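import Groth.Agent.ArtF85.Basic

/-!
# Conditions on functors of Artin rings and smooth morphisms
-/

set_option autoImplicit false
set_option linter.style.haveILetI false

universe u v

open CategoryTheory

namespace Groth.Agent.ArtF85

open ArtFun ArtFun.Art

variable {Λ : Type u} {k : Type u} [CommRing Λ] [Field k] [Algebra Λ k]
variable {F G H : Art Λ k ⥤ Type v}

section Cmp

variable {B A A' A'' : Art Λ k} {p' : B ⟶ A'} {p'' : B ⟶ A''} {f' : A' ⟶ A} {f'' : A'' ⟶ A}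

lemma surjective_cmp_iff (h : IsFibreProd p' p'' f' f'') :
    Function.Surjective (cmp F h) ↔
      ∀ x' x'', F.map f' x' = F.map f'' x'' → ∃ z, F.map p' z = x' ∧ F.map p'' z = x'' := by
  refine ⟨fun hs x' x'' e => ?_, fun hs y => ?_⟩
  · obtain ⟨z, hz⟩ := hs ⟨(x', x''), e⟩
    exact ⟨z, congrArg (fun t => t.1.1) hz, congrArg (fun t => t.1.2) hz⟩
  · obtain ⟨z, h₁, h₂⟩ := hs y.1.1 y.1.2 y.2
    exact ⟨z, FibProd.ext h₁ h₂⟩

lemma injective_cmp_iff (h : IsFibreProd p' p'' f' f'') :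
    Function.Injective (cmp F h) ↔
      ∀ z w, F.map p' z = F.map p' w → F.map p'' z = F.map p'' w → z = w := by
  refine ⟨fun hi z w h₁ h₂ => hi (FibProd.ext h₁ h₂), fun hi z w e => ?_⟩
  exact hi z w (congrArg (fun t => t.1.1) e) (congrArg (fun t => t.1.2) e)

lemma bijective_cmp_of_bijective_right (h : IsFibreProd p' p'' f' f'') (hf : Function.Bijective f'') :
    Function.Bijective (cmp F h) := by
  have hp : Function.Bijective p' := ⟨fun b₁ b₂ e => h.inj _ _ e (hf.1 (by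
    rw [← h.w_apply, ← h.w_apply, e])), surjective_fst h hf.2⟩
  refine ⟨(injective_cmp_iff h).2 fun z w e _ => (map_bijective F p' hp).1 e,
    (surjective_cmp_iff h).2 fun x' x'' e => ?_⟩
  obtain ⟨z, hz⟩ := (map_bijective F p' hp).2 x'
  refine ⟨z, hz, (map_bijective F f'' hf).1 ?_⟩
  rw [map_map, ← h.w, ← map_map, hz, e]

end Cmp

variable [IsNoetherianRing Λ] [Module.Finite Λ k]

/-- From small extensions to all surjections, for surjectivity of comparison maps. -/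
theorem s1_of_hbar (hF : Hbar F) : S1 F := by
  intro B A A' A'' p' p'' f' f'' h hf
  revert B A' p' p'' f' h
  refine surjective_induction (P := fun A'' A f'' =>
    ∀ ⦃B A' : Art Λ k⦄ (p' : B ⟶ A') (p'' : B ⟶ A'') (f' : A' ⟶ A)
      (h : IsFibreProd p' p'' f' f''), Function.Surjective (cmp F h)) ?_ ?_ f'' hf
  · intro A'' A f'' hf B A' p' p'' f' h
    exact (bijective_cmp_of_bijective_right h hf).2
  · intro A'' D A g f hg hf ih B A' p' p'' f' h
    obtain ⟨B₁, q', q'', h₁⟩ := exists_fibreProd f' f hf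
    rw [surjective_cmp_iff]
    intro x' x'' e
    obtain ⟨z₁, e₁, e₂⟩ := (surjective_cmp_iff h₁).1 (ih q' q'' f' h₁) x' (F.map g x'')
      (by rw [e, map_map])
    obtain ⟨z, e₃, e₄⟩ := (surjective_cmp_iff (fibreProd_unpaste h h₁)).1
      (hF _ _ _ _ (fibreProd_unpaste h h₁) hg) z₁ x'' e₂
    refine ⟨z, ?_, e₄⟩
    rw [← e₁, ← e₃, map_map, fibreLift_fst]

theorem s1_iff_hbar : S1 F ↔ Hbar F :=
  ⟨fun hF _ _ _ _ p' p'' f' f'' h hs => hF p' p'' f' f'' h hs.1, s1_of_hbar⟩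

/-- From small extensions to all surjections, for bijectivity of comparison maps. -/
theorem rs_of_rs_small
    (hF : ∀ ⦃B A A' A'' : Art Λ k⦄ (p' : B ⟶ A') (p'' : B ⟶ A'') (f' : A' ⟶ A) (f'' : A'' ⟶ A)
      (h : IsFibreProd p' p'' f' f''), IsSmallExt f'' → Function.Bijective (cmp F h))
    ⦃B A A' A'' : Art Λ k⦄ (p' : B ⟶ A') (p'' : B ⟶ A'') (f' : A' ⟶ A) (f'' : A'' ⟶ A)
    (h : IsFibreProd p' p'' f' f'') (hf : Function.Surjective f'') :
    Function.Bijective (cmp F h) := by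
  have hbar : Hbar F := fun _ _ _ _ p' p'' f' f'' h hs => (hF p' p'' f' f'' h hs).2
  refine ⟨?_, s1_of_hbar hbar p' p'' f' f'' h hf⟩
  revert B A' p' p'' f' h
  refine surjective_induction (P := fun A'' A f'' =>
    ∀ ⦃B A' : Art Λ k⦄ (p' : B ⟶ A') (p'' : B ⟶ A'') (f' : A' ⟶ A)
      (h : IsFibreProd p' p'' f' f''), Function.Injective (cmp F h)) ?_ ?_ f'' hf
  · intro A'' A f'' hf B A' p' p'' f' h
    exact (bijective_cmp_of_bijective_right h hf).1
  · intro A'' D A g f hg hf ih B A' p' p'' f' h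
    obtain ⟨B₁, q', q'', h₁⟩ := exists_fibreProd f' f hf
    rw [injective_cmp_iff]
    intro z w e' e''
    refine (injective_cmp_iff (fibreProd_unpaste h h₁)).1
      (hF _ _ _ _ (fibreProd_unpaste h h₁) hg).1 z w ?_ e''
    refine (injective_cmp_iff h₁).1 (ih q' q'' f' h₁) _ _ ?_ ?_
    · simp only [map_map, fibreLift_fst]
      exact e'
    · simp only [map_map, fibreLift_snd]
      rw [← map_map, ← map_map, e'']

section Smooth

omit [IsNoetherianRing Λ] [Module.Finite Λ k]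

lemma surjective_relCmp_iff (η : F ⟶ G) {B A : Art Λ k} (μ : B ⟶ A) :
    Function.Surjective (relCmp η μ) ↔
      ∀ x y, η.app A x = G.map μ y → ∃ z, F.map μ z = x ∧ η.app B z = y := by
  refine ⟨fun hs x y e => ?_, fun hs y => ?_⟩
  · obtain ⟨z, hz⟩ := hs ⟨(x, y), e⟩
    exact ⟨z, congrArg (fun t => t.1.1) hz, congrArg (fun t => t.1.2) hz⟩
  · obtain ⟨z, h₁, h₂⟩ := hs y.1.1 y.1.2 y.2
    exact ⟨z, Subtype.ext (Prod.ext h₁ h₂)⟩

lemma isSmooth_iff (η : F ⟶ G) : IsSmooth η ↔ ∀ ⦃B A : Art Λ k⦄ (μ : B ⟶ A), Function.Surjective μ →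
    ∀ x y, η.app A x = G.map μ y → ∃ z, F.map μ z = x ∧ η.app B z = y :=
  ⟨fun h _ _ μ hμ => (surjective_relCmp_iff η μ).1 (h μ hμ),
    fun h _ _ μ hμ => (surjective_relCmp_iff η μ).2 (h μ hμ)⟩

lemma isSmooth_of_small (η : F ⟶ G)
    (h : ∀ ⦃B A : Art Λ k⦄ (μ : B ⟶ A), IsSmallExt μ →
      ∀ x y, η.app A x = G.map μ y → ∃ z, F.map μ z = x ∧ η.app B z = y) : IsSmooth η := by
  rw [isSmooth_iff]
  refine surjective_induction (P := fun B A μ =>
    ∀ x y, η.app A x = G.map μ y → ∃ z, F.map μ z = x ∧ η.app B z = y) ?_ ?_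
  · intro B A μ hμ x y e
    obtain ⟨z, rfl⟩ := (map_bijective F μ hμ).2 x
    exact ⟨z, rfl, (map_bijective G μ hμ).1 (by rw [← NatTrans.naturality_apply η, e])⟩
  · intro C B A g f hg _ ih x y e
    obtain ⟨z₁, e₁, e₂⟩ := ih x (G.map g y) (by rw [e, map_map])
    obtain ⟨z, e₃, e₄⟩ := h g hg z₁ y e₂
    exact ⟨z, by rw [← map_map, e₃, e₁], e₄⟩

lemma surjective_app_of_isSmooth (η : F ⟶ G) (hη : IsSmooth η)
    (h0 : Function.Surjective (η.app (base Λ k))) (A : Art Λ k) : Function.Surjective (η.app A) := by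
  intro y
  obtain ⟨x, hx⟩ := h0 (G.map (toBase A) y)
  obtain ⟨z, -, hz⟩ := (isSmooth_iff η).1 hη (toBase A) (surjective_toBase A) x y hx
  exact ⟨z, hz⟩

lemma surjective_app_base_of_h0 (η : F ⟶ G) (hF : H0 F) (hG : H0 G) :
    Function.Surjective (η.app (base Λ k)) :=
  fun _ => ⟨hF.1.some, @Subsingleton.elim _ hG.2 _ _⟩

lemma isSmooth_comp (η : F ⟶ G) (θ : G ⟶ H) (hη : IsSmooth η) (hθ : IsSmooth θ) :
    IsSmooth (η ≫ θ) := by
  rw [isSmooth_iff] at *
  intro B A μ hμ x y e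
  obtain ⟨y', e₁, e₂⟩ := hθ μ hμ (η.app A x) y e
  obtain ⟨z, e₃, e₄⟩ := hη μ hμ x y' e₁.symm
  exact ⟨z, e₃, (congrArg (θ.app B) e₄).trans e₂⟩

lemma isSmooth_of_comp_of_surjective (η : F ⟶ G) (θ : G ⟶ H)
    (hη : ∀ A, Function.Surjective (η.app A)) (h : IsSmooth (η ≫ θ)) : IsSmooth θ := by
  rw [isSmooth_iff] at *
  intro B A μ hμ x y e
  obtain ⟨x', rfl⟩ := hη A x
  obtain ⟨z, e₁, e₂⟩ := h μ hμ x' y e
  exact ⟨η.app B z, by rw [← NatTrans.naturality_apply η, e₁], e₂⟩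

lemma isSmoothFunctor_iff_of_isSmooth (η : F ⟶ G) (hη : IsSmooth η)
    (h0 : Function.Surjective (η.app (base Λ k))) : IsSmoothFunctor F ↔ IsSmoothFunctor G := by
  refine ⟨fun hF B A μ hμ y => ?_, fun hG B A μ hμ x => ?_⟩
  · obtain ⟨x, rfl⟩ := surjective_app_of_isSmooth η hη h0 A y
    obtain ⟨x', rfl⟩ := hF μ hμ x
    exact ⟨η.app B x', (NatTrans.naturality_apply η μ x').symm⟩
  · obtain ⟨y, hy⟩ := hG μ hμ (η.app A x)
    obtain ⟨z, hz, -⟩ := (isSmooth_iff η).1 hη μ hμ x y hy.symm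
    exact ⟨z, hz⟩

end Smooth

end Groth.Agent.ArtF85
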