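import Groth.Agent.ArtF85.Versal
import Mathlib.RingTheory.Derivation.Basic

/-!
# Hulls, minimal versal families, pro-representability
-/

set_option autoImplicit false
set_option linter.style.haveILetI false

universe u v

open CategoryTheory

namespace Groth.Agent.ArtF85

open ArtFun ArtFun.Art

variable {Λ : Type u} {k : Type u} [CommRing Λ] [Field k] [Algebra Λ k]
variable {F : Art Λ k ⥤ Type v}

section General

variable {R : Type u} [CommRing R] [Algebra Λ R] {resR : R →ₐ[Λ] k}

lemma bijective_cmp_hR {B A A' A'' : Art Λ k} {p' : B ⟶ A'} {p'' : B ⟶ A''} {f' : A' ⟶ A}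
    {f'' : A'' ⟶ A} (h : IsFibreProd p' p'' f' f'') : Function.Bijective (cmp (hR R resR) h) :=
  ⟨fun _ _ e => homSet_fibre_ext h (congrArg (fun t => t.1.1) e) (congrArg (fun t => t.1.2) e),
    (surjective_cmp_iff h).2 fun x' x'' e => exists_homSet_lift h x' x'' e⟩

lemma h0_hR : H0 (hR R resR) := ⟨⟨homSetBase R resR⟩, subsingleton_homSet_base⟩

lemma heps_hR : Heps (hR R resR) := fun _ _ _ _ h => bijective_cmp_hR h

lemma isVersal_of_isUniversal {ξ : Family R resR F} (hξ : IsUniversal ξ) : IsVersal ξ := by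
  intro B A μ _ φ y e
  obtain ⟨ψ, hψ⟩ := (hξ B).2 y
  exact ⟨ψ, (hξ A).1 (by rw [ξ.natural, hψ, e]), hψ⟩

lemma isMiniversal_of_isUniversal {ξ : Family R resR F} (hξ : IsUniversal ξ) : IsMiniversal ξ :=
  ⟨isVersal_of_isUniversal hξ, hξ _⟩

lemma isLeftExact_of_isUniversal {ξ : Family R resR F} (hξ : IsUniversal ξ) : IsLeftExact F := by
  intro B A A' A'' p' p'' f' f'' h
  refine ⟨(injective_cmp_iff h).2 fun z w e₁ e₂ => ?_, (surjective_cmp_iff h).2 fun x' x'' e => ?_⟩
  · obtain ⟨a, rfl⟩ := (hξ B).2 z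
    obtain ⟨b, rfl⟩ := (hξ B).2 w
    exact congrArg (ξ.app B) (homSet_fibre_ext h ((hξ A').1 (by rw [ξ.natural, ξ.natural, e₁]))
      ((hξ A'').1 (by rw [ξ.natural, ξ.natural, e₂])))
  · obtain ⟨a, rfl⟩ := (hξ A').2 x'
    obtain ⟨b, rfl⟩ := (hξ A'').2 x''
    obtain ⟨ψ, rfl, rfl⟩ := exists_homSet_lift h a b ((hξ A).1 (by rw [ξ.natural, ξ.natural, e]))
    exact ⟨ξ.app B ψ, (ξ.natural _ _).symm, (ξ.natural _ _).symm⟩

lemma homSet_map_zeroHom {A : Art Λ k} (φ : HomSet R resR A) :
    HomSet.map (zeroHom A) φ = HomSet.map (zeroHom (base Λ k)) (homSetBase R resR) :=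
  dual_homSet_ext fun r => by rw [homSet_map_apply, homSet_map_apply, eps_zeroHom, eps_zeroHom]

lemma hom_base_injective (hres : Function.Surjective resR) {d d' : base Λ k ⟶ dual Λ k}
    (h : HomSet.map d (homSetBase R resR) = HomSet.map d' (homSetBase R resR)) : d = d' :=
  hom_ext_apply fun c => by
    obtain ⟨r, rfl⟩ := hres c
    exact congrArg (fun t : HomSet R resR (dual Λ k) => t.1 r) h

/-- Without derivations of `k` there is only the zero morphism from `k` to `k[ε]`. -/
lemma base_hom_eq_zero (hk : Subsingleton (Derivation Λ k k)) (d : base Λ k ⟶ dual Λ k) :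
    d = zeroHom (base Λ k) := by
  let g : k →ₐ[Λ] dual Λ k := d.toAlgHom
  have hg : ∀ c : k, (dual Λ k).res (g c) = c := fun c => res_app d c
  let L : k →ₗ[Λ] k :=
    { toFun := fun c => eps (g c)
      map_add' := fun a b => by rw [map_add, eps_add]
      map_smul' := fun r a => by
        rw [RingHom.id_apply, Algebra.smul_def r a, map_mul, eps_mul, AlgHom.commutes, eps_algebraMap,
          mul_zero, add_zero, AlgHom.commutes, Algebra.smul_def] }
  let D : Derivation Λ k k := Derivation.mk' L fun a b => by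
    change eps (g (a * b)) = a • eps (g b) + b • eps (g a)
    rw [map_mul, eps_mul, hg, hg]
    rfl
  refine dual_hom_ext fun c => ?_
  rw [eps_zeroHom]
  exact congrArg (fun E : Derivation Λ k k => E c) (@Subsingleton.elim _ hk D 0)

lemma subsingleton_derivation_of_surjective (hk : Function.Surjective (algebraMap Λ k)) :
    Subsingleton (Derivation Λ k k) :=
  ⟨fun D D' => Derivation.ext fun c => by
    obtain ⟨r, rfl⟩ := hk c
    rw [Derivation.map_algebraMap, Derivation.map_algebraMap]⟩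

lemma moduleFinite_of_surjective (hk : Function.Surjective (algebraMap Λ k)) : Module.Finite Λ k :=
  Module.Finite.of_surjective (Algebra.linearMap Λ k) hk

lemma surjective_algebraMap_of_tower [Algebra k Λ] [IsScalarTower k Λ k] :
    Function.Surjective (algebraMap Λ k) :=
  fun c => ⟨algebraMap k Λ c, (IsScalarTower.algebraMap_apply k Λ k c).symm⟩

section Linear

variable [TangentStr F] [TangentStr (hR R resR)]

/-- The tangent map of a family is linear. -/
noncomputable def familyLinearMap (ξ : Family R resR F) :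
    TangentSpace (hR R resR) →ₗ[k] TangentSpace F where
  toFun := TangentSpace.ofFamily ξ
  map_add' x y := by
    obtain ⟨z, rfl, rfl⟩ := exists_pair h0_hR heps_hR x y
    rw [tan_add]
    exact family_map_addHom ξ pr₁ pr₂ z
  map_smul' c x := by
    rw [RingHom.id_apply]
    exact (congrArg (TangentSpace.ofFamily ξ) (TangentStr.smul_eq (F := hR R resR) c x)).trans
      (family_map_scale ξ c x)

end Linear

/-- Injectivity on `k[ε]` from triviality of the fibre over zero. -/
lemma injective_of_zero_fibre [TangentStr F] (ξ : Family R resR F)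
    (h : ∀ δ : HomSet R resR (dual Λ k), TangentSpace.ofFamily ξ δ = 0 →
      δ = HomSet.map (zeroHom (base Λ k)) (homSetBase R resR)) :
    Function.Injective (ξ.app (dual Λ k)) := by
  letI := tangentStrOf (h0_hR (R := R) (resR := resR)) heps_hR
  refine (injective_iff_map_eq_zero (familyLinearMap ξ)).2 fun x hx => ?_
  rw [← tan_zeroHom (F := hR R resR) (homSetBase R resR)]
  exact h x hx

end General

section Completion

variable {R S : CRing Λ k}

lemma algHom_eq_of_trunc {g g' : R.carrier →ₐ[Λ] S.carrier}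
    (h : ∀ n r, (S.truncHom n).1 (g r) = (S.truncHom n).1 (g' r)) : g = g' :=
  AlgHom.ext fun r => (exists_unique_limit S (fun n => (S.truncHom n).1 (g' r)) fun n => by
    rw [← homSet_map_apply, S.truncMap_truncHom]).unique (fun n => h n r) (fun n => rfl)

lemma eq_of_along_eq {ξ : Family R.carrier R.res F} (hξ : IsUniversal ξ)
    {g g' : R.carrier →ₐ[Λ] S.carrier} (hg : S.res.comp g = R.res) (hg' : S.res.comp g' = R.res)
    (h : ξ.along g hg = ξ.along g' hg') : g = g' :=
  algHom_eq_of_trunc fun n r => by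
    have h1 := congrArg (fun η : Family S.carrier S.res F => η.app _ (S.truncHom n)) h
    exact congrArg (fun t : HomSet R.carrier R.res (S.trunc n) => t.1 r) ((hξ _).1 h1)

lemma along_along {T : CRing Λ k} (ξ : Family R.carrier R.res F) (g : R.carrier →ₐ[Λ] S.carrier)
    (hg : S.res.comp g = R.res) (h : S.carrier →ₐ[Λ] T.carrier) (hh : T.res.comp h = S.res)
    (hgh : T.res.comp (h.comp g) = R.res) : (ξ.along g hg).along h hh = ξ.along (h.comp g) hgh :=
  family_ext fun A φ => congrArg (ξ.app A) (homSet_ext fun r => rfl)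

/-- The minimality criterion. -/
lemma isMinimalVersal_of_tangent [TangentStr F] {ξ : Family R.carrier R.res F} (hξ : IsVersal ξ)
    (h : ∀ δ : HomSet R.carrier R.res (dual Λ k), TangentSpace.ofFamily ξ δ = 0 →
      ∃ d : base Λ k ⟶ dual Λ k, δ = HomSet.map d (homSetBase R.carrier R.res)) :
    ξ.IsMinimalVersal := by
  refine ⟨hξ, fun R' u f hf he => surjective_of_derivations f hf fun δ hδ a => ?_⟩
  have hzero : CRing.truncMapOfHom f hf 1 ≫ δ = zeroHom _ := dual_hom_ext fun x => by
    obtain ⟨x, rfl⟩ := truncHom_surjective R' 1 x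
    rw [eps_zeroHom]
    exact hδ x
  obtain ⟨d, hd⟩ := h (HomSet.map δ (R.truncHom 1)) (by
    change ξ.app _ _ = _
    rw [ξ.natural, show ξ.app _ (R.truncHom 1) = F.map (CRing.truncMapOfHom f hf 1) (u.elt 1) from
      (congrArg (fun w => w.elt 1) he).symm, map_map, hzero]
    exact tan_zeroHom (u.elt 1))
  obtain ⟨a, rfl⟩ := truncHom_surjective R 1 a
  obtain ⟨x, hx⟩ := R'.res_surjective (R.res a)
  have h1 : ∀ r, eps (δ ((R.truncHom 1).1 r)) = eps (d (R.res r)) := fun r =>
    congrArg (fun t : HomSet R.carrier R.res (dual Λ k) => eps (t.1 r)) hd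
  rw [h1, ← hx, ← AlgHom.congr_fun hf x]
  exact (h1 (f x)).symm.trans (hδ x)

lemma isMinimalVersal_of_isMiniversal {ξ : Family R.carrier R.res F} (hξ : IsMiniversal ξ) :
    ξ.IsMinimalVersal := by
  letI := tangentStrOf (h0_of_isMiniversal hξ) (heps_of_isMiniversal hξ)
  refine isMinimalVersal_of_tangent hξ.1 fun δ h0 => ⟨zeroHom _, hξ.2.1 ?_⟩
  rw [ξ.natural]
  exact h0.trans (tan_zeroHom _).symm

lemma toFormalElt_along_id (ξ : Family R.carrier R.res F) :
    ξ.along (AlgHom.id Λ R.carrier) (AlgHom.comp_id _) = ξ :=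
  family_ext fun A φ => congrArg (ξ.app A) (homSet_ext fun _ => rfl)

/-- Minimal versal families are unique. -/
theorem minimalVersal_unique (h0 : H0 F) {R₁ R₂ : CRing Λ k} (ξ₁ : Family R₁.carrier R₁.res F)
    (ξ₂ : Family R₂.carrier R₂.res F) (h₁ : ξ₁.IsMinimalVersal) (h₂ : ξ₂.IsMinimalVersal) :
    ∃ (e : R₁.carrier ≃ₐ[Λ] R₂.carrier) (he : R₂.res.comp (e : R₁.carrier →ₐ[Λ] R₂.carrier) = R₁.res),
      ξ₁.along (e : R₁.carrier →ₐ[Λ] R₂.carrier) he = ξ₂ := by
  obtain ⟨g, hg, hgξ⟩ := exists_along_toFormalElt_eq h0 ξ₁ h₁.1 R₂ ξ₂.toFormalElt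
  obtain ⟨h, hh, hhξ⟩ := exists_along_toFormalElt_eq h0 ξ₂ h₂.1 R₁ ξ₁.toFormalElt
  have hgs : Function.Surjective g :=
    h₂.2 R₁ ξ₁.toFormalElt g hg ((along_toFormalElt ξ₁ g hg).symm.trans hgξ)
  have hhs : Function.Surjective h :=
    h₁.2 R₂ ξ₂.toFormalElt h hh ((along_toFormalElt ξ₂ h hh).symm.trans hhξ)
  have hinj : Function.Injective g := fun a b e => by
    refine injective_of_surjective_endo (h.toRingHom.comp g.toRingHom) (hhs.comp hgs) ?_
    exact congrArg h e
  exact ⟨AlgEquiv.ofBijective g ⟨hinj, hgs⟩, hg, family_eq_of_toFormalElt_eq hgξ⟩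

end Completion

variable [IsNoetherianRing Λ] [Module.Finite Λ k]

omit [IsNoetherianRing Λ] in
lemma hfin_of_surjective [TangentStr F] (R : CRing Λ k) (ξ : Family R.carrier R.res F)
    (hs : Function.Surjective (ξ.app (dual Λ k))) : Hfin F := by
  letI := tangentStrOf (h0_hR (R := R.carrier) (resR := R.res)) heps_hR
  haveI : Module.Finite k (TangentSpace (hR R.carrier R.res)) :=
    hfin_of_bijective R (Family.self R.carrier R.res) Function.bijective_id
  exact Module.Finite.of_surjective (familyLinearMap ξ) hs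

theorem hasVersal_of_conditions [TangentStr F] (h0 : H0 F) (h1 : S1 F) (h2 : Heps F) (h3 : Hfin F) :
    HasVersal F := by
  obtain ⟨R, ξ, hξ, -⟩ := exists_minimal_versal h0 h1 h2 h3
  exact ⟨⟨R, ξ, hξ⟩⟩

theorem hasHull_of_conditions [TangentStr F] (hk : Subsingleton (Derivation Λ k k))
    (h0 : H0 F) (h1 : S1 F) (h2 : Heps F) (h3 : Hfin F) : HasHull F := by
  obtain ⟨R, ξ, hξ, hmin⟩ := exists_minimal_versal h0 h1 h2 h3
  refine ⟨⟨R, ξ, hξ, injective_of_zero_fibre ξ fun δ hδ => ?_, surjective_app_of_isVersal h0 hξ _⟩⟩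
  obtain ⟨d, hd, -⟩ := hmin δ hδ
  rw [hd, base_hom_eq_zero hk d]

theorem isMiniversal_of_isMinimalVersal (hk : Subsingleton (Derivation Λ k k)) (h0 : H0 F) (h2 : Heps F)
    {R : CRing Λ k} (ξ : Family R.carrier R.res F) (hξ : ξ.IsMinimalVersal) : IsMiniversal ξ := by
  letI := tangentStrOf h0 h2
  obtain ⟨H⟩ := hasHull_of_conditions hk h0 (hbar_of_isVersal h0 hξ.1) h2
    (hfin_of_surjective R ξ (surjective_app_of_isVersal h0 hξ.1 _))
  obtain ⟨e, he, hξe⟩ := minimalVersal_unique h0 ξ H.family hξ (isMinimalVersal_of_isMiniversal H.miniversal)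
  refine ⟨hξ.1, fun φ φ' e' => ?_, surjective_app_of_isVersal h0 hξ.1 _⟩
  have hsymm : R.res.comp (e.symm : H.ring.carrier →ₐ[Λ] R.carrier) = H.ring.res := by
    apply AlgHom.ext
    intro x
    exact (AlgHom.congr_fun he (e.symm x)).symm.trans (congrArg H.ring.res (e.apply_symm_apply x))
  let back : HomSet R.carrier R.res (dual Λ k) → HomSet H.ring.carrier H.ring.res (dual Λ k) := fun ψ =>
    ⟨ψ.1.comp (e.symm : H.ring.carrier →ₐ[Λ] R.carrier), by rw [← AlgHom.comp_assoc, ψ.2, hsymm]⟩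
  have hb : ∀ ψ, H.family.app _ (back ψ) = ξ.app _ ψ := fun ψ => by
    rw [← hξe]
    exact congrArg (ξ.app _) (homSet_ext fun r => congrArg ψ.1 (e.symm_apply_apply r))
  have h3 : back φ = back φ' := H.miniversal.2.1 (by rw [hb, hb, e'])
  refine homSet_ext fun r => ?_
  have h4 := congrArg (fun t : HomSet H.ring.carrier H.ring.res (dual Λ k) => t.1 (e r)) h3
  exact (congrArg φ.1 (e.symm_apply_apply r)).symm.trans (h4.trans (congrArg φ'.1 (e.symm_apply_apply r)))

/-- Universal families from injectivity on kernel pairs and tangent injectivity. -/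
theorem isProrepresentable_of_conditions [TangentStr F] (h0 : H0 F) (h1 : S1 F) (h2 : Heps F) (h3 : Hfin F)
    (h4 : ∀ ⦃B A A' : Art Λ k⦄ (p₁ p₂ : B ⟶ A') (f : A' ⟶ A) (h : IsFibreProd p₁ p₂ f f),
      IsSmallExt f → Function.Injective (cmp F h))
    (hinj : Function.Injective (fun d : base Λ k ⟶ dual Λ k => F.map d h0.1.some)) :
    IsProrepresentable F := by
  obtain ⟨R, ξ, hξ, hmin⟩ := exists_minimal_versal h0 h1 h2 h3
  refine ⟨⟨R, ξ, fun A => ⟨injective_family_app h4 ξ (injective_of_zero_fibre ξ fun δ hδ => ?_) A,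
    surjective_app_of_isVersal h0 hξ A⟩⟩⟩
  obtain ⟨d, hd, hd0⟩ := hmin δ hδ
  rw [hd]
  congr 1
  exact hinj (hd0.trans (tan_zeroHom h0.1.some).symm)

end Groth.Agent.ArtF85
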