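import Groth.Agent.ArtF85.PowerSeries
import Groth.Agent.ArtF85.Hull

/-!
# The classical case: `Λ` complete local with residue field `k`
-/

set_option autoImplicit false
set_option linter.style.haveILetI false

universe u v

open CategoryTheory

namespace Groth.Agent.ArtF85

open ArtFun ArtFun.Art

variable {Λ : Type u} {k : Type u} [CommRing Λ] [Field k] [Algebra Λ k]

/-- An Artinian object as a coefficient ring. -/
noncomputable def artCRing (A : Art Λ k) : CRing Λ k :=
  { carrier := A
    res := A.res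
    res_surjective := A.res_surjective
    isAdicComplete := by
      obtain ⟨N, hN⟩ := exists_pow_maximalIdeal_eq_bot A
      refine { toIsHausdorff := ⟨fun x hx => ?_⟩, toIsPrecomplete := ⟨fun f hf => ⟨f N, fun n => ?_⟩⟩ }
      · have h := hx N
        rw [hN, Submodule.bot_smul, SModEq.bot] at h
        exact h
      · rcases le_total n N with h | h
        · exact hf h
        · have h1 := hf h
          rw [hN, Submodule.bot_smul, SModEq.bot] at h1
          rw [h1] }

/-- Algebra maps to the residue field agree when `Λ → k` is surjective. -/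
lemma res_eq_of_surjective (hk : Function.Surjective (algebraMap Λ k)) (S : CRing Λ k) (f : S.carrier →ₐ[Λ] k) :
    f = S.res := by
  have hf : Function.Surjective f := fun c => by
    obtain ⟨l, rfl⟩ := hk c
    exact ⟨algebraMap Λ S.carrier l, f.commutes l⟩
  haveI := RingHom.ker_isMaximal_of_surjective f hf
  have hker : RingHom.ker f = IsLocalRing.maximalIdeal S.carrier := IsLocalRing.eq_maximalIdeal inferInstance
  refine AlgHom.ext fun s => ?_
  obtain ⟨l, hl⟩ := hk (S.res s)
  have h : s - algebraMap Λ S.carrier l ∈ RingHom.ker f := by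
    rw [hker, S.mem_maximalIdeal_iff, map_sub, AlgHom.commutes, hl, sub_self]
  rw [RingHom.mem_ker, map_sub, sub_eq_zero] at h
  rw [h, AlgHom.commutes, hl]

variable [IsNoetherianRing Λ] [IsLocalRing Λ] [IsAdicComplete (IsLocalRing.maximalIdeal Λ) Λ]

/-- `Λ` as a coefficient ring. -/
noncomputable def lamRing (hk : Function.Surjective (algebraMap Λ k)) : CRing Λ k :=
  { carrier := Λ
    res := Algebra.ofId Λ k
    res_surjective := hk
    isAdicComplete := inferInstance }

omit [IsNoetherianRing Λ] [IsAdicComplete (IsLocalRing.maximalIdeal Λ) Λ] in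
lemma algebraMap_mem_maximalIdeal (hk : Function.Surjective (algebraMap Λ k)) (S : CRing Λ k) {a : Λ}
    (ha : a ∈ IsLocalRing.maximalIdeal Λ) : algebraMap Λ S.carrier a ∈ IsLocalRing.maximalIdeal S.carrier := by
  haveI := RingHom.ker_isMaximal_of_surjective (algebraMap Λ k) hk
  have h : IsLocalRing.maximalIdeal Λ = RingHom.ker (algebraMap Λ k) :=
    (IsLocalRing.eq_maximalIdeal inferInstance).symm
  rw [S.mem_maximalIdeal_iff, AlgHom.commutes]
  exact RingHom.mem_ker.1 (h ▸ ha)

/-- Maps out of `Λ[[X]]` into an Artinian object are determined by the variables. -/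
lemma psLam_homSet_ext (hk : Function.Surjective (algebraMap Λ k)) {n : ℕ} {A : Art Λ k}
    {φ ψ : HomSet (psRing (lamRing hk) n).carrier (psRing (lamRing hk) n).res A}
    (h : ∀ i, φ.1 (psX (lamRing hk) n i) = ψ.1 (psX (lamRing hk) n i)) : φ = ψ := by
  refine Subtype.ext (psHom_ext (T := artCRing A) φ.2 (AlgHom.ext fun l => ?_) h)
  exact ((φ.1.comp (psC (lamRing hk) n)).commutes l).trans ((ψ.1.comp (psC (lamRing hk) n)).commutes l).symm

/-- `h` of a power series ring over `Λ` is smooth. -/
theorem isSmoothFunctor_psRing (hk : Function.Surjective (algebraMap Λ k)) (n : ℕ) :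
    IsSmoothFunctor (hR (psRing (lamRing hk) n).carrier (psRing (lamRing hk) n).res) := by
  intro B A μ hμ φ
  choose b hb using fun i => hμ (φ.1 (psX (lamRing hk) n i))
  obtain ⟨G, hG, -, hGX⟩ := exists_psHom (R' := lamRing hk) (n := n) (artCRing B) (Algebra.ofId Λ B) b
    (fun i => by
      change B.res (b i) = 0
      rw [← res_app μ, hb]
      exact (res_homSet_apply φ _).trans (res_psX _ _ i))
    (AlgHom.ext fun l => B.res.commutes l)
  refine ⟨⟨G, hG⟩, psLam_homSet_ext hk fun i => ?_⟩
  change μ (G (psX (lamRing hk) n i)) = _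
  rw [hGX]
  exact hb i

/-- `y` spans the maximal ideal modulo the square and the coefficients. -/
def SpansCot (S : CRing Λ k) {n : ℕ} (y : Fin n → S.carrier) : Prop :=
  (∀ i, y i ∈ IsLocalRing.maximalIdeal S.carrier) ∧
    IsLocalRing.maximalIdeal S.carrier ≤ Ideal.span (Set.range y) ⊔
      (IsLocalRing.maximalIdeal Λ).map (algebraMap Λ S.carrier) ⊔ IsLocalRing.maximalIdeal S.carrier ^ 2

omit [IsAdicComplete (IsLocalRing.maximalIdeal Λ) Λ] in
/-- A map hitting a spanning family is surjective. -/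
theorem surjective_of_spansCot (hk : Function.Surjective (algebraMap Λ k)) {S R : CRing Λ k} {n : ℕ}
    {y : Fin n → R.carrier} (hy : SpansCot R y) (f : S.carrier →ₐ[Λ] R.carrier) (hf : R.res.comp f = S.res)
    (hfy : ∀ i, ∃ s, f s = y i) : Function.Surjective f := by
  refine surjective_of_surjective_trunc f hf fun t => ?_
  obtain ⟨r, rfl⟩ := truncHom_surjective R 1 t
  suffices H : ∀ z ∈ Ideal.span (Set.range y) ⊔ (IsLocalRing.maximalIdeal Λ).map (algebraMap Λ R.carrier) ⊔
      IsLocalRing.maximalIdeal R.carrier ^ 2, ∃ s, (R.truncHom 1).1 (f s) = (R.truncHom 1).1 z by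
    obtain ⟨l, hl⟩ := hk (R.res r)
    obtain ⟨s, hs⟩ := H _ (hy.2 ((R.mem_maximalIdeal_iff (r - algebraMap Λ R.carrier l)).2
      (by rw [map_sub, AlgHom.commutes, hl, sub_self])))
    exact ⟨s + algebraMap Λ S.carrier l, by
      change (R.truncHom 1).1 (f (s + algebraMap Λ S.carrier l)) = _
      rw [map_add, map_add, hs, AlgHom.commutes, ← map_add, sub_add_cancel]⟩
  have hsq : ∀ z ∈ IsLocalRing.maximalIdeal R.carrier ^ 2, (R.truncHom 1).1 z = 0 := fun z hz => by
    rw [← RingHom.mem_ker, ker_truncHom]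
    exact hz
  have hgen : ∀ (g : R.carrier), g ∈ IsLocalRing.maximalIdeal R.carrier → (∃ s, f s = g) → ∀ c,
      ∃ s, (R.truncHom 1).1 (f s) = (R.truncHom 1).1 (c * g) := by
    rintro g hg ⟨s, rfl⟩ c
    obtain ⟨l, hl⟩ := hk (R.res c)
    refine ⟨algebraMap Λ S.carrier l * s, ?_⟩
    rw [map_mul f, AlgHom.commutes, eq_comm, ← sub_eq_zero, ← map_sub]
    refine hsq _ ?_
    rw [← sub_mul, pow_two]
    exact Ideal.mul_mem_mul ((R.mem_maximalIdeal_iff _).2 (by rw [map_sub, AlgHom.commutes, hl, sub_self])) hg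
  intro z hz
  obtain ⟨z₁, hz₁, z₃, hz₃, rfl⟩ := Submodule.mem_sup.1 hz
  rw [Ideal.map, ← Ideal.span_union] at hz₁
  suffices H : ∃ s, (R.truncHom 1).1 (f s) = (R.truncHom 1).1 z₁ by
    obtain ⟨s, hs⟩ := H
    exact ⟨s, by rw [map_add, hs, hsq _ hz₃, add_zero]⟩
  obtain ⟨T, hT, hmem⟩ := Submodule.mem_span_finite_of_mem_span hz₁
  obtain ⟨c, rfl⟩ := Submodule.mem_span_finset'.1 hmem
  have : ∀ a : T, ∃ s, (R.truncHom 1).1 (f s) = (R.truncHom 1).1 (c a • (a : R.carrier)) := by
    rintro ⟨a, ha⟩
    rcases hT ha with ⟨i, rfl⟩ | ⟨l, hl, rfl⟩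
    · exact hgen _ (hy.1 i) (hfy i) _
    · exact hgen _ (algebraMap_mem_maximalIdeal hk R hl) ⟨algebraMap Λ S.carrier l, f.commutes l⟩ _
  choose s hs using this
  exact ⟨∑ a, s a, by rw [map_sum, map_sum, map_sum]; exact Finset.sum_congr rfl fun a _ => hs a⟩

/-- The variables span the maximal ideal of `Λ[[X]]`. -/
theorem spansCot_psX (hk : Function.Surjective (algebraMap Λ k)) (n : ℕ) :
    SpansCot (psRing (lamRing hk) n) (psX (lamRing hk) n) := by
  refine ⟨fun i => ((psRing (lamRing hk) n).mem_maximalIdeal_iff _).2 (res_psX _ _ i), fun f hf => ?_⟩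
  refine Submodule.mem_sup_left ?_
  let g : MvPowerSeries (Fin n) (lamRing hk).carrier := f
  have h0 : (lamRing hk).res (MvPowerSeries.constantCoeff g) = 0 :=
    ((psRing (lamRing hk) n).mem_maximalIdeal_iff f).1 hf
  have h1 : g - MvPowerSeries.C (MvPowerSeries.constantCoeff g) ∈ varIdeal (lamRing hk) n :=
    mem_varIdeal_iff.2 (by rw [map_sub, MvPowerSeries.constantCoeff_C, sub_self])
  have e : f = (g - MvPowerSeries.C (MvPowerSeries.constantCoeff g)) +
      MvPowerSeries.C (MvPowerSeries.constantCoeff g) := (sub_add_cancel g _).symm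
  rw [e]
  refine Submodule.add_mem _ (Submodule.mem_sup_left h1) (Submodule.mem_sup_right ?_)
  exact Ideal.mem_map_of_mem _ (((lamRing hk).mem_maximalIdeal_iff (MvPowerSeries.constantCoeff g)).2 h0)

variable [Module.Finite Λ k]

/-- A coefficient ring with smooth functor is a power series ring over `Λ`. -/
theorem exists_equiv_psRing (hk : Function.Surjective (algebraMap Λ k)) (R : CRing Λ k)
    (hR' : IsSmoothFunctor (hR R.carrier R.res)) :
    ∃ n, Nonempty (R.carrier ≃ₐ[Λ] (psRing (lamRing hk) n).carrier) := by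
  classical
  have hex : ∃ n, ∃ y : Fin n → R.carrier, SpansCot R y := by
    obtain ⟨n, y, hy⟩ := Submodule.fg_iff_exists_fin_generating_family.1
      (IsNoetherian.noetherian (IsLocalRing.maximalIdeal R.carrier))
    exact ⟨n, y, fun i => by rw [← hy]; exact Submodule.subset_span ⟨i, rfl⟩,
      le_sup_of_le_left (le_sup_of_le_left hy.ge)⟩
  obtain ⟨n, hn⟩ : ∃ n, n = Nat.find hex := ⟨_, rfl⟩
  obtain ⟨y, hy⟩ : ∃ y : Fin n → R.carrier, SpansCot R y := hn ▸ Nat.find_spec hex
  obtain ⟨π, hπ, -, hπX⟩ := exists_psHom (R' := lamRing hk) (n := n) R (Algebra.ofId Λ R.carrier) y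
    (fun i => (R.mem_maximalIdeal_iff _).1 (hy.1 i)) (AlgHom.ext fun l => R.res.commutes l)
  have hπs : Function.Surjective π := surjective_of_spansCot hk hy π hπ fun i => ⟨_, hπX i⟩
  obtain ⟨s, hs, hsπ⟩ := exists_section_of_isSmoothFunctor _ R π hπ hπs hR'
  have hkey : ∀ z, π z = 0 → z ∈ (IsLocalRing.maximalIdeal Λ).map (algebraMap Λ (psRing (lamRing hk) n).carrier) ⊔
      IsLocalRing.maximalIdeal (psRing (lamRing hk) n).carrier ^ 2 := by
    intro z hz
    have hzm : z ∈ IsLocalRing.maximalIdeal (psRing (lamRing hk) n).carrier :=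
      ((psRing (lamRing hk) n).mem_maximalIdeal_iff z).2 (by rw [← hπ, AlgHom.comp_apply, hz, map_zero])
    obtain ⟨z₁, hz₁, z₃, hz₃, rfl⟩ := Submodule.mem_sup.1 ((spansCot_psX hk n).2 hzm)
    obtain ⟨z₂, hz₂, z₄, hz₄, rfl⟩ := Submodule.mem_sup.1 hz₁
    obtain ⟨c, rfl⟩ := (Submodule.mem_span_range_iff_exists_fun _).1 hz₂
    refine Ideal.add_mem _ (Ideal.add_mem _ (Submodule.sum_mem _ fun i _ => ?_) (Submodule.mem_sup_left hz₄))
      (Submodule.mem_sup_right hz₃)
    refine Submodule.mem_sup_right ?_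
    rw [pow_two, smul_eq_mul]
    refine Ideal.mul_mem_mul ?_ ((spansCot_psX hk n).1 i)
    by_contra hu
    obtain ⟨m, hm⟩ : ∃ m, n = m + 1 := Nat.exists_eq_succ_of_ne_zero (fun h0 => (h0 ▸ i).elim0)
    set Q := Ideal.span (Set.range fun j : {j // j ≠ i} => y j.1) ⊔
      (IsLocalRing.maximalIdeal Λ).map (algebraMap Λ R.carrier) ⊔ IsLocalRing.maximalIdeal R.carrier ^ 2 with hQ
    have hle : ∀ a, a ∈ (IsLocalRing.maximalIdeal Λ).map (algebraMap Λ (psRing (lamRing hk) n).carrier) →
        π a ∈ Q := fun a ha => by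
      have := Ideal.mem_map_of_mem π.toRingHom ha
      rw [Ideal.map_map, show π.toRingHom.comp (algebraMap Λ _) = algebraMap Λ R.carrier from π.comp_algebraMap] at this
      exact Submodule.mem_sup_left (Submodule.mem_sup_right this)
    have hle2 : π z₃ ∈ Q := by
      refine Submodule.mem_sup_right ?_
      have := Ideal.mem_map_of_mem π hz₃
      rw [Ideal.map_pow] at this
      exact Ideal.pow_right_mono (map_maximalIdeal_le_of_res π hπ) 2 this
    have hyi : y i ∈ Q := by
      have h := hz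
      rw [map_add, map_add, map_sum, ← Finset.add_sum_erase _ _ (Finset.mem_univ i)] at h
      simp only [smul_eq_mul, map_mul, hπX] at h
      have h2 : π (c i) * y i ∈ Q := by
        rw [eq_sub_of_add_eq (by linear_combination h :
          π (c i) * y i + (∑ j ∈ Finset.univ.erase i, π (c j) * y j + π z₄ + π z₃) = 0), zero_sub]
        refine Q.neg_mem (Q.add_mem (Q.add_mem (Submodule.sum_mem _ fun j hj => ?_) (hle _ hz₄)) hle2)
        exact Ideal.mul_mem_left _ _ (Submodule.mem_sup_left (Submodule.mem_sup_left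
          (Ideal.subset_span ⟨⟨j, (Finset.mem_erase.1 hj).1⟩, rfl⟩)))
      have hu' : IsUnit (π (c i)) := (IsLocalRing.notMem_maximalIdeal.1 hu).map π
      exact (Ideal.unit_mul_mem_iff_mem Q hu').1 h2
    have e : {j : Fin n // j ≠ i} ≃ Fin m := Fintype.equivFinOfCardEq (by
      rw [Fintype.card_subtype_compl, Fintype.card_fin, Fintype.card_subtype_eq]
      omega)
    refine Nat.find_min hex (show m < Nat.find hex by omega) ⟨fun j => y (e.symm j).1, fun j => hy.1 _, ?_⟩
    have hrange : Set.range (fun j => y (e.symm j).1) = Set.range fun j : {j // j ≠ i} => y j.1 :=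
      e.symm.surjective.range_comp fun j : {j // j ≠ i} => y j.1
    rw [hrange, ← hQ]
    refine hy.2.trans (sup_le (sup_le (Ideal.span_le.2 ?_) (le_sup_of_le_left le_sup_right)) le_sup_right)
    rintro _ ⟨j, rfl⟩
    rcases eq_or_ne j i with rfl | hj
    · exact hyi
    · exact Submodule.mem_sup_left (Submodule.mem_sup_left (Ideal.subset_span ⟨⟨j, hj⟩, rfl⟩))
  let f := s.comp π
  have hf : (psRing (lamRing hk) n).res.comp f = (psRing (lamRing hk) n).res := by
    rw [← AlgHom.comp_assoc, hs, hπ]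
  have hfs : Function.Surjective f := by
    have hm : ∀ i, f (psX (lamRing hk) n i) ∈ IsLocalRing.maximalIdeal (psRing (lamRing hk) n).carrier := fun i =>
      map_maximalIdeal_le_of_res f hf (Ideal.mem_map_of_mem f ((spansCot_psX hk n).1 i))
    refine surjective_of_spansCot hk ⟨hm, ?_⟩ f hf fun i => ⟨_, rfl⟩
    refine (spansCot_psX hk n).2.trans (sup_le (sup_le (Ideal.span_le.2 ?_) (le_sup_of_le_left le_sup_right))
      le_sup_right)
    rintro _ ⟨i, rfl⟩
    have hz : π (psX (lamRing hk) n i - f (psX (lamRing hk) n i)) = 0 := by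
      rw [map_sub, sub_eq_zero]
      exact (AlgHom.congr_fun hsπ _).symm
    rw [show psX (lamRing hk) n i =
      f (psX (lamRing hk) n i) + (psX (lamRing hk) n i - f (psX (lamRing hk) n i)) from (add_sub_cancel _ _).symm]
    refine Submodule.add_mem _ (Submodule.mem_sup_left (Submodule.mem_sup_left (Ideal.subset_span ⟨i, rfl⟩))) ?_
    exact (sup_le (le_sup_of_le_left le_sup_right) le_sup_right :
      (IsLocalRing.maximalIdeal Λ).map (algebraMap Λ (psRing (lamRing hk) n).carrier) ⊔
        IsLocalRing.maximalIdeal (psRing (lamRing hk) n).carrier ^ 2 ≤ _) (hkey _ hz)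
  have hinj : Function.Injective π := fun a b e =>
    injective_of_surjective_endo f.toRingHom hfs (congrArg s e)
  exact ⟨n, ⟨(AlgEquiv.ofBijective π ⟨hinj, hπs⟩).symm⟩⟩

end Groth.Agent.ArtF85
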