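import Groth.Prelude.Def_ArtFun2
import Groth.Prelude.Def_ArtFun3
import Mathlib.RingTheory.HopkinsLevitzki
import Mathlib.RingTheory.Finiteness.Basic
import Mathlib.RingTheory.Noetherian.Basic

/-!
# Augmented local Artinian algebras: basic structure, small extensions, fibre products
-/

set_option autoImplicit false
set_option linter.style.haveILetI false

universe u v

open CategoryTheory

namespace Groth.Agent.ArtF85

open ArtFun ArtFun.Art

variable {Λ : Type u} {k : Type u} [CommRing Λ] [Field k] [Algebra Λ k]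

section Hom

variable {A B C : Art Λ k}

lemma hom_ext_apply {f g : A ⟶ B} (h : ∀ a : A, f a = g a) : f = g :=
  Art.hom_ext (AlgHom.ext h)

lemma map_map {F : Art Λ k ⥤ Type v} (f : A ⟶ B) (g : B ⟶ C) (x : F.obj A) :
    F.map g (F.map f x) = F.map (f ≫ g) x :=
  (F.map_comp_apply f g x).symm

lemma map_id_apply {F : Art Λ k ⥤ Type v} (x : F.obj A) : F.map (𝟙 A) x = x :=
  F.map_id_apply A x

lemma comp_toBase (f : A ⟶ B) : f ≫ toBase B = toBase A := eq_toBase _

lemma surjective_toBase (A : Art Λ k) : Function.Surjective (toBase A) := A.res_surjective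

lemma surjective_comp {f : A ⟶ B} {g : B ⟶ C} (hf : Function.Surjective f) (hg : Function.Surjective g) :
    Function.Surjective (f ≫ g) := hg.comp hf

lemma surjective_of_surjective_comp {f : A ⟶ B} {g : B ⟶ C} (h : Function.Surjective (f ≫ g)) :
    Function.Surjective g := Function.Surjective.of_comp (g := f.toAlgHom) h

/-- Inverse of a bijective morphism. -/
noncomputable def invHom (f : A ⟶ B) (hf : Function.Bijective f) : B ⟶ A :=
  ⟨(AlgEquiv.ofBijective f.toAlgHom hf).symm.toAlgHom, by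
    apply AlgHom.ext
    intro b
    change A.res ((AlgEquiv.ofBijective f.toAlgHom hf).symm b) = B.res b
    rw [← res_app f]
    exact congrArg B.res ((AlgEquiv.ofBijective f.toAlgHom hf).apply_symm_apply b)⟩

lemma comp_invHom (f : A ⟶ B) (hf : Function.Bijective f) : f ≫ invHom f hf = 𝟙 A :=
  hom_ext_apply fun a => (AlgEquiv.ofBijective f.toAlgHom hf).symm_apply_apply a

lemma invHom_comp (f : A ⟶ B) (hf : Function.Bijective f) : invHom f hf ≫ f = 𝟙 B :=
  hom_ext_apply fun b => (AlgEquiv.ofBijective f.toAlgHom hf).apply_symm_apply b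

lemma map_bijective (F : Art Λ k ⥤ Type v) (f : A ⟶ B) (hf : Function.Bijective f) :
    Function.Bijective (F.map f) := by
  refine ⟨fun x y h => ?_, fun y => ⟨F.map (invHom f hf) y, ?_⟩⟩
  · have h' := congrArg (F.map (invHom f hf)) h
    rwa [map_map, map_map, comp_invHom, map_id_apply, map_id_apply] at h'
  · rw [map_map, invHom_comp, map_id_apply]

end Hom

section Structure

variable (A : Art Λ k)

lemma exists_pow_maximalIdeal_eq_bot : ∃ n : ℕ, IsLocalRing.maximalIdeal A ^ n = ⊥ :=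
  (isArtinianRing_iff_isNilpotent_maximalIdeal A).1 inferInstance

lemma isUnit_iff_res_ne_zero (a : A) : IsUnit a ↔ A.res a ≠ 0 := by
  rw [Ne, ← mem_maximalIdeal_iff, IsLocalRing.mem_maximalIdeal, mem_nonunits_iff, not_not]

lemma le_maximalIdeal_of_ne_top {I : Ideal A} (hI : I ≠ ⊤) : I ≤ IsLocalRing.maximalIdeal A :=
  IsLocalRing.le_maximalIdeal hI

lemma ker_le_maximalIdeal {A B : Art Λ k} (f : B ⟶ A) :
    RingHom.ker f.toAlgHom ≤ IsLocalRing.maximalIdeal B := fun b hb => by
  rw [mem_maximalIdeal_iff, ← res_app f]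
  rw [RingHom.mem_ker] at hb
  exact (congrArg A.res hb).trans (map_zero _)

lemma sub_mem_ker_iff {A B : Art Λ k} (f : B ⟶ A) (x y : B) :
    x - y ∈ RingHom.ker f.toAlgHom ↔ f x = f y := by
  rw [RingHom.mem_ker, map_sub, sub_eq_zero]

variable [Module.Finite Λ k]

/-- Every object is a finite `Λ`-module. -/
lemma moduleFinite : Module.Finite Λ A := by
  classical
  obtain ⟨N, hN⟩ := exists_pow_maximalIdeal_eq_bot A
  obtain ⟨s, hs⟩ := (inferInstance : Module.Finite Λ k).fg_top
  choose lift hlift using A.res_surjective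
  set m := IsLocalRing.maximalIdeal A with hm
  set W : Submodule Λ A := Submodule.span Λ (lift '' (s : Set k)) with hW
  have hA : ∀ a : A, ∃ w ∈ W, a - w ∈ m := by
    intro a
    have key : ∀ c ∈ Submodule.span Λ (s : Set k), ∃ w ∈ W, A.res w = c := by
      intro c hc
      induction hc using Submodule.span_induction with
      | mem x hx => exact ⟨lift x, Submodule.subset_span ⟨x, hx, rfl⟩, hlift x⟩
      | zero => exact ⟨0, W.zero_mem, map_zero _⟩
      | add x y _ _ hx hy =>
        obtain ⟨w, hw, rfl⟩ := hx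
        obtain ⟨w', hw', rfl⟩ := hy
        exact ⟨w + w', W.add_mem hw hw', map_add _ _ _⟩
      | smul r x _ hx =>
        obtain ⟨w, hw, rfl⟩ := hx
        exact ⟨r • w, W.smul_mem r hw, map_smul _ _ _⟩
    obtain ⟨w, hw, hres⟩ := key (A.res a) (by rw [hs]; trivial)
    exact ⟨w, hw, by rw [hm, mem_maximalIdeal_iff, map_sub, hres, sub_self]⟩
  have step : ∀ i, ((m ^ (i + 1)).restrictScalars Λ).FG → ((m ^ i).restrictScalars Λ).FG := by
    intro i hi
    obtain ⟨g, hg⟩ := (IsNoetherian.noetherian (m ^ i) : (m ^ i).FG)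
    set V : Submodule Λ A := Submodule.span Λ
      ((fun p : k × A => lift p.1 * p.2) '' ((s : Set k) ×ˢ (g : Set A))) with hV
    have hVfg : V.FG := Submodule.fg_span ((s.finite_toSet.prod g.finite_toSet).image _)
    have hVle : V ≤ (m ^ i).restrictScalars Λ := Submodule.span_le.2 (by
      rintro _ ⟨⟨x, y⟩, ⟨_, hy⟩, rfl⟩
      exact (m ^ i).mul_mem_left _ (hg ▸ Submodule.subset_span hy))
    have heq : (m ^ i).restrictScalars Λ = V ⊔ (m ^ (i + 1)).restrictScalars Λ := by
      refine le_antisymm (fun x hx => ?_)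
        (sup_le hVle (fun y hy => Ideal.pow_le_pow_right (Nat.le_succ i) hy))
      have : ∀ a : A, a * x ∈ V ⊔ (m ^ (i + 1)).restrictScalars Λ := by
        rw [Submodule.restrictScalars_mem, ← hg] at hx
        induction hx using Submodule.span_induction with
        | mem x hx =>
          intro a
          obtain ⟨w, hw, haw⟩ := hA a
          rw [show a * x = w * x + (a - w) * x by ring]
          refine Submodule.add_mem_sup ?_ ?_
          · have : W ≤ V.comap (LinearMap.mulRight Λ x) := Submodule.span_le.2 (by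
              rintro _ ⟨c, hc, rfl⟩
              exact Submodule.subset_span ⟨(c, x), ⟨hc, hx⟩, rfl⟩)
            exact this hw
          · rw [Submodule.restrictScalars_mem, pow_succ']
            exact Ideal.mul_mem_mul haw (hg ▸ Submodule.subset_span hx)
        | zero => intro a; rw [mul_zero]; exact Submodule.zero_mem _
        | add x y _ _ hx hy => intro a; rw [mul_add]; exact Submodule.add_mem _ (hx a) (hy a)
        | smul r x _ hx => intro a; rw [smul_eq_mul, ← mul_assoc]; exact hx _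
      simpa using this 1
    rw [heq]
    exact hVfg.sup hi
  have : ∀ j, ((m ^ (N - j)).restrictScalars Λ).FG := by
    intro j
    induction j with
    | zero => rw [Nat.sub_zero, hN, Submodule.restrictScalars_bot]; exact Submodule.fg_bot
    | succ j ih =>
      by_cases h : j < N
      · refine step _ ?_
        rwa [show N - (j + 1) + 1 = N - j by omega]
      · rwa [show N - (j + 1) = N - j by omega]
  have h0 := this N
  rw [Nat.sub_self, pow_zero, Ideal.one_eq_top, Submodule.restrictScalars_top] at h0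
  exact ⟨h0⟩

end Structure

section Small

variable {A B C : Art Λ k}

/-- A nonzero ideal contains a nonzero element killed by the maximal ideal. -/
lemma exists_socle_mem (B : Art Λ k) (K : Ideal B) (hK : K ≠ ⊥) :
    ∃ t ∈ K, t ≠ 0 ∧ ∀ a ∈ IsLocalRing.maximalIdeal B, a * t = 0 := by
  obtain ⟨N, hN⟩ := exists_pow_maximalIdeal_eq_bot B
  have key : ∀ n, IsLocalRing.maximalIdeal B ^ n * K = ⊥ →
      ∃ t ∈ K, t ≠ 0 ∧ ∀ a ∈ IsLocalRing.maximalIdeal B, a * t = 0 := by
    intro n
    induction n with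
    | zero => intro h; rw [pow_zero, one_mul] at h; exact absurd h hK
    | succ n ih =>
      intro h
      by_cases h1 : IsLocalRing.maximalIdeal B ^ n * K = ⊥
      · exact ih h1
      · obtain ⟨t, ht, ht0⟩ := Submodule.exists_mem_ne_zero_of_ne_bot h1
        refine ⟨t, (Ideal.mul_le_right : IsLocalRing.maximalIdeal B ^ n * K ≤ K) ht, ht0, fun a ha => ?_⟩
        have h2 := Ideal.mul_mem_mul ha ht
        rw [← mul_assoc, ← pow_succ', h] at h2
        exact Ideal.mem_bot.1 h2
  exact key N (by rw [hN, Ideal.bot_mul])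

lemma ker_quotMk (C : Art Λ k) (K : Ideal C) (hK : K ≤ IsLocalRing.maximalIdeal C) :
    RingHom.ker (quotMk C K hK).toAlgHom = K := by
  ext a
  rw [RingHom.mem_ker]
  exact Ideal.Quotient.eq_zero_iff_mem

/-- Criterion for a small extension: the kernel is generated by a nonzero socle element. -/
lemma isSmallExt_of_ker {p : B ⟶ A} (hp : Function.Surjective p) {t : B} (ht0 : t ≠ 0)
    (hker : RingHom.ker p.toAlgHom = Ideal.span {t})
    (htm : ∀ a ∈ IsLocalRing.maximalIdeal B, a * t = 0) : IsSmallExt p := by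
  refine ⟨hp, ?_, ⟨⟨t, hker⟩⟩, ?_⟩
  · rw [hker, Ne, Ideal.span_singleton_eq_bot]; exact ht0
  · rw [hker, eq_bot_iff, Ideal.mul_le]
    intro a ha b hb
    obtain ⟨c, rfl⟩ := Ideal.mem_span_singleton'.1 hb
    rw [Ideal.mem_bot, mul_left_comm, htm a ha, mul_zero]

/-- A small extension has a kernel generated by a nonzero element killed by the maximal ideal. -/
lemma exists_generator {p : B ⟶ A} (hp : IsSmallExt p) :
    ∃ t : B, t ≠ 0 ∧ RingHom.ker p.toAlgHom = Ideal.span {t} ∧
      ∀ a ∈ IsLocalRing.maximalIdeal B, a * t = 0 := by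
  obtain ⟨_, hne, ⟨t, ht⟩, hm⟩ := hp
  have ht' : RingHom.ker p.toAlgHom = Ideal.span {t} := ht
  refine ⟨t, fun h => hne (by rw [ht', h, Ideal.span_singleton_eq_bot]), ht', fun a ha => ?_⟩
  exact Ideal.mem_bot.1 (hm ▸ Ideal.mul_mem_mul ha (ht' ▸ Ideal.mem_span_singleton_self t))

lemma mul_eq_zero_of_isSemismallExt {p : B ⟶ A} (hp : IsSemismallExt p) {a j : B}
    (ha : a ∈ IsLocalRing.maximalIdeal B) (hj : p j = 0) : a * j = 0 :=
  Ideal.mem_bot.1 (hp.2 ▸ Ideal.mul_mem_mul ha (RingHom.mem_ker.2 hj))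

/-- On elements killed by the maximal ideal, multiplication only depends on the residue. -/
lemma mul_eq_mul_of_res_eq {B : Art Λ k} {t : B} (htm : ∀ a ∈ IsLocalRing.maximalIdeal B, a * t = 0)
    {a b : B} (h : B.res a = B.res b) : a * t = b * t := by
  rw [← sub_eq_zero, ← sub_mul]
  exact htm _ (by rw [mem_maximalIdeal_iff, map_sub, h, sub_self])

lemma res_eq_of_mul_eq {B : Art Λ k} {t : B} (ht0 : t ≠ 0) {a b : B} (h : a * t = b * t) :
    B.res a = B.res b := by
  by_contra hne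
  have hu : IsUnit (a - b) := (isUnit_iff_res_ne_zero B _).2 (by rwa [map_sub, sub_ne_zero])
  have h0 : (a - b) * t = 0 := by rw [sub_mul, h, sub_self]
  exact ht0 (hu.mul_right_eq_zero.1 h0)

/-- A small extension factorisation of a non-injective surjection. -/
lemma exists_small_factor {f : B ⟶ A} (hinj : ¬ Function.Injective f) :
    ∃ (C : Art Λ k) (g : B ⟶ C) (h : C ⟶ A), g ≫ h = f ∧ IsSmallExt g := by
  have hne : RingHom.ker f.toAlgHom ≠ ⊥ :=
    fun h => hinj ((RingHom.injective_iff_ker_eq_bot f.toAlgHom).2 h)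
  obtain ⟨t, ht, ht0, htm⟩ := exists_socle_mem B _ hne
  have hle : Ideal.span {t} ≤ RingHom.ker f.toAlgHom := (Ideal.span_singleton_le_iff_mem _).2 ht
  have hle' := hle.trans (ker_le_maximalIdeal f)
  exact ⟨_, quotMk B _ hle', quotFactor hle' f hle, quotMk_quotFactor hle' f hle,
    isSmallExt_of_ker (quotMk_surjective _ _ _) ht0 (ker_quotMk B _ hle') htm⟩

/-- Induction for surjections: bijections, and composition with a small extension on the source side. -/
theorem surjective_induction {P : ∀ ⦃B A : Art Λ k⦄, (B ⟶ A) → Prop}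
    (bij : ∀ ⦃B A : Art Λ k⦄ (f : B ⟶ A), Function.Bijective f → P f)
    (comp : ∀ ⦃C B A : Art Λ k⦄ (g : C ⟶ B) (f : B ⟶ A),
      IsSmallExt g → Function.Surjective f → P f → P (g ≫ f))
    ⦃B A : Art Λ k⦄ (f : B ⟶ A) (hf : Function.Surjective f) : P f := by
  suffices ∀ J : Ideal B, ∀ (C : Art Λ k) (q : B ⟶ C), Function.Surjective q →
      RingHom.ker q.toAlgHom = J → ∀ h : C ⟶ A, Function.Surjective h → P h from
    this _ B (𝟙 B) Function.surjective_id rfl f hf
  intro J
  induction J using IsNoetherian.induction with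
  | hgt J ih =>
    intro C q hq hker h hh
    by_cases hinj : Function.Injective h
    · exact bij h ⟨hinj, hh⟩
    · obtain ⟨D, g, h', e, hg⟩ := exists_small_factor hinj
      have hh' : Function.Surjective h' := surjective_of_surjective_comp (f := g) (e.symm ▸ hh)
      subst e
      refine comp g h' hg hh' (ih _ ?_ D (q ≫ g) (surjective_comp hq hg.1) rfl h' hh')
      obtain ⟨t, ht0, htker, -⟩ := exists_generator hg
      obtain ⟨s, rfl⟩ := hq t
      refine lt_of_le_of_ne (hker ▸ fun x hx => ?_) fun heq => ht0 ?_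
      · rw [RingHom.mem_ker] at hx ⊢
        exact (congrArg g.toAlgHom hx).trans (map_zero _)
      · have h0 : q s ∈ RingHom.ker g.toAlgHom := by
          rw [htker]; exact Ideal.mem_span_singleton_self _
        have : s ∈ RingHom.ker (q ≫ g).toAlgHom := RingHom.mem_ker.2 (RingHom.mem_ker.1 h0)
        rw [← heq, ← hker] at this
        exact this

end Small

section FibreProd

variable {B A A' A'' T : Art Λ k} {p' : B ⟶ A'} {p'' : B ⟶ A''} {f' : A' ⟶ A} {f'' : A'' ⟶ A}

lemma fibreProd_hom_ext (h : IsFibreProd p' p'' f' f'') {g₁ g₂ : T ⟶ B}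
    (h₁ : g₁ ≫ p' = g₂ ≫ p') (h₂ : g₁ ≫ p'' = g₂ ≫ p'') : g₁ = g₂ :=
  hom_ext_apply fun t => h.inj _ _ (congrArg (fun φ : T ⟶ A' => φ t) h₁)
    (congrArg (fun φ : T ⟶ A'' => φ t) h₂)

/-- Universal property of a pinned fibre product. -/
noncomputable def fibreLift (h : IsFibreProd p' p'' f' f'') (t' : T ⟶ A') (t'' : T ⟶ A'')
    (w : t' ≫ f' = t'' ≫ f'') : T ⟶ B :=
  let aux (t : T) : ∃ b : B, p' b = t' t ∧ p'' b = t'' t :=
    h.surj _ _ (congrArg (fun φ : T ⟶ A => φ t) w)
  have e' (t : T) : p' (aux t).choose = t' t := (aux t).choose_spec.1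
  have e'' (t : T) : p'' (aux t).choose = t'' t := (aux t).choose_spec.2
  ⟨{ toFun := fun t => (aux t).choose
     map_one' := h.inj _ _ ((e' 1).trans ((map_one _).trans (map_one _).symm))
       ((e'' 1).trans ((map_one _).trans (map_one _).symm))
     map_mul' := fun a b => h.inj _ _ (by rw [e', map_mul, map_mul, e', e'])
       (by rw [e'', map_mul, map_mul, e'', e''])
     map_zero' := h.inj _ _ ((e' 0).trans ((map_zero _).trans (map_zero _).symm))
       ((e'' 0).trans ((map_zero _).trans (map_zero _).symm))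
     map_add' := fun a b => h.inj _ _ (by rw [e', map_add, map_add, e', e'])
       (by rw [e'', map_add, map_add, e'', e''])
     commutes' := fun r => h.inj _ _ ((e' _).trans ((t'.toAlgHom.commutes r).trans (p'.toAlgHom.commutes r).symm))
       ((e'' _).trans ((t''.toAlgHom.commutes r).trans (p''.toAlgHom.commutes r).symm)) }, by
    apply AlgHom.ext
    intro t
    change B.res (aux t).choose = T.res t
    rw [← res_app p', e', res_app t']⟩

lemma fibreLift_fst (h : IsFibreProd p' p'' f' f'') (t' : T ⟶ A') (t'' : T ⟶ A'')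
    (w : t' ≫ f' = t'' ≫ f'') : fibreLift h t' t'' w ≫ p' = t' :=
  hom_ext_apply fun t => (h.surj _ _ (congrArg (fun φ : T ⟶ A => φ t) w)).choose_spec.1

lemma fibreLift_snd (h : IsFibreProd p' p'' f' f'') (t' : T ⟶ A') (t'' : T ⟶ A'')
    (w : t' ≫ f' = t'' ≫ f'') : fibreLift h t' t'' w ≫ p'' = t'' :=
  hom_ext_apply fun t => (h.surj _ _ (congrArg (fun φ : T ⟶ A => φ t) w)).choose_spec.2

lemma fibreProd_flip (h : IsFibreProd p' p'' f' f'') : IsFibreProd p'' p' f'' f' where
  w := h.w.symm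
  inj b₁ b₂ h₁ h₂ := h.inj b₁ b₂ h₂ h₁
  surj a'' a' e := by
    obtain ⟨b, h₁, h₂⟩ := h.surj a' a'' e.symm
    exact ⟨b, h₂, h₁⟩

lemma surjective_fst (h : IsFibreProd p' p'' f' f'') (hf : Function.Surjective f'') :
    Function.Surjective p' := fun a' => by
  obtain ⟨a'', ha⟩ := hf (f' a')
  obtain ⟨b, hb, -⟩ := h.surj a' a'' ha.symm
  exact ⟨b, hb⟩

lemma surjective_snd (h : IsFibreProd p' p'' f' f'') (hf : Function.Surjective f') :
    Function.Surjective p'' := surjective_fst (fibreProd_flip h) hf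

/-- The fibre product exists as soon as one of the two maps is surjective. -/
theorem exists_fibreProd [IsNoetherianRing Λ] [Module.Finite Λ k] (f' : A' ⟶ A) (f'' : A'' ⟶ A)
    (hf : Function.Surjective f'') :
    ∃ (B : Art Λ k) (p' : B ⟶ A') (p'' : B ⟶ A''), IsFibreProd p' p'' f' f'' := by
  let P : Subalgebra Λ (A' × A'') := AlgHom.equalizer
    (f'.toAlgHom.comp (AlgHom.fst Λ A' A'')) (f''.toAlgHom.comp (AlgHom.snd Λ A' A''))
  have hmem : ∀ x : A' × A'', x ∈ P ↔ f' x.1 = f'' x.2 := fun x => Iff.rfl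
  have hres : ∀ x : P, A''.res x.1.2 = A'.res x.1.1 := fun x => by
    rw [← res_app f', ← res_app f'', ((hmem _).1 x.2)]
  have hunit : ∀ x : P, A'.res x.1.1 ≠ 0 → IsUnit x := by
    intro x hx
    obtain ⟨u, hu⟩ := (isUnit_iff_res_ne_zero A' _).2 hx
    obtain ⟨v, hv⟩ := (isUnit_iff_res_ne_zero A'' x.1.2).2 (by rwa [hres x])
    have : f' (↑u⁻¹ : A') = f'' (↑v⁻¹ : A'') := by
      have h1 : f' x.1.1 * f' (↑u⁻¹ : A') = 1 := by rw [← map_mul, ← hu, Units.mul_inv, map_one]
      have h2 : f' x.1.1 * f'' (↑v⁻¹ : A'') = 1 := by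
        rw [(hmem _).1 x.2, ← map_mul, ← hv, Units.mul_inv, map_one]
      exact left_inv_eq_right_inv (by rwa [mul_comm]) h2
    exact ⟨⟨x, ⟨((↑u⁻¹ : A'), (↑v⁻¹ : A'')), (hmem _).2 this⟩,
      Subtype.ext (Prod.ext (by simp [← hu]) (by simp [← hv])),
      Subtype.ext (Prod.ext (by simp [← hu]) (by simp [← hv]))⟩, rfl⟩
  haveI : Nontrivial P := ⟨⟨0, 1, fun h =>
    zero_ne_one (α := k) (by simpa using congrArg (fun x : P => A'.res x.1.1) h)⟩⟩
  haveI : IsLocalRing P := IsLocalRing.of_isUnit_or_isUnit_one_sub_self fun x => by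
    by_cases hx : A'.res x.1.1 = 0
    · exact Or.inr (hunit _ (by simp [hx]))
    · exact Or.inl (hunit x hx)
  haveI := moduleFinite A'
  haveI := moduleFinite A''
  haveI : IsNoetherian Λ P := isNoetherian_submodule' P.toSubmodule
  haveI : IsNoetherianRing P := isNoetherian_of_tower Λ inferInstance
  obtain ⟨M, hM⟩ := exists_pow_maximalIdeal_eq_bot A'
  obtain ⟨N, hN⟩ := exists_pow_maximalIdeal_eq_bot A''
  haveI : IsArtinianRing P := by
    rw [isArtinianRing_iff_isNilpotent_maximalIdeal]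
    refine ⟨M + N, ?_⟩
    rw [Ideal.zero_eq_bot, eq_bot_iff]
    intro x hx
    let π₁ : P →+* A' := ((AlgHom.fst Λ A' A'').comp P.val).toRingHom
    let π₂ : P →+* A'' := ((AlgHom.snd Λ A' A'').comp P.val).toRingHom
    have hmax : ∀ y ∈ IsLocalRing.maximalIdeal P, A'.res y.1.1 = 0 := fun y hy => by
      by_contra h
      exact (IsLocalRing.mem_maximalIdeal y).1 hy (hunit y h)
    have h₁ : (IsLocalRing.maximalIdeal P).map π₁ ≤ IsLocalRing.maximalIdeal A' :=
      Ideal.map_le_iff_le_comap.2 fun y hy => (mem_maximalIdeal_iff A' (π₁ y)).2 (hmax y hy)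
    have h₂ : (IsLocalRing.maximalIdeal P).map π₂ ≤ IsLocalRing.maximalIdeal A'' :=
      Ideal.map_le_iff_le_comap.2 fun y hy =>
        (mem_maximalIdeal_iff A'' (π₂ y)).2 ((hres y).trans (hmax y hy))
    have m₁ := Ideal.mem_map_of_mem π₁ hx
    have m₂ := Ideal.mem_map_of_mem π₂ hx
    rw [Ideal.map_pow] at m₁ m₂
    have k₁ : π₁ x = 0 := Ideal.mem_bot.1
      (hM ▸ Ideal.pow_le_pow_right (Nat.le_add_right M N) (Ideal.pow_right_mono h₁ _ m₁))
    have k₂ : π₂ x = 0 := Ideal.mem_bot.1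
      (hN ▸ Ideal.pow_le_pow_right (Nat.le_add_left N M) (Ideal.pow_right_mono h₂ _ m₂))
    exact Ideal.mem_bot.2 (Subtype.ext (Prod.ext k₁ k₂))
  let q' : P →ₐ[Λ] A' := (AlgHom.fst Λ A' A'').comp P.val
  let q'' : P →ₐ[Λ] A'' := (AlgHom.snd Λ A' A'').comp P.val
  have hsurj : Function.Surjective (A'.res.comp q') := fun c => by
    obtain ⟨a', rfl⟩ := A'.res_surjective c
    obtain ⟨a'', ha⟩ := hf (f' a')
    exact ⟨⟨(a', a''), (hmem _).2 ha.symm⟩, rfl⟩
  refine ⟨Art.of P (A'.res.comp q') hsurj, ⟨q', rfl⟩, ⟨q'', AlgHom.ext hres⟩,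
    ⟨hom_ext_apply fun b => (hmem _).1 b.2, fun b₁ b₂ h₁ h₂ => Subtype.ext (Prod.ext h₁ h₂),
      fun a' a'' h => ⟨⟨(a', a''), (hmem _).2 h⟩, rfl, rfl⟩⟩⟩

variable {D B₁ : Art Λ k}

/-- Pasting: `B = (A' ×_A D) ×_D A''` is `A' ×_A A''`. -/
lemma fibreProd_paste {q' : B₁ ⟶ A'} {q'' : B₁ ⟶ D} {g : D ⟶ A} {r : B ⟶ B₁} {s : B ⟶ A''}
    {h : A'' ⟶ D} (h₁ : IsFibreProd q' q'' f' g) (h₂ : IsFibreProd r s q'' h) :
    IsFibreProd (r ≫ q') s f' (h ≫ g) where
  w := by rw [Category.assoc, h₁.w, ← Category.assoc, h₂.w, Category.assoc]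
  inj b₁ b₂ e₁ e₂ := h₂.inj _ _ (h₁.inj _ _ e₁ (by rw [h₂.w_apply, h₂.w_apply, e₂])) e₂
  surj a' a'' e := by
    obtain ⟨b₁, e₁, e₂⟩ := h₁.surj a' (h a'') e
    obtain ⟨b, e₃, e₄⟩ := h₂.surj b₁ a'' e₂
    exact ⟨b, (congrArg q' e₃).trans e₁, e₄⟩

/-- Converse pasting. -/
lemma fibreProd_unpaste {q' : B₁ ⟶ A'} {q'' : B₁ ⟶ D} {g : D ⟶ A} {h : A'' ⟶ D}
    (hB : IsFibreProd p' p'' f' (h ≫ g)) (h₁ : IsFibreProd q' q'' f' g) :
    IsFibreProd (fibreLift h₁ p' (p'' ≫ h) (by rw [Category.assoc]; exact hB.w)) p'' q'' h := by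
  set r := fibreLift h₁ p' (p'' ≫ h) (by rw [Category.assoc]; exact hB.w)
  have e₁ : r ≫ q' = p' := fibreLift_fst _ _ _ _
  have e₂ : r ≫ q'' = p'' ≫ h := fibreLift_snd _ _ _ _
  refine ⟨e₂, fun b₁ b₂ h₁' h₂' => hB.inj _ _ ?_ h₂', fun b₁ a'' e => ?_⟩
  · rw [← e₁]; exact congrArg q' h₁'
  · obtain ⟨b, hb₁, hb₂⟩ := hB.surj (q' b₁) a'' ((h₁.w_apply b₁).trans (congrArg g e))
    refine ⟨b, h₁.inj _ _ ?_ ?_, hb₂⟩
    · rw [← hb₁, ← e₁]; rfl
    · rw [e, ← hb₂]; exact congrArg (fun φ : B ⟶ D => φ b) e₂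

end FibreProd

end Groth.Agent.ArtF85
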