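import Groth.Agent.ArtF85.Cond
import Groth.Prelude.Def_ArtFun5
import Groth.Prelude.Def_W4sfdMinVersal

/-!
# Formal elements, families, and systems of Artinian quotients of a ring
-/

set_option autoImplicit false
set_option linter.style.haveILetI false

universe u v

open CategoryTheory

namespace Groth.Agent.ArtF85

open ArtFun ArtFun.Art

variable {Λ : Type u} {k : Type u} [CommRing Λ] [Field k] [Algebra Λ k]
variable {R : Type u} [CommRing R] [Algebra Λ R] {resR : R →ₐ[Λ] k}

lemma homSet_ext {A : Art Λ k} {φ ψ : HomSet R resR A} (h : ∀ r, φ.1 r = ψ.1 r) : φ = ψ :=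
  Subtype.ext (AlgHom.ext h)

lemma homSet_map_map {A B C : Art Λ k} (f : A ⟶ B) (g : B ⟶ C) (φ : HomSet R resR A) :
    HomSet.map g (HomSet.map f φ) = HomSet.map (f ≫ g) φ := rfl

lemma homSet_map_id {A : Art Λ k} (φ : HomSet R resR A) : HomSet.map (𝟙 A) φ = φ := rfl

lemma homSet_map_apply {A B : Art Λ k} (f : A ⟶ B) (φ : HomSet R resR A) (r : R) :
    (HomSet.map f φ).1 r = f (φ.1 r) := rfl

lemma res_homSet_apply {A : Art Λ k} (φ : HomSet R resR A) (r : R) : A.res (φ.1 r) = resR r :=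
  AlgHom.congr_fun φ.2 r

lemma family_ext {F : Art Λ k ⥤ Type v} {ξ η : Family R resR F}
    (h : ∀ A φ, ξ.app A φ = η.app A φ) : ξ = η := by
  cases ξ; cases η; congr; funext A φ; exact h A φ

variable (R resR) in
/-- A tower of Artinian quotients of `R`, cofinal among the Artinian quotients. -/
structure RSys : Type (u + 1) where
  /-- the quotients -/
  T : ℕ → Art Λ k
  /-- the quotient maps -/
  π : ∀ n, HomSet R resR (T n)
  surj : ∀ n, Function.Surjective (π n).1
  /-- the transition maps -/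
  f : ∀ n, T (n + 1) ⟶ T n
  map_π : ∀ n, HomSet.map (f n) (π (n + 1)) = π n
  cofinal : ∀ {A : Art Λ k} (φ : HomSet R resR A),
    ∃ n, RingHom.ker (π n).1 ≤ RingHom.ker φ.1

namespace RSys

variable (S : RSys R resR)

/-- Factorisation of a map through a stage. -/
noncomputable def factor {n : ℕ} {A : Art Λ k} (φ : HomSet R resR A)
    (h : RingHom.ker (S.π n).1 ≤ RingHom.ker φ.1) : S.T n ⟶ A :=
  ⟨AlgHom.liftOfSurjective (S.π n).1 (S.surj n) φ.1 h, by
    apply AlgHom.ext
    intro t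
    obtain ⟨r, rfl⟩ := S.surj n t
    exact (congrArg A.res (AlgHom.liftOfSurjective_apply (S.π n).1 (S.surj n) φ.1 h r)).trans
      ((res_homSet_apply φ r).trans (res_homSet_apply (S.π n) r).symm)⟩

lemma map_factor {n : ℕ} {A : Art Λ k} (φ : HomSet R resR A)
    (h : RingHom.ker (S.π n).1 ≤ RingHom.ker φ.1) : HomSet.map (S.factor φ h) (S.π n) = φ :=
  homSet_ext fun r => AlgHom.liftOfSurjective_apply (S.π n).1 (S.surj n) φ.1 h r

lemma hom_ext {n : ℕ} {A : Art Λ k} {g g' : S.T n ⟶ A}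
    (h : HomSet.map g (S.π n) = HomSet.map g' (S.π n)) : g = g' :=
  hom_ext_apply fun t => by
    obtain ⟨r, rfl⟩ := S.surj n t
    exact congrArg (fun φ : HomSet R resR A => φ.1 r) h

lemma exists_stageMap {n m : ℕ} (h : n ≤ m) : ∃ g : S.T m ⟶ S.T n, HomSet.map g (S.π m) = S.π n ∧
    ∀ {F : Art Λ k ⥤ Type v} (x : ∀ i, F.obj (S.T i)),
      (∀ i, F.map (S.f i) (x (i + 1)) = x i) → F.map g (x m) = x n := by
  induction h with
  | refl => exact ⟨𝟙 _, homSet_map_id _, fun x _ => map_id_apply _⟩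
  | @step m _ ih =>
    obtain ⟨g, hg, hx⟩ := ih
    refine ⟨S.f m ≫ g, ?_, fun x hc => ?_⟩
    · rw [← homSet_map_map, S.map_π, hg]
    · rw [← map_map, hc, hx x hc]

variable {F : Art Λ k ⥤ Type v} (x : ∀ i, F.obj (S.T i))

lemma map_eq_of_le (hx : ∀ i, F.map (S.f i) (x (i + 1)) = x i) {n m : ℕ} (h : n ≤ m) {A : Art Λ k}
    (g : S.T n ⟶ A) (g' : S.T m ⟶ A) (e : HomSet.map g (S.π n) = HomSet.map g' (S.π m)) :
    F.map g (x n) = F.map g' (x m) := by
  obtain ⟨s, hs, hsx⟩ := S.exists_stageMap h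
  rw [← hsx x hx, map_map,
    S.hom_ext (g := s ≫ g) (g' := g') (by rw [← homSet_map_map, hs, e])]

lemma map_eq (hx : ∀ i, F.map (S.f i) (x (i + 1)) = x i) {n m : ℕ} {A : Art Λ k}
    (g : S.T n ⟶ A) (g' : S.T m ⟶ A) (e : HomSet.map g (S.π n) = HomSet.map g' (S.π m)) :
    F.map g (x n) = F.map g' (x m) := by
  rcases Nat.le_total n m with h | h
  · exact S.map_eq_of_le x hx h g g' e
  · exact (S.map_eq_of_le x hx h g' g e.symm).symm

/-- The family defined by a compatible system of elements. -/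
noncomputable def family (hx : ∀ i, F.map (S.f i) (x (i + 1)) = x i) : Family R resR F where
  app _ φ := F.map (S.factor φ (S.cofinal φ).choose_spec) (x (S.cofinal φ).choose)
  natural {A B} g φ := by
    rw [map_map]
    refine S.map_eq x hx _ _ ?_
    rw [map_factor, ← homSet_map_map, map_factor]

lemma family_app_π (hx : ∀ i, F.map (S.f i) (x (i + 1)) = x i) (n : ℕ) :
    (S.family x hx).app (S.T n) (S.π n) = x n := by
  refine (S.map_eq x hx _ (𝟙 (S.T n)) ?_).trans (map_id_apply _)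
  rw [map_factor, homSet_map_id]

lemma family_ext {ξ η : Family R resR F} (h : ∀ n, ξ.app _ (S.π n) = η.app _ (S.π n)) : ξ = η := by
  refine ArtF85.family_ext fun A φ => ?_
  obtain ⟨n, hn⟩ := S.cofinal φ
  rw [← S.map_factor φ hn, ξ.natural, η.natural, h]

end RSys

lemma map_maximalIdeal_le {R : Type u} [CommRing R] [Algebra Λ R] [IsLocalRing R] {resR : R →ₐ[Λ] k}
    (hres : ∀ r, r ∈ IsLocalRing.maximalIdeal R ↔ resR r = 0) {A : Art Λ k} (φ : HomSet R resR A) :
    (IsLocalRing.maximalIdeal R).map φ.1 ≤ IsLocalRing.maximalIdeal A :=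
  Ideal.map_le_iff_le_comap.2 fun r hr =>
    (mem_maximalIdeal_iff A _).2 ((res_homSet_apply φ r).trans ((hres r).1 hr))

lemma exists_mpow_le_ker (R : CRing Λ k) {A : Art Λ k} (φ : HomSet R.carrier R.res A) :
    ∃ n, CRing.mpow R n ≤ RingHom.ker φ.1 := by
  obtain ⟨N, hN⟩ := exists_pow_maximalIdeal_eq_bot A
  refine ⟨N, fun r hr => RingHom.mem_ker.2 (Ideal.mem_bot.1 ?_)⟩
  have := Ideal.mem_map_of_mem φ.1 hr
  rw [CRing.mpow, Ideal.map_pow] at this
  rw [← hN]
  exact Ideal.pow_le_pow_right (Nat.le_succ N)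
    (Ideal.pow_right_mono (map_maximalIdeal_le R.mem_maximalIdeal_iff φ) _ this)

lemma ker_truncHom (R : CRing Λ k) (n : ℕ) :
    RingHom.ker (R.truncHom n).1 = CRing.mpow R n := by
  ext r
  rw [RingHom.mem_ker]
  exact Ideal.Quotient.eq_zero_iff_mem

lemma truncHom_surjective (R : CRing Λ k) (n : ℕ) : Function.Surjective (R.truncHom n).1 :=
  Ideal.Quotient.mk_surjective

lemma truncMap_surjective (R : CRing Λ k) (n : ℕ) : Function.Surjective (R.truncMap n) := fun t => by
  obtain ⟨r, rfl⟩ := truncHom_surjective R n t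
  exact ⟨(R.truncHom (n + 1)).1 r, rfl⟩

/-- The tower of truncations. -/
noncomputable def truncSys (R : CRing Λ k) : RSys R.carrier R.res where
  T := R.trunc
  π := R.truncHom
  surj := truncHom_surjective R
  f := R.truncMap
  map_π := R.truncMap_truncHom
  cofinal φ := by
    obtain ⟨n, hn⟩ := exists_mpow_le_ker R φ
    exact ⟨n, (ker_truncHom R n).trans_le hn⟩

theorem bijective_toFormalElt (R : CRing Λ k) (F : Art Λ k ⥤ Type v) :
    Function.Bijective (fun ξ : Family R.carrier R.res F => ξ.toFormalElt) := by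
  refine ⟨fun ξ η h => (truncSys R).family_ext fun n => congrArg (fun u => u.elt n) h,
    fun u => ⟨(truncSys R).family u.elt u.compat, FormalElt.ext' fun n => ?_⟩⟩
  exact (truncSys R).family_app_π u.elt u.compat n

lemma family_eq_of_toFormalElt_eq {R : CRing Λ k} {F : Art Λ k ⥤ Type v}
    {ξ η : Family R.carrier R.res F} (h : ξ.toFormalElt = η.toFormalElt) : ξ = η :=
  (bijective_toFormalElt R F).1 h

lemma exists_unique_limit (S : CRing Λ k) (a : ∀ n, S.trunc n)
    (ha : ∀ n, S.truncMap n (a (n + 1)) = a n) : ∃! s, ∀ n, (S.truncHom n).1 s = a n := by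
  choose b hb using fun n => truncHom_surjective S n (a n)
  haveI := S.isAdicComplete
  have hstep : ∀ n, b (n + 1) - b n ∈ CRing.mpow S n := fun n => by
    rw [← ker_truncHom, RingHom.mem_ker, map_sub, hb n, sub_eq_zero, ← ha n, ← hb (n + 1),
      ← homSet_map_apply, S.truncMap_truncHom]
  have hle : ∀ {m n}, m ≤ n → b n - b m ∈ CRing.mpow S m := by
    intro m n h
    induction h with
    | refl => rw [sub_self]; exact Submodule.zero_mem _
    | @step n hmn ih =>
      rw [show b (n + 1) - b m = (b (n + 1) - b n) + (b n - b m) by ring]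
      exact Submodule.add_mem _ (Ideal.pow_le_pow_right (Nat.succ_le_succ hmn) (hstep n)) ih
  obtain ⟨L, hL⟩ := IsPrecomplete.prec (I := IsLocalRing.maximalIdeal S.carrier) inferInstance
    (f := b) (fun {m n} h => by
      rw [SModEq.sub_mem, smul_eq_mul, Ideal.mul_top, ← neg_sub]
      exact neg_mem (Ideal.pow_le_pow_right (Nat.le_succ m) (hle h)))
  have hs : ∀ n, (S.truncHom n).1 L = a n := fun n => by
    have h1 := hL (n + 1)
    rw [SModEq.sub_mem, smul_eq_mul, Ideal.mul_top] at h1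
    have h2 : (S.truncHom n).1 (b (n + 1) - L) = 0 := by
      rw [← RingHom.mem_ker, ker_truncHom]; exact h1
    rw [map_sub, sub_eq_zero] at h2
    rw [← h2, ← ha n, ← hb (n + 1), ← homSet_map_apply, S.truncMap_truncHom]
  refine ⟨L, hs, fun y hy => ?_⟩
  refine sub_eq_zero.1 (IsHausdorff.haus (I := IsLocalRing.maximalIdeal S.carrier) inferInstance _
    fun n => ?_)
  rw [SModEq.zero, smul_eq_mul, Ideal.mul_top]
  refine Ideal.pow_le_pow_right (Nat.le_succ n) ?_
  have : (S.truncHom n).1 (y - L) = 0 := by rw [map_sub, hy, hs, sub_self]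
  rw [← RingHom.mem_ker, ker_truncHom] at this
  exact this

/-- Compatible maps into the truncations of a coefficient ring come from a map into it. -/
theorem exists_hom_of_compat (S : CRing Λ k) (ψ : ∀ n, HomSet R resR (S.trunc n))
    (h : ∀ n, HomSet.map (S.truncMap n) (ψ (n + 1)) = ψ n) :
    ∃ (g : R →ₐ[Λ] S.carrier) (_ : S.res.comp g = resR), ∀ n r, (S.truncHom n).1 (g r) = (ψ n).1 r := by
  have hr : ∀ r, ∃! s, ∀ n, (S.truncHom n).1 s = (ψ n).1 r := fun r =>
    exists_unique_limit S _ fun n => congrArg (fun φ : HomSet R resR _ => φ.1 r) (h n)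
  choose g hg hu using hr
  refine ⟨{ toFun := g
            map_one' := (hu _ _ fun n => by rw [map_one, map_one]).symm
            map_mul' := fun a b => (hu _ _ fun n => by rw [map_mul, map_mul, hg, hg]).symm
            map_zero' := (hu _ _ fun n => by rw [map_zero, map_zero]).symm
            map_add' := fun a b => (hu _ _ fun n => by rw [map_add, map_add, hg, hg]).symm
            commutes' := fun r => (hu _ _ fun n => by rw [AlgHom.commutes, AlgHom.commutes]).symm },
    AlgHom.ext fun r => ?_, fun n r => hg r n⟩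
  change S.res (g r) = resR r
  rw [← res_homSet_apply (S.truncHom 0) (g r), hg r 0, res_homSet_apply]

/-- Versality with respect to formal elements. -/
theorem exists_along_toFormalElt_eq {F : Art Λ k ⥤ Type v} (h0 : H0 F)
    (ξ : Family R resR F) (hξ : IsVersal ξ) (S : CRing Λ k) (η : FormalElt F S) :
    ∃ (g : R →ₐ[Λ] S.carrier) (hg : S.res.comp g = resR), (ξ.along g hg).toFormalElt = η := by
  let φ₀ : HomSet R resR (base Λ k) := ⟨resR, AlgHom.id_comp _⟩
  obtain ⟨ψ₀, -, hψ₀⟩ := hξ (toBase (S.trunc 0)) (surjective_toBase _) φ₀ (η.elt 0)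
    (@Subsingleton.elim _ h0.2 _ _)
  have step : ∀ n (ψ : {φ : HomSet R resR (S.trunc n) // ξ.app _ φ = η.elt n}),
      ∃ ψ' : {φ : HomSet R resR (S.trunc (n + 1)) // ξ.app _ φ = η.elt (n + 1)},
        HomSet.map (S.truncMap n) ψ'.1 = ψ.1 := fun n ψ => by
    obtain ⟨ψ', e₁, e₂⟩ := hξ (S.truncMap n) (truncMap_surjective S n) ψ.1 (η.elt (n + 1))
      (by rw [η.compat, ψ.2])
    exact ⟨⟨ψ', e₂⟩, e₁⟩
  choose next hnext using step
  let seq : ∀ n, {φ : HomSet R resR (S.trunc n) // ξ.app _ φ = η.elt n} :=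
    Nat.rec ⟨ψ₀, hψ₀⟩ (fun n ψ => next n ψ)
  obtain ⟨g, hg, hgn⟩ := exists_hom_of_compat S (fun n => (seq n).1) (fun n => hnext n (seq n))
  refine ⟨g, hg, FormalElt.ext' fun n => ?_⟩
  refine Eq.trans ?_ (seq n).2
  change ξ.app _ _ = ξ.app _ _
  exact congrArg (ξ.app _) (homSet_ext (hgn n))

theorem surjective_formalElt_map {F G : Art Λ k ⥤ Type v} (η : F ⟶ G) (hη : IsSmooth η)
    (h0 : Function.Surjective (η.app (base Λ k))) (R : CRing Λ k) :
    Function.Surjective (fun u : FormalElt F R => u.map η) := by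
  intro w
  obtain ⟨x₀, hx₀⟩ := surjective_app_of_isSmooth η hη h0 (R.trunc 0) (w.elt 0)
  have step : ∀ n (x : {x : F.obj (R.trunc n) // η.app _ x = w.elt n}),
      ∃ x' : {x : F.obj (R.trunc (n + 1)) // η.app _ x = w.elt (n + 1)},
        F.map (R.truncMap n) x'.1 = x.1 := fun n x => by
    obtain ⟨z, e₁, e₂⟩ := (isSmooth_iff η).1 hη _ (truncMap_surjective R n) x.1 (w.elt (n + 1))
      (by rw [w.compat, x.2])
    exact ⟨⟨z, e₂⟩, e₁⟩
  choose next hnext using step
  let seq : ∀ n, {x : F.obj (R.trunc n) // η.app _ x = w.elt n} :=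
    Nat.rec ⟨x₀, hx₀⟩ (fun n x => next n x)
  exact ⟨⟨fun n => (seq n).1, fun n => hnext n (seq n)⟩, FormalElt.ext' fun n => (seq n).2⟩

end Groth.Agent.ArtF85
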