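import Groth.Agent.ArtF85.Torsor
import Groth.Prelude.Def_ArtFun3

/-!
# Quotient objects, least lifting ideals, bounded tangent data
-/

set_option autoImplicit false
set_option linter.style.haveILetI false

universe u v

open CategoryTheory

namespace Groth.Agent.ArtF85

open ArtFun ArtFun.Art

variable {Λ : Type u} {k : Type u} [CommRing Λ] [Field k] [Algebra Λ k]
variable {F : Art Λ k ⥤ Type v}

/-- Factorisation of a morphism through a surjection. -/
noncomputable def surjFactor {B A C : Art Λ k} (f : B ⟶ A) (hf : Function.Surjective f) (g : B ⟶ C)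
    (h : RingHom.ker f.toAlgHom ≤ RingHom.ker g.toAlgHom) : A ⟶ C :=
  ⟨AlgHom.liftOfSurjective f.toAlgHom hf g.toAlgHom h, by
    apply AlgHom.ext
    intro a
    obtain ⟨b, rfl⟩ := hf a
    exact (congrArg C.res (AlgHom.liftOfSurjective_apply f.toAlgHom hf g.toAlgHom h b)).trans
      ((res_app g b).trans (res_app f b).symm)⟩

lemma comp_surjFactor {B A C : Art Λ k} (f : B ⟶ A) (hf : Function.Surjective f) (g : B ⟶ C)
    (h : RingHom.ker f.toAlgHom ≤ RingHom.ker g.toAlgHom) : f ≫ surjFactor f hf g h = g :=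
  hom_ext_apply fun b => AlgHom.liftOfSurjective_apply f.toAlgHom hf g.toAlgHom h b

lemma hom_ext_of_surjective {B A C : Art Λ k} {f : B ⟶ A} (hf : Function.Surjective f) {g g' : A ⟶ C}
    (h : f ≫ g = f ≫ g') : g = g' :=
  hom_ext_apply fun a => by
    obtain ⟨b, rfl⟩ := hf a
    exact congrArg (fun φ : B ⟶ C => φ b) h

/-- Among the ideals in the kernel of a semismall extension there is a least one modulo which a given
element lifts. -/
theorem exists_least_lift (h1 : S1 F) {B A : Art Λ k} (p : B ⟶ A) (hp : IsSemismallExt p)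
    (x : F.obj A) :
    ∃ (J₀ : Ideal B) (hJ₀ : J₀ ≤ RingHom.ker p.toAlgHom) (hJ₀' : J₀ ≤ IsLocalRing.maximalIdeal B),
      (∃ y : F.obj (quot B J₀ hJ₀'), F.map (quotFactor hJ₀' p hJ₀) y = x) ∧
      ∀ (J : Ideal B) (hJ : J ≤ RingHom.ker p.toAlgHom) (hJ' : J ≤ IsLocalRing.maximalIdeal B),
        (∃ y : F.obj (quot B J hJ'), F.map (quotFactor hJ' p hJ) y = x) → J₀ ≤ J := by
  set W := RingHom.ker p.toAlgHom with hW
  let Ok : Ideal B → Prop := fun J => ∃ (hJ : J ≤ W) (hJ' : J ≤ IsLocalRing.maximalIdeal B),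
    ∃ y : F.obj (quot B J hJ'), F.map (quotFactor hJ' p hJ) y = x
  have hWok : Ok W := by
    have hb : Function.Bijective (quotFactor (ker_le_maximalIdeal p) p le_rfl) := by
      refine ⟨fun a b e => ?_, surjective_of_surjective_comp (f := quotMk B W _)
        ((quotMk_quotFactor _ p le_rfl).symm ▸ hp.1)⟩
      obtain ⟨a, rfl⟩ := Ideal.Quotient.mk_surjective a
      obtain ⟨b, rfl⟩ := Ideal.Quotient.mk_surjective b
      exact Ideal.Quotient.eq.2 ((sub_mem_ker_iff p a b).2 e)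
    exact ⟨le_rfl, ker_le_maximalIdeal p, (map_bijective F _ hb).2 x⟩
  obtain ⟨J₀, ⟨hJ₀, hJ₀', hy₀⟩, hmin⟩ :=
    (wellFounded_lt (α := Ideal B)).has_min {J | Ok J} ⟨W, hWok⟩
  refine ⟨J₀, hJ₀, hJ₀', hy₀, fun K hK hK' hyK => ?_⟩
  obtain ⟨J', ⟨hle, hJ'W, hinf⟩, hmax⟩ := (wellFounded_gt (α := Ideal B)).has_min
    {J : Ideal B | J₀ ≤ J ∧ J ≤ W ∧ J ⊓ K ≤ J₀} ⟨J₀, le_rfl, hJ₀, inf_le_left⟩
  have hsup : W ≤ J' ⊔ K := by
    intro t ht
    by_contra htn
    refine hmax (J' ⊔ Ideal.span {t}) ⟨hle.trans le_sup_left,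
      sup_le hJ'W ((Ideal.span_singleton_le_iff_mem _).2 ht), ?_⟩ ?_
    · rintro z ⟨hz₁, hz₂⟩
      obtain ⟨j, hj, c', hc', rfl⟩ := Submodule.mem_sup.1 hz₁
      obtain ⟨c, rfl⟩ := Ideal.mem_span_singleton'.1 hc'
      by_cases hc : c ∈ IsLocalRing.maximalIdeal B
      · rw [mul_eq_zero_of_isSemismallExt hp hc (RingHom.mem_ker.1 ht), add_zero] at hz₂ ⊢
        exact hinf ⟨hj, hz₂⟩
      · rw [IsLocalRing.mem_maximalIdeal, mem_nonunits_iff, not_not] at hc
        obtain ⟨u, rfl⟩ := hc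
        refine absurd ?_ htn
        have h3 : (↑u⁻¹ : B) * (j + u * t) - (↑u⁻¹ : B) * j ∈ J' ⊔ K :=
          Submodule.sub_mem _ (Submodule.mem_sup_right (K.mul_mem_left _ hz₂))
            (Submodule.mem_sup_left (J'.mul_mem_left _ hj))
        rwa [mul_add, add_sub_cancel_left, ← mul_assoc, Units.inv_mul, one_mul] at h3
    · exact lt_of_le_of_ne le_sup_left fun heq => htn (Submodule.mem_sup_left
        (heq ▸ Submodule.mem_sup_right (Ideal.mem_span_singleton_self t)))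
  have hJ'm := hJ'W.trans (ker_le_maximalIdeal p)
  obtain ⟨y₀, hy₀⟩ := hy₀
  obtain ⟨yK, hyK⟩ := hyK
  have hLm : J' ⊓ K ≤ IsLocalRing.maximalIdeal B := inf_le_left.trans hJ'm
  have hLW : J' ⊓ K ≤ W := inf_le_left.trans hJ'W
  let π₁ : quot B (J' ⊓ K) hLm ⟶ quot B J' hJ'm :=
    quotFactor hLm (quotMk B J' hJ'm) (by rw [ker_quotMk]; exact inf_le_left)
  let π₂ : quot B (J' ⊓ K) hLm ⟶ quot B K hK' :=
    quotFactor hLm (quotMk B K hK') (by rw [ker_quotMk]; exact inf_le_right)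
  let s : quot B J₀ hJ₀' ⟶ quot B J' hJ'm :=
    quotFactor hJ₀' (quotMk B J' hJ'm) (by rw [ker_quotMk]; exact hle)
  have hs : s ≫ quotFactor hJ'm p hJ'W = quotFactor hJ₀' p hJ₀ := by
    refine hom_ext_apply fun a => ?_
    obtain ⟨a, rfl⟩ := Ideal.Quotient.mk_surjective a
    rfl
  have hsq : IsFibreProd π₁ π₂ (quotFactor hJ'm p hJ'W) (quotFactor hK' p hK) := by
    refine ⟨hom_ext_apply fun a => ?_, fun a b e₁ e₂ => ?_, fun a b e => ?_⟩
    · obtain ⟨a, rfl⟩ := Ideal.Quotient.mk_surjective a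
      rfl
    · obtain ⟨a, rfl⟩ := Ideal.Quotient.mk_surjective a
      obtain ⟨b, rfl⟩ := Ideal.Quotient.mk_surjective b
      exact Ideal.Quotient.eq.2 ⟨Ideal.Quotient.eq.1 e₁, Ideal.Quotient.eq.1 e₂⟩
    · obtain ⟨a, rfl⟩ := Ideal.Quotient.mk_surjective a
      obtain ⟨b, rfl⟩ := Ideal.Quotient.mk_surjective b
      obtain ⟨j, hj, l, hl, hjl⟩ := Submodule.mem_sup.1 (hsup ((sub_mem_ker_iff p a b).2 e))
      refine ⟨Ideal.Quotient.mk _ (a - j), Ideal.Quotient.eq.2 ?_, Ideal.Quotient.eq.2 ?_⟩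
      · rw [sub_sub_cancel_left]
        exact neg_mem hj
      · rw [show a - j - b = l by linear_combination -hjl]
        exact hl
  obtain ⟨y, hy₁, hy₂⟩ := (surjective_cmp_iff hsq).1 (h1 _ _ _ _ hsq
      (surjective_of_surjective_comp (f := quotMk B K hK') ((quotMk_quotFactor hK' p hK).symm ▸ hp.1)))
    (F.map s y₀) yK (by rw [map_map, hs, hy₀, hyK])
  have hok : Ok (J' ⊓ K) := ⟨hLW, hLm, y, by
    rw [show quotFactor hLm p hLW = π₂ ≫ quotFactor hK' p hK from ?_, ← map_map, hy₂, hyK]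
    refine hom_ext_apply fun a => ?_
    obtain ⟨a, rfl⟩ := Ideal.Quotient.mk_surjective a
    rfl⟩
  have : ¬ J' ⊓ K < J₀ := hmin _ hok
  have heq : J' ⊓ K = J₀ := le_antisymm hinf (le_of_eq (eq_of_le_of_not_lt hinf this).symm)
  exact heq ▸ inf_le_right

section RS

variable [IsNoetherianRing Λ] [Module.Finite Λ k]

/-- `H̄`, `H_ε` and `H` imply bijectivity of comparison maps along surjections. -/
theorem rs_of_hbar_heps_hsq (h1 : Hbar F) (h2 : Heps F) (h4 : HSq F)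
    ⦃B A A' A'' : Art Λ k⦄ (p' : B ⟶ A') (p'' : B ⟶ A'') (f' : A' ⟶ A) (f'' : A'' ⟶ A)
    (h : IsFibreProd p' p'' f' f'') (hf : Function.Surjective f'') :
    Function.Bijective (cmp F h) := by
  refine rs_of_rs_small (fun B A A' A'' p' p'' f' f'' h hs => ⟨?_, h1 p' p'' f' f'' h hs⟩) p' p'' f' f'' h hf
  rw [injective_cmp_iff]
  intro z w e₁ e₂
  obtain ⟨Q, q₁, q₂, d, Δ'', hQ, hd, k₁, k₂, -⟩ := exists_kernelPair hs
  have hp := surjective_fst h hs.1
  obtain ⟨P, r₁, r₂, hP⟩ := exists_fibreProd p' p' hp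
  have hw : (r₁ ≫ p'') ≫ f'' = (r₂ ≫ p'') ≫ f'' := by
    rw [Category.assoc, Category.assoc, ← h.w, ← Category.assoc, ← Category.assoc, hP.w]
  set Φ := fibreLift hQ (r₁ ≫ p'') (r₂ ≫ p'') hw with hΦ
  have Φ₁ : Φ ≫ q₁ = r₁ ≫ p'' := fibreLift_fst _ _ _ _
  have Φ₂ : Φ ≫ q₂ = r₂ ≫ p'' := fibreLift_snd _ _ _ _
  have hd' : IsFibreProd r₁ (Φ ≫ d) (toBase B) (toBase (dual Λ k)) := by
    refine ⟨(eq_toBase _).trans (eq_toBase _).symm, fun a b a₁ a₂ => ?_, fun b e he => ?_⟩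
    · have hΦab : Φ a = Φ b := hd.inj _ _
        (by
          have t := congrArg p'' a₁
          rw [← Art.comp_apply r₁ p'', ← Art.comp_apply r₁ p'', ← Φ₁] at t
          exact t) a₂
      refine hP.inj _ _ a₁ (h.inj _ _ ?_ ?_)
      · rw [← hP.w_apply, ← hP.w_apply, a₁]
      · have t := congrArg q₂ hΦab
        rw [← Art.comp_apply Φ q₂, ← Art.comp_apply Φ q₂, Φ₂] at t
        exact t
    · obtain ⟨c, hc₁, hc₂⟩ := hd.surj (p'' b) e ((res_app p'' b).trans he)
      obtain ⟨b', hb₁, hb₂⟩ := h.surj (p' b) (q₂ c) (by rw [h.w_apply, ← hc₁, hQ.w_apply])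
      obtain ⟨a, ha₁, ha₂⟩ := hP.surj b b' hb₁.symm
      refine ⟨a, ha₁, ?_⟩
      have : Φ a = c := by
        refine hQ.inj _ _ ?_ ?_
        · rw [← Art.comp_apply Φ q₁, Φ₁, Art.comp_apply, ha₁, hc₁]
        · rw [← Art.comp_apply Φ q₂, Φ₂, Art.comp_apply, ha₂, hb₂]
      rw [Art.comp_apply, this, hc₂]
  let ΔB : B ⟶ P := fibreLift hP (𝟙 B) (𝟙 B) rfl
  have b₁ : ΔB ≫ r₁ = 𝟙 B := fibreLift_fst _ _ _ _
  have b₂ : ΔB ≫ r₂ = 𝟙 B := fibreLift_snd _ _ _ _
  have hΔ : ΔB ≫ Φ = p'' ≫ Δ'' := by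
    apply fibreProd_hom_ext hQ
    · rw [Category.assoc, Φ₁, ← Category.assoc, b₁, Category.id_comp, Category.assoc, k₁, Category.comp_id]
    · rw [Category.assoc, Φ₂, ← Category.assoc, b₂, Category.id_comp, Category.assoc, k₂, Category.comp_id]
  obtain ⟨v, rfl, rfl⟩ := (surjective_cmp_iff hP).1 (s1_of_hbar h1 r₁ r₂ p' p' hP hp) z w e₁
  have hv : F.map Φ v = F.map Δ'' (F.map p'' (F.map r₁ v)) := by
    refine (injective_cmp_iff hQ).1 (h4 _ _ _ hQ hs).1 _ _ ?_ ?_
    · rw [map_map Φ q₁, Φ₁, map_map Δ'' q₁, k₁, map_id_apply, ← map_map r₁ p'']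
    · rw [map_map Φ q₂, Φ₂, map_map Δ'' q₂, k₂, map_id_apply, e₂, ← map_map r₂ p'']
  refine (eq_of_pair h2 hP hd' b₁ b₂ v ?_).symm
  rw [← map_map Φ d, hv, ← Category.assoc, hΔ, map_map, map_map]
  rfl

end RS

section Hfin

/-- Two derivations on a coefficient ring agreeing on a suitable finite set are equal. -/
theorem exists_finset_dual_ext [Module.Finite Λ k] (R : CRing Λ k) :
    ∃ s : Finset R.carrier, ∀ δ δ' : HomSet R.carrier R.res (dual Λ k),
      (∀ r ∈ s, eps (δ.1 r) = eps (δ'.1 r)) → δ = δ' := by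
  classical
  obtain ⟨t, ht⟩ := (inferInstance : Module.Finite Λ k).fg_top
  choose lift hlift using R.res_surjective
  obtain ⟨g, hg⟩ := (IsNoetherian.noetherian (IsLocalRing.maximalIdeal R.carrier))
  refine ⟨t.image lift ∪ g, fun δ δ' h => dual_homSet_ext fun r => ?_⟩
  obtain ⟨w, hw, hwr⟩ : ∃ w, eps (δ.1 w) = eps (δ'.1 w) ∧ R.res w = R.res r := by
    have : ∀ c ∈ Submodule.span Λ (t : Set k), ∃ w, eps (δ.1 w) = eps (δ'.1 w) ∧ R.res w = c := by
      intro c hc
      induction hc using Submodule.span_induction with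
      | mem x hx => exact ⟨lift x, h _ (Finset.mem_union_left _ (Finset.mem_image_of_mem _ hx)), hlift x⟩
      | zero => exact ⟨0, by rw [map_zero, map_zero], map_zero _⟩
      | add x y _ _ hx hy =>
        obtain ⟨w, hw, rfl⟩ := hx
        obtain ⟨w', hw', rfl⟩ := hy
        exact ⟨w + w', by rw [map_add, map_add, eps_add, eps_add, hw, hw'], map_add _ _ _⟩
      | smul a x _ hx =>
        obtain ⟨w, hw, rfl⟩ := hx
        refine ⟨algebraMap Λ R.carrier a * w, ?_, ?_⟩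
        · simp only [map_mul, AlgHom.commutes, eps_mul, eps_algebraMap, hw, mul_zero]
        · rw [map_mul, AlgHom.commutes, Algebra.smul_def]
    exact this _ (ht ▸ Submodule.mem_top)
  suffices ∀ m ∈ IsLocalRing.maximalIdeal R.carrier, eps (δ.1 m) = eps (δ'.1 m) by
    have h1 := this (r - w) (by rw [CRing.mem_maximalIdeal_iff, map_sub, hwr, sub_self])
    rw [map_sub, map_sub, eps_sub, eps_sub, hw] at h1
    exact sub_left_inj.1 h1
  intro m hm
  rw [← hg] at hm
  have hmres : ∀ x ∈ g, R.res x = 0 := fun x hx =>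
    (R.mem_maximalIdeal_iff x).1 (hg ▸ Submodule.subset_span hx)
  refine (?_ : eps (δ.1 m) = eps (δ'.1 m) ∧ R.res m = 0).1
  induction hm using Submodule.span_induction with
  | mem x hx => exact ⟨h x (Finset.mem_union_right _ hx), hmres x hx⟩
  | zero => exact ⟨by rw [map_zero, map_zero], map_zero _⟩
  | add x y _ _ hx hy =>
    exact ⟨by rw [map_add, map_add, eps_add, eps_add, hx.1, hy.1], by rw [map_add, hx.2, hy.2, add_zero]⟩
  | smul a x _ hx =>
    refine ⟨?_, by rw [smul_eq_mul, map_mul, hx.2, mul_zero]⟩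
    simp only [smul_eq_mul, map_mul, eps_mul, res_homSet_apply, hx.1, hx.2, zero_mul]

variable [TangentStr F]

lemma family_map_addHom {R : Type u} [CommRing R] [Algebra Λ R] {resR : R →ₐ[Λ] k}
    (ξ : Family R resR F) {E : Art Λ k} (a b : E ⟶ dual Λ k) (ψ : HomSet R resR E) :
    TangentSpace.ofFamily ξ (HomSet.map (addHom a b) ψ) =
      TangentSpace.ofFamily ξ (HomSet.map a ψ) + TangentSpace.ofFamily ξ (HomSet.map b ψ) := by
  change ξ.app _ _ = TangentSpace.mk (ξ.app _ _) + TangentSpace.mk (ξ.app _ _)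
  rw [ξ.natural, ξ.natural, ξ.natural]
  exact (tan_add a b _).symm

lemma family_map_scale {R : Type u} [CommRing R] [Algebra Λ R] {resR : R →ₐ[Λ] k}
    (ξ : Family R resR F) (c : k) (δ : HomSet R resR (dual Λ k)) :
    TangentSpace.ofFamily ξ (HomSet.map (scale c) δ) = c • TangentSpace.ofFamily ξ δ :=
  (ξ.natural (scale c) δ).trans (TangentStr.smul_eq c (ξ.app _ δ)).symm

theorem hfin_of_bijective [Module.Finite Λ k] (R : CRing Λ k) (ξ : Family R.carrier R.res F)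
    (hξ : Function.Bijective (ξ.app (dual Λ k))) : Hfin F := by
  obtain ⟨s, hs⟩ := exists_finset_dual_ext R
  let e : HomSet R.carrier R.res (dual Λ k) ≃ TangentSpace F :=
    Equiv.ofBijective (fun δ => TangentSpace.ofFamily ξ δ) hξ
  let L : TangentSpace F →ₗ[k] (s → k) :=
    { toFun := fun x i => eps ((e.symm x).1 i)
      map_add' := fun x y => by
        funext i
        obtain ⟨δ, rfl⟩ : ∃ δ : HomSet R.carrier R.res (dual Λ k), TangentSpace.ofFamily ξ δ = x := hξ.2 x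
        obtain ⟨δ', rfl⟩ : ∃ δ : HomSet R.carrier R.res (dual Λ k), TangentSpace.ofFamily ξ δ = y := hξ.2 y
        obtain ⟨ψ, rfl, rfl⟩ := exists_homSet_lift isFibreProd_dual2 δ δ' (Subsingleton.elim _ _)
        rw [Pi.add_apply, ← family_map_addHom]
        change eps ((e.symm (e _)).1 _) = eps ((e.symm (e _)).1 _) + eps ((e.symm (e _)).1 _)
        rw [Equiv.symm_apply_apply, Equiv.symm_apply_apply, Equiv.symm_apply_apply]
        exact eps_addHom pr₁ pr₂ (ψ.1 i)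
      map_smul' := fun c x => by
        funext i
        obtain ⟨δ, rfl⟩ : ∃ δ : HomSet R.carrier R.res (dual Λ k), TangentSpace.ofFamily ξ δ = x := hξ.2 x
        rw [Pi.smul_apply, RingHom.id_apply, smul_eq_mul, ← family_map_scale]
        change eps ((e.symm (e _)).1 _) = c * eps ((e.symm (e _)).1 _)
        rw [Equiv.symm_apply_apply, Equiv.symm_apply_apply]
        exact eps_scale c (δ.1 i) }
  refine Module.Finite.of_injective L fun x y e' => ?_
  exact e.symm.injective (hs _ _ fun r hr => congrFun e' ⟨r, hr⟩)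

end Hfin

end Groth.Agent.ArtF85
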