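import Groth.Agent.ArtF85.Dual
import Groth.Agent.ArtF85.Formal
import Groth.Agent.ArtF85.Quot
import Mathlib.RingTheory.AdicCompletion.Noetherian

/-!
# Quotients, surjections and endomorphisms of coefficient rings
-/

set_option autoImplicit false
set_option linter.style.haveILetI false

universe u v

open CategoryTheory

namespace Groth.Agent.ArtF85

open ArtFun ArtFun.Art

variable {Λ : Type u} {k : Type u} [CommRing Λ] [Field k] [Algebra Λ k]

/-- Quotient of a coefficient ring. -/
noncomputable def cringQuot (R : CRing Λ k) (I : Ideal R.carrier)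
    (hI : I ≤ IsLocalRing.maximalIdeal R.carrier) : CRing Λ k :=
  haveI : Nontrivial (R.carrier ⧸ I) := Ideal.Quotient.nontrivial_iff.2
    fun h => (IsLocalRing.maximalIdeal.isMaximal R.carrier).ne_top (top_le_iff.1 (h ▸ hI))
  haveI : IsLocalRing (R.carrier ⧸ I) :=
    IsLocalRing.of_surjective' (Ideal.Quotient.mk I) Ideal.Quotient.mk_surjective
  { carrier := R.carrier ⧸ I
    res := Ideal.Quotient.liftₐ I R.res (fun a ha => (R.mem_maximalIdeal_iff a).1 (hI ha))
    res_surjective := fun c => by
      obtain ⟨a, ha⟩ := R.res_surjective c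
      exact ⟨Ideal.Quotient.mk I a, ha⟩
    isAdicComplete := by
      set m := IsLocalRing.maximalIdeal R.carrier
      haveI := R.isAdicComplete
      have hmap : IsLocalRing.maximalIdeal (R.carrier ⧸ I) = m.map (Ideal.Quotient.mk I) := by
        refine (IsLocalRing.eq_maximalIdeal ((Ideal.map_eq_top_or_isMaximal_of_surjective (Ideal.Quotient.mk I)
          Ideal.Quotient.mk_surjective (IsLocalRing.maximalIdeal.isMaximal _)).resolve_left fun h => ?_)).symm
        have h1 : (1 : R.carrier ⧸ I) ∈ m.map (Ideal.Quotient.mk I) := h ▸ Submodule.mem_top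
        obtain ⟨a, ha, ha1⟩ :=
          (Ideal.mem_map_iff_of_surjective _ Ideal.Quotient.mk_surjective).1 h1
        have h2 : a - 1 ∈ m := hI (Ideal.Quotient.eq.1 (ha1.trans (map_one _).symm))
        exact (IsLocalRing.maximalIdeal.isMaximal _).ne_top
          ((Ideal.eq_top_iff_one _).2 (by simpa using m.sub_mem ha h2))
      refine { toIsHausdorff := inferInstance, toIsPrecomplete := ⟨fun f hf => ?_⟩ }
      have hstep : ∀ n, ∃ d ∈ m ^ n, Ideal.Quotient.mk I d = f (n + 1) - f n := fun n => by
        have h1 := SModEq.sub_mem.1 (hf (Nat.le_succ n)).symm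
        rw [smul_eq_mul, Ideal.mul_top, hmap, ← Ideal.map_pow] at h1
        exact (Ideal.mem_map_iff_of_surjective _ Ideal.Quotient.mk_surjective).1 h1
      choose d hd hd' using hstep
      obtain ⟨a₀, ha₀⟩ := Ideal.Quotient.mk_surjective (f 0)
      let g : ℕ → R.carrier := fun n => a₀ + ∑ i ∈ Finset.range n, d i
      have hg : ∀ n, Ideal.Quotient.mk I (g n) = f n := by
        intro n
        induction n with
        | zero => simpa [g] using ha₀
        | succ n ih =>
          simp only [g, Finset.sum_range_succ, map_add] at ih ⊢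
          rw [← add_assoc, ih, hd' n, add_sub_cancel]
      have hle : ∀ {a b}, a ≤ b → g b - g a ∈ m ^ a := by
        intro a b h
        induction h with
        | refl => rw [sub_self]; exact Submodule.zero_mem _
        | @step b hb ih =>
          have : g (b + 1) - g a = (g b - g a) + d b := by simp [g, Finset.sum_range_succ]; ring
          rw [this]
          exact Submodule.add_mem _ ih (Ideal.pow_le_pow_right hb (hd b))
      obtain ⟨L, hL⟩ := IsPrecomplete.prec (I := m) inferInstance (f := g) (fun {a b} h => by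
        rw [SModEq.sub_mem, smul_eq_mul, Ideal.mul_top, ← neg_sub]
        exact neg_mem (hle h))
      refine ⟨Ideal.Quotient.mk I L, fun n => ?_⟩
      have h1 := hL n
      rw [SModEq.sub_mem, smul_eq_mul, Ideal.mul_top] at h1 ⊢
      rw [hmap, ← Ideal.map_pow, ← hg n, ← map_sub]
      exact Ideal.mem_map_of_mem _ h1 }

/-- The projection onto the quotient. -/
noncomputable def cringMk (R : CRing Λ k) (I : Ideal R.carrier)
    (hI : I ≤ IsLocalRing.maximalIdeal R.carrier) : R.carrier →ₐ[Λ] (cringQuot R I hI).carrier :=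
  Ideal.Quotient.mkₐ Λ I

lemma res_comp_cringMk (R : CRing Λ k) (I : Ideal R.carrier)
    (hI : I ≤ IsLocalRing.maximalIdeal R.carrier) :
    (cringQuot R I hI).res.comp (cringMk R I hI) = R.res :=
  Ideal.Quotient.liftₐ_comp I R.res _

lemma cringMk_surjective (R : CRing Λ k) (I : Ideal R.carrier)
    (hI : I ≤ IsLocalRing.maximalIdeal R.carrier) : Function.Surjective (cringMk R I hI) :=
  Ideal.Quotient.mk_surjective

lemma ker_cringMk (R : CRing Λ k) (I : Ideal R.carrier)
    (hI : I ≤ IsLocalRing.maximalIdeal R.carrier) : RingHom.ker (cringMk R I hI) = I := by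
  ext a
  rw [RingHom.mem_ker]
  exact Ideal.Quotient.eq_zero_iff_mem

variable {S R : CRing Λ k}

lemma map_maximalIdeal_le_of_res (f : S.carrier →ₐ[Λ] R.carrier) (hf : R.res.comp f = S.res) :
    (IsLocalRing.maximalIdeal S.carrier).map f ≤ IsLocalRing.maximalIdeal R.carrier :=
  Ideal.map_le_iff_le_comap.2 fun a ha =>
    (R.mem_maximalIdeal_iff _).2 ((AlgHom.congr_fun hf a).trans ((S.mem_maximalIdeal_iff a).1 ha))

/-- A map of coefficient rings is surjective as soon as all its truncations are. -/
theorem surjective_of_surjective_trunc (f : S.carrier →ₐ[Λ] R.carrier) (hf : R.res.comp f = S.res)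
    (h : Function.Surjective fun s => (R.truncHom 1).1 (f s)) : Function.Surjective f := by
  set m := IsLocalRing.maximalIdeal R.carrier
  set m' := IsLocalRing.maximalIdeal S.carrier
  haveI := R.isAdicComplete
  haveI := S.isAdicComplete
  have h1 : ∀ r ∈ m, ∃ s ∈ m', r - f s ∈ m ^ 2 := fun r hr => by
    obtain ⟨s, hs⟩ := h ((R.truncHom 1).1 r)
    have hd : r - f s ∈ m ^ 2 := by
      have : (R.truncHom 1).1 (r - f s) = 0 := by rw [map_sub, sub_eq_zero]; exact hs.symm
      rw [← RingHom.mem_ker, ker_truncHom] at this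
      exact this
    refine ⟨s, (S.mem_maximalIdeal_iff s).2 ?_, hd⟩
    have h2 : R.res (r - f s) = 0 := (R.mem_maximalIdeal_iff _).1 (Ideal.pow_le_self two_ne_zero hd)
    rw [map_sub, (R.mem_maximalIdeal_iff r).1 hr, zero_sub, neg_eq_zero] at h2
    exact (AlgHom.congr_fun hf s).symm.trans h2
  have hle : ∀ n, (m' ^ n).map f ≤ m ^ n := fun n => by
    rw [Ideal.map_pow]
    exact Ideal.pow_right_mono (map_maximalIdeal_le_of_res f hf) n
  have key : ∀ n, ∀ r ∈ m ^ n, ∃ s ∈ m' ^ n, r - f s ∈ m ^ (n + 1) := by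
    intro n
    induction n with
    | zero =>
      intro r _
      obtain ⟨s, hs⟩ := S.res_surjective (R.res r)
      refine ⟨s, by simp, ?_⟩
      rw [zero_add, pow_one, R.mem_maximalIdeal_iff, map_sub, sub_eq_zero]
      exact hs.symm.trans (AlgHom.congr_fun hf s).symm
    | succ n ih =>
      intro r hr
      rw [pow_succ] at hr
      induction hr using Submodule.mul_induction_on' with
      | mem_mul_mem a ha b hb =>
        obtain ⟨s, hs, hsa⟩ := ih a ha
        obtain ⟨t, ht, htb⟩ := h1 b hb
        refine ⟨s * t, by rw [pow_succ]; exact Ideal.mul_mem_mul hs ht, ?_⟩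
        rw [map_mul, show a * b - f s * f t = (a - f s) * b + f s * (b - f t) by ring]
        refine Ideal.add_mem _ ?_ ?_
        · rw [pow_succ m (n + 1)]; exact Ideal.mul_mem_mul hsa hb
        · rw [show n + 1 + 1 = n + 2 from rfl, pow_add]
          exact Ideal.mul_mem_mul (hle n (Ideal.mem_map_of_mem f hs)) htb
      | add a _ b _ ha hb =>
        obtain ⟨s, hs, hsa⟩ := ha
        obtain ⟨t, ht, htb⟩ := hb
        refine ⟨s + t, Ideal.add_mem _ hs ht, ?_⟩
        rw [map_add, show a + b - (f s + f t) = (a - f s) + (b - f t) by ring]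
        exact Ideal.add_mem _ hsa htb
  intro r
  have step : ∀ (n : ℕ) (x : {x : S.carrier // r - f x ∈ m ^ n}),
      ∃ y : {x : S.carrier // r - f x ∈ m ^ (n + 1)}, y.1 - x.1 ∈ m' ^ n := fun n x => by
    obtain ⟨s, hs, hd⟩ := key n _ x.2
    exact ⟨⟨x.1 + s, by rw [map_add, ← sub_sub]; exact hd⟩, by rw [add_sub_cancel_left]; exact hs⟩
  choose next hnext using step
  let seq : ∀ n, {x : S.carrier // r - f x ∈ m ^ n} := Nat.rec ⟨0, by simp⟩ (fun n x => next n x)
  have hcau : ∀ {a b}, a ≤ b → (seq b).1 - (seq a).1 ∈ m' ^ a := by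
    intro a b hab
    induction hab with
    | refl => rw [sub_self]; exact Submodule.zero_mem _
    | @step b hb ih =>
      rw [show (seq (b + 1)).1 - (seq a).1 =
        ((next b (seq b)).1 - (seq b).1) + ((seq b).1 - (seq a).1) by
          rw [sub_add_sub_cancel]]
      exact Submodule.add_mem _ (Ideal.pow_le_pow_right hb (hnext b (seq b))) ih
  obtain ⟨L, hL⟩ := IsPrecomplete.prec (I := m') inferInstance (f := fun n => (seq n).1)
    (fun {a b} hab => by
      rw [SModEq.sub_mem, smul_eq_mul, Ideal.mul_top, ← neg_sub]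
      exact neg_mem (hcau hab))
  refine ⟨L, (sub_eq_zero.1 (IsHausdorff.haus (I := m) inferInstance _ fun n => ?_)).symm⟩
  have h3 := hL n
  rw [SModEq.sub_mem, smul_eq_mul, Ideal.mul_top] at h3
  rw [SModEq.zero, smul_eq_mul, Ideal.mul_top,
    show r - f L = (r - f (seq n).1) + f ((seq n).1 - L) by rw [map_sub]; ring]
  exact Ideal.add_mem _ (seq n).2 (hle n (Ideal.mem_map_of_mem f h3))

/-- Surjectivity through derivations. -/
theorem surjective_of_derivations (f : S.carrier →ₐ[Λ] R.carrier)
    (hf : R.res.comp f = S.res)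
    (h : ∀ δ : R.trunc 1 ⟶ dual Λ k, (∀ s, eps (δ ((R.truncHom 1).1 (f s))) = 0) →
      ∀ a, eps (δ a) = 0) : Function.Surjective f := by
  refine surjective_of_surjective_trunc f hf ?_
  let φ : HomSet S.carrier S.res (R.trunc 1) := ⟨(R.truncHom 1).1.comp f, AlgHom.ext fun r =>
    (res_homSet_apply (R.truncHom 1) (f r)).trans (AlgHom.congr_fun hf r)⟩
  obtain ⟨N, hN⟩ := exists_mpow_le_ker S φ
  let g : S.trunc N ⟶ R.trunc 1 := (truncSys S).factor φ ((ker_truncHom S N).trans_le hN)
  have hg : HomSet.map g (S.truncHom N) = φ := (truncSys S).map_factor φ _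
  have hs : Function.Surjective g := surjective_of_dual_ext g fun δ hδ => h δ fun s => by
    have := hδ ((S.truncHom N).1 s)
    rwa [← homSet_map_apply g, hg] at this
  intro a
  obtain ⟨b, rfl⟩ := hs a
  obtain ⟨s, rfl⟩ := truncHom_surjective S N b
  exact ⟨s, (congrArg (fun ψ : HomSet S.carrier S.res (R.trunc 1) => ψ.1 s) hg).symm⟩

/-- A surjective endomorphism of a Noetherian ring is injective. -/
theorem injective_of_surjective_endo {A : Type u} [CommRing A] [IsNoetherianRing A] (f : A →+* A)
    (hf : Function.Surjective f) : Function.Injective f := by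
  obtain ⟨n, hn⟩ := monotone_stabilizes_iff_noetherian.2 (inferInstance : IsNoetherian A A)
    ⟨fun n => RingHom.ker (f ^ n), monotone_nat_of_le_succ fun n x hx => by
      rw [RingHom.mem_ker] at hx ⊢
      rw [RingHom.coe_pow, Function.iterate_succ_apply', ← RingHom.coe_pow, hx, map_zero]⟩
  rw [injective_iff_map_eq_zero]
  intro x hx
  obtain ⟨y, rfl⟩ := hf.iterate n x
  have : y ∈ RingHom.ker (f ^ (n + 1)) := by
    rw [RingHom.mem_ker, RingHom.coe_pow, Function.iterate_succ_apply']
    exact hx
  have e : RingHom.ker (f ^ n) = RingHom.ker (f ^ (n + 1)) := hn (n + 1) (Nat.le_succ n)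
  have h0 : y ∈ RingHom.ker (f ^ n) := by rw [e]; exact this
  rwa [RingHom.mem_ker, RingHom.coe_pow] at h0

/-- Chevalley's lemma. -/
theorem exists_le_sup_mpow (J : ℕ → Ideal R.carrier) (hJ : Antitone J) (N : ℕ) :
    ∃ n, J n ≤ (⨅ i, J i) ⊔ CRing.mpow R N := by
  set m := IsLocalRing.maximalIdeal R.carrier
  haveI := R.isAdicComplete
  have stab : ∀ M, ∃ n, ∀ n', n ≤ n' → (J n ⊔ CRing.mpow R M) = (J n' ⊔ CRing.mpow R M) := fun M => by
    haveI := CRing.isArtinianRing_quot_mpow R M
    obtain ⟨n, hn⟩ := monotone_stabilizes_iff_artinian.2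
      (inferInstance : IsArtinian (R.carrier ⧸ CRing.mpow R M) (R.carrier ⧸ CRing.mpow R M))
      ⟨fun n => OrderDual.toDual ((J n).map (Ideal.Quotient.mk (CRing.mpow R M))),
        fun a b hab => Ideal.map_mono (hJ hab)⟩
    refine ⟨n, fun n' hn' => ?_⟩
    have := congrArg (Ideal.comap (Ideal.Quotient.mk (CRing.mpow R M)))
      (OrderDual.toDual.injective (hn n' hn'))
    simpa [Ideal.comap_map_of_surjective _ Ideal.Quotient.mk_surjective, ← RingHom.ker_eq_comap_bot]
      using this
  choose n₀ hn₀ using stab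
  let n : ℕ → ℕ := fun M => ∑ i ∈ Finset.range (M + 1), n₀ i
  have hn₀le : ∀ M, n₀ M ≤ n M := fun M =>
    Finset.single_le_sum (f := n₀) (fun _ _ => Nat.zero_le _) (Finset.self_mem_range_succ M)
  have hmono : ∀ M, n M ≤ n (M + 1) := fun M =>
    Finset.sum_le_sum_of_subset (fun i hi => by simp only [Finset.mem_range] at hi ⊢; omega)
  refine ⟨n N, fun x hx => ?_⟩
  have step : ∀ (M : ℕ) (y : {y : R.carrier // y ∈ J (n M) ⊔ CRing.mpow R M}),
      ∃ z : {y : R.carrier // y ∈ J (n (M + 1)) ⊔ CRing.mpow R (M + 1)},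
        z.1 - y.1 ∈ CRing.mpow R M := fun M y => by
    have h1 : y.1 ∈ J (n (M + 1)) ⊔ CRing.mpow R M := by
      rw [← hn₀ M (n (M + 1)) ((hn₀le M).trans (hmono M)), hn₀ M (n M) (hn₀le M)]
      exact y.2
    obtain ⟨a, ha, b, hb, hab⟩ := Submodule.mem_sup.1 h1
    exact ⟨⟨a, Submodule.mem_sup_left ha⟩, by
      rw [← hab, sub_add_cancel_left]; exact neg_mem hb⟩
  choose next hnext using step
  let seq : ∀ i, {y : R.carrier // y ∈ J (n (N + i)) ⊔ CRing.mpow R (N + i)} :=
    Nat.rec ⟨x, Submodule.mem_sup_left hx⟩ (fun i y => next (N + i) y)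
  have hcau : ∀ {a b}, a ≤ b → (seq b).1 - (seq a).1 ∈ CRing.mpow R (N + a) := by
    intro a b hab
    induction hab with
    | refl => rw [sub_self]; exact Submodule.zero_mem _
    | @step b hb ih =>
      rw [show (seq (b + 1)).1 - (seq a).1 =
        ((next (N + b) (seq b)).1 - (seq b).1) + ((seq b).1 - (seq a).1) by
          rw [sub_add_sub_cancel]]
      exact Submodule.add_mem _ (Ideal.pow_le_pow_right (Nat.add_le_add_right (Nat.add_le_add_left hb N) 1) (hnext _ (seq b))) ih
  obtain ⟨L, hL⟩ := IsPrecomplete.prec (I := m) inferInstance (f := fun i => (seq i).1)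
    (fun {a b} hab => by
      rw [SModEq.sub_mem, smul_eq_mul, Ideal.mul_top, ← neg_sub]
      exact neg_mem (Ideal.pow_le_pow_right (by omega) (hcau hab)))
  have hLn : ∀ i, (seq i).1 - L ∈ CRing.mpow R (N + i) := fun i => by
    have h4 := hL (N + i + 1)
    rw [SModEq.sub_mem, smul_eq_mul, Ideal.mul_top] at h4
    rw [show (seq i).1 - L = ((seq (N + i + 1)).1 - L) - ((seq (N + i + 1)).1 - (seq i).1) by ring]
    exact Ideal.sub_mem _ h4 (hcau (show i ≤ N + i + 1 by omega))
  have hLmem : ∀ i, L ∈ J i := fun i => by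
    have hcl : ∀ M, L ∈ J i ⊔ CRing.mpow R M := fun M => by
      set j := M + i with hj
      have h5 : L ∈ J (n (N + j)) ⊔ CRing.mpow R (N + j) := by
        rw [show L = (seq j).1 - ((seq j).1 - L) by ring]
        exact Ideal.sub_mem _ (seq j).2 (Submodule.mem_sup_right (hLn j))
      have hbig : J (n (N + j)) ⊔ CRing.mpow R M ≤ J i ⊔ CRing.mpow R M := by
        rcases le_total i (n (N + j)) with h | h
        · exact sup_le_sup_right (hJ h) _
        · refine le_of_eq ?_
          have e1 := hn₀ (N + j) (n (N + j)) (hn₀le _)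
          have e2 := hn₀ (N + j) i ((hn₀le _).trans h)
          have e3 : J (n (N + j)) ⊔ CRing.mpow R (N + j) = J i ⊔ CRing.mpow R (N + j) := e1.symm.trans e2
          have hle : CRing.mpow R (N + j) ≤ CRing.mpow R M := Ideal.pow_le_pow_right (by omega)
          calc J (n (N + j)) ⊔ CRing.mpow R M
              = (J (n (N + j)) ⊔ CRing.mpow R (N + j)) ⊔ CRing.mpow R M := by
                rw [sup_assoc, sup_eq_right.2 hle]
            _ = _ := by rw [e3, sup_assoc, sup_eq_right.2 hle]
      have hle' : CRing.mpow R (N + j) ≤ CRing.mpow R M :=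
        Ideal.pow_le_pow_right (show M + 1 ≤ N + j + 1 by omega)
      exact hbig ((sup_le_sup_left hle' (J (n (N + j)))) h5)
    rw [← Ideal.Quotient.eq_zero_iff_mem]
    refine IsHausdorff.haus (I := m) inferInstance _ fun M => ?_
    rw [SModEq.zero, Ideal.smul_top_eq_map, Submodule.restrictScalars_mem]
    obtain ⟨a, ha, b, hb, hab⟩ := Submodule.mem_sup.1 (hcl M)
    rw [← hab, map_add, Ideal.Quotient.eq_zero_iff_mem.2 ha, zero_add]
    exact Ideal.mem_map_of_mem _ (Ideal.pow_le_pow_right (Nat.le_succ M) hb)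
  refine Submodule.mem_sup.2 ⟨L, Submodule.mem_iInf _ |>.2 hLmem, x - L, ?_, by ring⟩
  exact hLn 0

end Groth.Agent.ArtF85
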