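import Groth.Agent.ArtF85.Classical

/-!
# Consequences of the structure of smooth coefficient rings
-/

set_option autoImplicit false
set_option linter.style.haveILetI false

universe u v

open CategoryTheory

namespace Groth.Agent.ArtF85

open ArtFun ArtFun.Art

variable {Λ : Type u} {k : Type u} [CommRing Λ] [Field k] [Algebra Λ k]

/-- Smoothness of `h` is transported by isomorphisms. -/
lemma isSmoothFunctor_of_algEquiv {R P : CRing Λ k} (e : R.carrier ≃ₐ[Λ] P.carrier)
    (he : P.res.comp (e : R.carrier →ₐ[Λ] P.carrier) = R.res)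
    (h : IsSmoothFunctor (hR P.carrier P.res)) : IsSmoothFunctor (hR R.carrier R.res) := fun B A μ hμ φ => by
  have he' : ∀ p, R.res (e.symm p) = P.res p := fun p => by
    rw [← he, AlgHom.comp_apply]
    exact congrArg P.res (e.apply_symm_apply p)
  let φ' : HomSet P.carrier P.res A := ⟨φ.1.comp e.symm.toAlgHom, AlgHom.ext fun p =>
    (res_homSet_apply φ _).trans (he' p)⟩
  obtain ⟨ψ, hψ⟩ := h μ hμ φ'
  let ψ₀ : HomSet P.carrier P.res B := ψ
  refine ⟨⟨ψ₀.1.comp (e : R.carrier →ₐ[Λ] P.carrier), by rw [← AlgHom.comp_assoc, ψ₀.2, he]⟩,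
    homSet_ext fun r => ?_⟩
  change μ (ψ₀.1 (e r)) = φ.1 r
  have h1 := congrArg (fun t : HomSet P.carrier P.res A => t.1 (e r)) hψ
  exact h1.trans (congrArg φ.1 (e.symm_apply_apply r))

variable [IsNoetherianRing Λ] [Module.Finite Λ k] [IsLocalRing Λ] [IsAdicComplete (IsLocalRing.maximalIdeal Λ) Λ]

lemma isSmoothFunctor_of_equiv_powerSeries (hk : Function.Surjective (algebraMap Λ k)) (R : CRing Λ k) {n : ℕ}
    (e : R.carrier ≃ₐ[Λ] MvPowerSeries (Fin n) Λ) : IsSmoothFunctor (hR R.carrier R.res) :=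
  isSmoothFunctor_of_algEquiv (P := psRing (lamRing hk) n) e (res_eq_of_surjective hk R _)
    (isSmoothFunctor_psRing hk n)

theorem isSmoothFunctor_iff_powerSeries (hk : Function.Surjective (algebraMap Λ k)) (R : CRing Λ k) :
    IsSmoothFunctor (hR R.carrier R.res) ↔ ∃ n : ℕ, Nonempty (R.carrier ≃ₐ[Λ] MvPowerSeries (Fin n) Λ) := by
  refine ⟨fun h => ?_, fun ⟨n, ⟨e⟩⟩ => isSmoothFunctor_of_equiv_powerSeries hk R e⟩
  obtain ⟨n, ⟨e⟩⟩ := exists_equiv_psRing hk R h
  exact ⟨n, ⟨e⟩⟩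

variable {F : Art Λ k ⥤ Type v}

theorem isMiniversal_of_powerSeries (hk : Function.Surjective (algebraMap Λ k)) (hF : HasHull F) (R : CRing Λ k)
    {n : ℕ} (e : R.carrier ≃ₐ[Λ] MvPowerSeries (Fin n) Λ) (ξ : Family R.carrier R.res F)
    (hξ : Function.Bijective (TangentSpace.ofFamily ξ)) : IsMiniversal ξ := by
  obtain ⟨H⟩ := hF
  have h0 := h0_of_isMiniversal H.miniversal
  obtain ⟨f, hf, hfξ⟩ := exists_along_toFormalElt_eq h0 H.family H.miniversal.1 R ξ.toFormalElt
  have hfam : H.family.along f hf = ξ := family_eq_of_toFormalElt_eq hfξ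
  let pre : ∀ A : Art Λ k, HomSet R.carrier R.res A → HomSet H.ring.carrier H.ring.res A := fun A φ =>
    ⟨φ.1.comp f, AlgHom.ext fun x => (res_homSet_apply φ (f x)).trans (AlgHom.congr_fun hf x)⟩
  have happ : ∀ A φ, ξ.app A φ = H.family.app A (pre A φ) := fun A φ => by
    rw [← hfam]
    rfl
  have hpre : Function.Bijective (pre (dual Λ k)) := by
    refine ⟨fun a b h => hξ.1 ?_, fun c => ?_⟩
    · change ξ.app _ a = ξ.app _ b
      rw [happ, happ, h]
    · obtain ⟨a, ha⟩ := hξ.2 (H.family.app _ c)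
      exact ⟨a, H.miniversal.2.1 ((happ _ a).symm.trans ha)⟩
  have hfs : Function.Surjective f := surjective_of_derivations f hf fun δ hδ a => by
    have h1 : HomSet.map δ (R.truncHom 1) = HomSet.map (zeroHom (R.trunc 1)) (R.truncHom 1) := hpre.1
      (dual_homSet_ext fun s => by
        change eps (δ ((R.truncHom 1).1 (f s))) = eps (zeroHom (R.trunc 1) ((R.truncHom 1).1 (f s)))
        rw [hδ, eps_zeroHom])
    obtain ⟨x, rfl⟩ := truncHom_surjective R 1 a
    have h2 := congrArg (fun t : HomSet R.carrier R.res (dual Λ k) => eps (t.1 x)) h1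
    simp only [homSet_map_apply, eps_zeroHom] at h2
    exact h2
  obtain ⟨s, hs, hfs'⟩ := exists_section_of_isSmoothFunctor H.ring R f hf hfs
    (isSmoothFunctor_of_equiv_powerSeries hk R e)
  have hss : Function.Surjective s := surjective_of_derivations s hs fun δ hδ a => by
    obtain ⟨ψ, hψ⟩ := hpre.2 (HomSet.map δ (H.ring.truncHom 1))
    have hψ0 : ∀ r, eps (ψ.1 r) = 0 := fun r => by
      have h1 := congrArg (fun t : HomSet H.ring.carrier H.ring.res (dual Λ k) => eps (t.1 (s r))) hψ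
      change eps (ψ.1 (f (s r))) = eps (δ ((H.ring.truncHom 1).1 (s r))) at h1
      rw [hδ, show f (s r) = r from AlgHom.congr_fun hfs' r] at h1
      exact h1
    obtain ⟨x, rfl⟩ := truncHom_surjective H.ring 1 a
    have h2 := congrArg (fun t : HomSet H.ring.carrier H.ring.res (dual Λ k) => eps (t.1 x)) hψ
    exact h2.symm.trans (hψ0 (f x))
  have hsf : ∀ x, s (f x) = x := fun x => by
    obtain ⟨r, rfl⟩ := hss x
    exact congrArg s (AlgHom.congr_fun hfs' r)
  refine ⟨fun B A μ hμ φ y hy => ?_, hξ⟩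
  obtain ⟨ψ, hψ, hψy⟩ := H.miniversal.1 μ hμ (pre A φ) y (hy.trans (happ A φ))
  let ψ' : HomSet R.carrier R.res B := ⟨ψ.1.comp s, AlgHom.ext fun r =>
    (res_homSet_apply ψ (s r)).trans (AlgHom.congr_fun hs r)⟩
  refine ⟨ψ', homSet_ext fun r => ?_, ?_⟩
  · change μ (ψ.1 (s r)) = φ.1 r
    have h1 := congrArg (fun t : HomSet H.ring.carrier H.ring.res A => t.1 (s r)) hψ
    exact h1.trans (congrArg φ.1 (AlgHom.congr_fun hfs' r))
  · rw [happ, ← hψy]
    exact congrArg (H.family.app B) (homSet_ext fun x => congrArg ψ.1 (hsf x))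

end Groth.Agent.ArtF85
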