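import Groth.Agent.ArtF85.Cond

/-!
# Maps into the dual numbers and into fibre products
-/

set_option autoImplicit false
set_option linter.style.haveILetI false

universe u v

open CategoryTheory

namespace Groth.Agent.ArtF85

open ArtFun ArtFun.Art

variable {Λ : Type u} {k : Type u} [CommRing Λ] [Field k] [Algebra Λ k]

/-- The `ε`-coefficient. -/
def eps (d : dual Λ k) : k := TrivSqZeroExt.snd d

/-- The element `c + e ε`. -/
def mkDual (c e : k) : dual Λ k := ((c, e) : k × k)

@[simp] lemma res_mkDual (c e : k) : (dual Λ k).res (mkDual c e) = c := rfl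
@[simp] lemma eps_mkDual (c e : k) : eps (mkDual (Λ := Λ) c e) = e := rfl

lemma dual_ext {d d' : dual Λ k} (h₁ : (dual Λ k).res d = (dual Λ k).res d') (h₂ : eps d = eps d') :
    d = d' := TrivSqZeroExt.ext h₁ h₂

@[simp] lemma eps_add (d d' : dual Λ k) : eps (d + d') = eps d + eps d' := rfl
@[simp] lemma eps_zero : eps (0 : dual Λ k) = 0 := rfl
@[simp] lemma eps_one : eps (1 : dual Λ k) = 0 := rfl
@[simp] lemma eps_sub (d d' : dual Λ k) : eps (d - d') = eps d - eps d' := rfl

lemma eps_mul (d d' : dual Λ k) :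
    eps (d * d') = (dual Λ k).res d * eps d' + (dual Λ k).res d' * eps d := by
  change (d : TrivSqZeroExt k k).fst • (d' : TrivSqZeroExt k k).snd +
    MulOpposite.op (d' : TrivSqZeroExt k k).fst • (d : TrivSqZeroExt k k).snd = _
  rw [op_smul_eq_smul]
  rfl

lemma eps_algebraMap (r : Λ) : eps (algebraMap Λ (dual Λ k) r) = 0 := by
  change (algebraMap Λ (TrivSqZeroExt k k) r).snd = 0
  rw [TrivSqZeroExt.algebraMap_eq_inl', TrivSqZeroExt.snd_inl]

@[simp] lemma eps_scale (c : k) (d : dual Λ k) : eps (scale c d) = c * eps d := rfl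
@[simp] lemma eps_baseToDual (c : k) : eps (baseToDual (Λ := Λ) (k := k) c) = 0 := rfl

section Maps

variable {R : Type u} [CommRing R] [Algebra Λ R]

/-- The algebra map `r ↦ res r + δ r ε` of a derivation along `res`. -/
def dualAlgHom (res : R →ₐ[Λ] k) (δ : R →ₗ[Λ] k)
    (hδ : ∀ a b, δ (a * b) = res a * δ b + res b * δ a) : R →ₐ[Λ] dual Λ k :=
  have h1 : δ 1 = 0 := by
    have h := hδ 1 1
    simp only [mul_one, map_one, one_mul] at h
    simpa using h
  { toFun := fun r => mkDual (res r) (δ r)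
    map_one' := dual_ext ((res_mkDual (res 1) (δ 1)).trans ((map_one res).trans (map_one _).symm))
      (h1.trans eps_one.symm)
    map_mul' := fun a b => dual_ext
      ((res_mkDual (res (a * b)) (δ (a * b))).trans ((map_mul res a b).trans (map_mul (dual Λ k).res
        (mkDual (res a) (δ a)) (mkDual (res b) (δ b))).symm))
      ((hδ a b).trans (eps_mul (mkDual (res a) (δ a)) (mkDual (res b) (δ b))).symm)
    map_zero' := dual_ext ((res_mkDual (res 0) (δ 0)).trans ((map_zero res).trans (map_zero _).symm))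
      ((map_zero δ).trans eps_zero.symm)
    map_add' := fun a b => dual_ext
      ((res_mkDual (res (a + b)) (δ (a + b))).trans ((map_add res a b).trans (map_add (dual Λ k).res
        (mkDual (res a) (δ a)) (mkDual (res b) (δ b))).symm))
      ((map_add δ a b).trans (eps_add (mkDual (res a) (δ a)) (mkDual (res b) (δ b))).symm)
    commutes' := fun r => dual_ext
      ((res.commutes r).trans ((dual Λ k).res.commutes r).symm)
      (by
        rw [eps_algebraMap]
        change δ (algebraMap Λ R r) = 0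
        rw [Algebra.algebraMap_eq_smul_one, map_smul, h1, smul_zero]) }

lemma eps_dualAlgHom (res : R →ₐ[Λ] k) (δ : R →ₗ[Λ] k)
    (hδ : ∀ a b, δ (a * b) = res a * δ b + res b * δ a) (r : R) :
    eps (dualAlgHom res δ hδ r) = δ r := rfl

/-- A derivation along the augmentation as an element of `h_R(k[ε])`. -/
def dualHomSet (resR : R →ₐ[Λ] k) (δ : R →ₗ[Λ] k)
    (hδ : ∀ a b, δ (a * b) = resR a * δ b + resR b * δ a) : HomSet R resR (dual Λ k) :=
  ⟨dualAlgHom resR δ hδ, AlgHom.ext fun _ => rfl⟩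

/-- A derivation along the augmentation as a morphism to `k[ε]`. -/
def dualHom {A : Art Λ k} (δ : A →ₗ[Λ] k)
    (hδ : ∀ a b, δ (a * b) = A.res a * δ b + A.res b * δ a) : A ⟶ dual Λ k :=
  ⟨dualAlgHom A.res δ hδ, AlgHom.ext fun _ => rfl⟩

lemma dual_hom_ext {A : Art Λ k} {g g' : A ⟶ dual Λ k} (h : ∀ a, eps (g a) = eps (g' a)) : g = g' :=
  hom_ext_apply fun a => dual_ext (by rw [res_app, res_app]) (h a)

lemma dual_homSet_ext {resR : R →ₐ[Λ] k} {g g' : HomSet R resR (dual Λ k)}
    (h : ∀ a, eps (g.1 a) = eps (g'.1 a)) : g = g' :=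
  Subtype.ext (AlgHom.ext fun a => dual_ext
    ((AlgHom.congr_fun g.2 a).trans (AlgHom.congr_fun g'.2 a).symm) (h a))

/-- Lift of a pair of compatible maps into a fibre product. -/
lemma exists_homSet_lift {B A A' A'' : Art Λ k} {p' : B ⟶ A'} {p'' : B ⟶ A''} {f' : A' ⟶ A}
    {f'' : A'' ⟶ A} (h : IsFibreProd p' p'' f' f'') {resR : R →ₐ[Λ] k} (φ' : HomSet R resR A')
    (φ'' : HomSet R resR A'') (w : HomSet.map f' φ' = HomSet.map f'' φ'') :
    ∃ ψ : HomSet R resR B, HomSet.map p' ψ = φ' ∧ HomSet.map p'' ψ = φ'' := by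
  have aux : ∀ r, ∃ b : B, p' b = φ'.1 r ∧ p'' b = φ''.1 r := fun r =>
    h.surj _ _ (congrArg (fun φ : HomSet R resR A => φ.1 r) w)
  choose g e' e'' using aux
  refine ⟨⟨{ toFun := g
             map_one' := h.inj _ _ (by rw [e', map_one, map_one]) (by rw [e'', map_one, map_one])
             map_mul' := fun a b => h.inj _ _ (by rw [e', map_mul, map_mul, e', e'])
               (by rw [e'', map_mul, map_mul, e'', e''])
             map_zero' := h.inj _ _ (by rw [e', map_zero, map_zero]) (by rw [e'', map_zero, map_zero])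
             map_add' := fun a b => h.inj _ _ (by rw [e', map_add, map_add, e', e'])
               (by rw [e'', map_add, map_add, e'', e''])
             commutes' := fun r => h.inj _ _ (by rw [e', AlgHom.commutes, AlgHom.commutes])
               (by rw [e'', AlgHom.commutes, AlgHom.commutes]) },
      AlgHom.ext fun r => ?_⟩, Subtype.ext (AlgHom.ext e'), Subtype.ext (AlgHom.ext e'')⟩
  change B.res (g r) = resR r
  rw [← res_app p', e']
  exact AlgHom.congr_fun φ'.2 r

lemma homSet_fibre_ext {B A A' A'' : Art Λ k} {p' : B ⟶ A'} {p'' : B ⟶ A''} {f' : A' ⟶ A}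
    {f'' : A'' ⟶ A} (h : IsFibreProd p' p'' f' f'') {resR : R →ₐ[Λ] k} {ψ ψ' : HomSet R resR B}
    (h₁ : HomSet.map p' ψ = HomSet.map p' ψ') (h₂ : HomSet.map p'' ψ = HomSet.map p'' ψ') : ψ = ψ' :=
  Subtype.ext (AlgHom.ext fun r => h.inj _ _ (congrArg (fun φ : HomSet R resR A' => φ.1 r) h₁)
    (congrArg (fun φ : HomSet R resR A'' => φ.1 r) h₂))

end Maps

section AddHom

variable {A : Art Λ k}

/-- The morphism with `ε`-coefficient the sum of those of `a` and `b`. -/
noncomputable def addHom (a b : A ⟶ dual Λ k) : A ⟶ dual Λ k :=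
  fibreLift isFibreProd_dual2 a b ((eq_toBase _).trans (eq_toBase _).symm) ≫ plus

lemma eps_pr₁ (x : dual2 Λ k) : eps (pr₁ x) = (TrivSqZeroExt.snd (x : TrivSqZeroExt k (k × k))).1 := rfl
lemma eps_pr₂ (x : dual2 Λ k) : eps (pr₂ x) = (TrivSqZeroExt.snd (x : TrivSqZeroExt k (k × k))).2 := rfl
lemma eps_plus (x : dual2 Λ k) : eps (plus x) = eps (pr₁ x) + eps (pr₂ x) := rfl

lemma eps_addHom (a b : A ⟶ dual Λ k) (x : A) : eps (addHom a b x) = eps (a x) + eps (b x) := by
  refine (eps_plus _).trans (congrArg₂ (· + ·) ?_ ?_)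
  · exact congrArg (fun φ : A ⟶ dual Λ k => eps (φ x)) (fibreLift_fst isFibreProd_dual2 a b _)
  · exact congrArg (fun φ : A ⟶ dual Λ k => eps (φ x)) (fibreLift_snd isFibreProd_dual2 a b _)

/-- The morphism with zero `ε`-coefficient. -/
def zeroHom (A : Art Λ k) : A ⟶ dual Λ k := toBase A ≫ baseToDual

@[simp] lemma eps_zeroHom (x : A) : eps (zeroHom A x) = 0 := rfl

end AddHom

section Diff

variable {B A P : Art Λ k}

/-- For a kernel-pair square of a small extension with kernel generator `t`, the difference map to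
`k[ε]`, making the square a product over `k`. -/
theorem exists_diff {p : B ⟶ A} {t : B} (ht0 : t ≠ 0)
    (hker : RingHom.ker p.toAlgHom = Ideal.span {t})
    (htm : ∀ a ∈ IsLocalRing.maximalIdeal B, a * t = 0)
    {p₁ p₂ : P ⟶ B} (hP : IsFibreProd p₁ p₂ p p) :
    ∃ g : P ⟶ dual Λ k, (∀ (z : P) (c : B), p₂ z - p₁ z = c * t → eps (g z) = B.res c) ∧
      IsFibreProd p₁ g (toBase B) (toBase (dual Λ k)) := by
  have hpt : p t = 0 := RingHom.mem_ker.1 (hker ▸ Ideal.mem_span_singleton_self t)
  have htmax : B.res t = 0 := by rw [← res_app p, hpt, map_zero]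
  have hex : ∀ z : P, ∃ c : B, c * t = p₂ z - p₁ z := fun z => Ideal.mem_span_singleton'.1
    (hker ▸ (sub_mem_ker_iff p _ _).2 (hP.w_apply z).symm)
  choose c hc using hex
  have hu : ∀ z d, p₂ z - p₁ z = d * t → B.res (c z) = B.res d :=
    fun z d hd => res_eq_of_mul_eq ht0 ((hc z).trans hd)
  let δ : P →ₗ[Λ] k :=
    { toFun := fun z => B.res (c z)
      map_add' := fun x y => by
        rw [← map_add]
        refine hu _ _ ?_
        rw [map_add, map_add, add_mul, hc, hc]
        abel
      map_smul' := fun r x => by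
        rw [RingHom.id_apply, ← map_smul]
        refine hu _ _ ?_
        rw [map_smul, map_smul, ← smul_sub, smul_mul_assoc, hc] }
  have hδ : ∀ a b, δ (a * b) = P.res a * δ b + P.res b * δ a := by
    intro a b
    change B.res (c (a * b)) = P.res a * B.res (c b) + P.res b * B.res (c a)
    rw [← res_app p₁ a, ← res_app p₁ b, ← map_mul, ← map_mul, ← map_add]
    refine hu _ _ ?_
    rw [map_mul, map_mul, add_mul, mul_assoc, mul_assoc, hc, hc]
    have h0 : (p₂ a - p₁ a) * (p₂ b - p₁ b) = 0 := by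
      rw [← hc a, ← hc b, show c a * t * (c b * t) = c a * c b * (t * t) by ring,
        htm t ((mem_maximalIdeal_iff B t).2 htmax), mul_zero]
    linear_combination h0
  refine ⟨dualHom δ hδ, fun z d hd => hu z d hd, ⟨(eq_toBase _).trans (eq_toBase _).symm, ?_, ?_⟩⟩
  · intro z z' h₁ h₂
    refine hP.inj z z' h₁ ?_
    have h3 : B.res (c z) = B.res (c z') := congrArg eps h₂
    have h4 := mul_eq_mul_of_res_eq htm h3
    rw [hc, hc, h₁] at h4
    exact sub_left_inj.1 h4
  · intro b d e
    obtain ⟨s, hs⟩ := B.res_surjective (eps d)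
    obtain ⟨z, hz₁, hz₂⟩ := hP.surj b (b + s * t) (by rw [map_add, map_mul, hpt, mul_zero, add_zero])
    refine ⟨z, hz₁, dual_ext ?_ ?_⟩
    · rw [res_app, ← res_app p₁, hz₁]
      exact e
    · exact (hu z s (by rw [hz₁, hz₂, add_sub_cancel_left])).trans hs

/-- Kernel pair of a small extension, its diagonal and its difference map. -/
theorem exists_kernelPair [IsNoetherianRing Λ] [Module.Finite Λ k] {p : B ⟶ A} (hp : IsSmallExt p) :
    ∃ (P : Art Λ k) (p₁ p₂ : P ⟶ B) (g : P ⟶ dual Λ k) (Δ : B ⟶ P),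
      IsFibreProd p₁ p₂ p p ∧ IsFibreProd p₁ g (toBase B) (toBase (dual Λ k)) ∧
        Δ ≫ p₁ = 𝟙 B ∧ Δ ≫ p₂ = 𝟙 B ∧ Δ ≫ g = zeroHom B := by
  obtain ⟨t, ht0, hker, htm⟩ := exists_generator hp
  obtain ⟨P, p₁, p₂, hP⟩ := exists_fibreProd p p hp.1
  obtain ⟨g, hg, hPg⟩ := exists_diff ht0 hker htm hP
  refine ⟨P, p₁, p₂, g, fibreLift hP (𝟙 B) (𝟙 B) rfl, hP, hPg, fibreLift_fst _ _ _ _,
    fibreLift_snd _ _ _ _, dual_hom_ext fun b => ?_⟩
  rw [eps_zeroHom]
  refine (hg _ 0 ?_).trans (map_zero _)
  rw [zero_mul, sub_eq_zero]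
  exact (congrArg (fun φ : B ⟶ B => φ b) (fibreLift_snd hP (𝟙 B) (𝟙 B) rfl)).trans
    (congrArg (fun φ : B ⟶ B => φ b) (fibreLift_fst hP (𝟙 B) (𝟙 B) rfl)).symm

end Diff

section SurjCrit

variable [IsNoetherianRing Λ] [Module.Finite Λ k]

omit [IsNoetherianRing Λ] [Module.Finite Λ k] in
/-- A morphism is surjective if no nonzero derivation to `k` vanishes on its image. -/
theorem surjective_of_dual_ext ⦃C A : Art Λ k⦄ (f : C ⟶ A)
    (h : ∀ δ : A ⟶ dual Λ k, (∀ c, eps (δ (f c)) = 0) → ∀ a, eps (δ a) = 0) :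
    Function.Surjective f := by
  suffices ∀ J : Ideal A, ∀ (A' : Art Λ k) (q : A ⟶ A'), Function.Surjective q →
      RingHom.ker q.toAlgHom = J → Function.Surjective (f ≫ q) from
    this _ A (𝟙 A) Function.surjective_id rfl
  intro J
  induction J using IsNoetherian.induction with
  | hgt J ih =>
    intro A' q hq hker
    by_cases hm : IsLocalRing.maximalIdeal A' = ⊥
    · intro a
      obtain ⟨c, hc⟩ := C.res_surjective (A'.res a)
      refine ⟨c, ?_⟩
      have : (f ≫ q) c - a ∈ IsLocalRing.maximalIdeal A' := by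
        rw [mem_maximalIdeal_iff, map_sub, res_app, hc, sub_self]
      rw [hm, Ideal.mem_bot, sub_eq_zero] at this
      exact this
    obtain ⟨t, ht, ht0, htm⟩ := exists_socle_mem A' _ hm
    have hle : Ideal.span {t} ≤ IsLocalRing.maximalIdeal A' :=
      (Ideal.span_singleton_le_iff_mem _).2 ht
    have hsurj := ih (RingHom.ker (q ≫ quotMk A' _ hle).toAlgHom) (by
      refine lt_of_le_of_ne (hker ▸ fun x hx => ?_) fun heq => ht0 ?_
      · rw [RingHom.mem_ker] at hx ⊢
        exact (congrArg (quotMk A' _ hle).toAlgHom hx).trans (map_zero _)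
      · obtain ⟨s, rfl⟩ := hq t
        have : s ∈ RingHom.ker (q ≫ quotMk A' _ hle).toAlgHom :=
          RingHom.mem_ker.2 (Ideal.Quotient.eq_zero_iff_mem.2 (Ideal.mem_span_singleton_self _))
        rw [← heq, ← hker] at this
        exact this) _ (q ≫ quotMk A' _ hle) (surjective_comp hq (quotMk_surjective _ _ _)) rfl
    set F : C ⟶ A' := f ≫ q
    have hdec : ∀ a : A', ∃ c e, a = F c + e * t := by
      intro a
      obtain ⟨c, hc⟩ := hsurj (quotMk A' _ hle a)
      obtain ⟨e, he⟩ := Ideal.mem_span_singleton'.1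
        (Ideal.Quotient.eq.1 hc.symm : a - F c ∈ Ideal.span {t})
      exact ⟨c, e, by rw [he]; ring⟩
    by_cases htim : ∃ c, F c = t
    · intro a
      obtain ⟨c, e, rfl⟩ := hdec a
      obtain ⟨c₀, hc₀⟩ := htim
      obtain ⟨e', he'⟩ := C.res_surjective (A'.res e)
      refine ⟨c + e' * c₀, ?_⟩
      rw [map_add, map_mul, hc₀, mul_eq_mul_of_res_eq htm (a := F e') (b := e) (by rw [res_app, he'])]
    exfalso
    have hindep : ∀ c e, F c + e * t = 0 → A'.res e = 0 := by
      intro c e he
      by_contra hne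
      refine htim ?_
      obtain ⟨e', he'⟩ := C.res_surjective (-(A'.res e)⁻¹)
      refine ⟨e' * c, ?_⟩
      rw [map_mul, eq_neg_of_add_eq_zero_left he, mul_neg, ← mul_assoc, ← neg_mul]
      refine (mul_eq_mul_of_res_eq htm (b := 1) ?_).trans (one_mul t)
      rw [map_neg, map_mul, res_app, he', map_one, neg_mul, neg_neg, inv_mul_cancel₀ hne]
    choose cc ee hce using hdec
    have hu : ∀ a c e, a = F c + e * t → A'.res (ee a) = A'.res e := by
      intro a c e ha
      have h0 := hindep (cc a - c) (ee a - e) (by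
        rw [map_sub]
        linear_combination (ha : a = F c + e * t) - hce a)
      rwa [map_sub, sub_eq_zero] at h0
    let δ : A' →ₗ[Λ] k :=
      { toFun := fun a => A'.res (ee a)
        map_add' := fun x y => by
          rw [← map_add]
          refine hu _ (cc x + cc y) _ ?_
          rw [map_add]
          linear_combination hce x + hce y
        map_smul' := fun r x => by
          rw [RingHom.id_apply, ← map_smul]
          refine hu _ (r • cc x) _ ?_
          rw [map_smul, smul_mul_assoc, ← smul_add, ← hce x] }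
    have hδ : ∀ a b, δ (a * b) = A'.res a * δ b + A'.res b * δ a := by
      intro a b
      change A'.res (ee (a * b)) = A'.res a * A'.res (ee b) + A'.res b * A'.res (ee a)
      have hr : ∀ x, A'.res x = A'.res (F (cc x)) := fun x => by
        conv_lhs => rw [hce x]
        rw [map_add, map_mul A'.res, (mem_maximalIdeal_iff A' t).1 ht, mul_zero, add_zero]
      rw [hr a, hr b, ← map_mul A'.res, ← map_mul A'.res, ← map_add A'.res]
      refine hu _ (cc a * cc b) _ ?_
      conv_lhs => rw [hce a, hce b]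
      rw [map_mul]
      linear_combination (ee a * ee b) * htm t ht
    obtain ⟨a, rfl⟩ := hq t
    have h1 := h (q ≫ dualHom δ hδ) (fun c => by
      change δ (q (f c)) = 0
      refine (hu _ c 0 ?_).trans (map_zero _)
      rw [zero_mul, add_zero]
      rfl) a
    refine one_ne_zero (α := k) ?_
    rw [← h1]
    change _ = δ (q a)
    refine (map_one A'.res).symm.trans (hu _ 0 1 ?_).symm
    rw [map_zero, one_mul, zero_add]

end SurjCrit

end Groth.Agent.ArtF85
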