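import Groth.Agent.ArtF84.Surj
import Groth.Agent.ArtF85.Dual
import Mathlib.RingTheory.Kaehler.Basic
import Mathlib.RingTheory.Etale.Field
import Mathlib.LinearAlgebra.Dual.Lemmas

/-!
Essential surjections of Artinian local algebras.
-/

set_option autoImplicit false
set_option linter.style.haveILetI false

universe u

open CategoryTheory TensorProduct IsLocalRing

namespace Groth.Agent.ArtF85.Essential

open ArtFun ArtFun.Art

variable {Λ : Type u} {k : Type u} [CommRing Λ] [Field k] [Algebra Λ k]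

/-- `f` is an essential surjection. -/
abbrev IsEssential {A B : Art Λ k} (f : B ⟶ A) : Prop :=
  Function.Surjective f ∧ ∀ (C : Art Λ k) (g : C ⟶ B), Function.Surjective (g ≫ f) → Function.Surjective g

/-- The ideal `m_Λ A + m_A²`. -/
abbrev relSq (A : Art Λ k) : Ideal A :=
  Ideal.map (algebraMap Λ A) (RingHom.ker (algebraMap Λ k)) ⊔ maximalIdeal A ^ 2

theorem relSq_le (A : Art Λ k) : relSq A ≤ maximalIdeal A :=
  sup_le (Ideal.map_le_iff_le_comap.2 fun l hl => (mem_maximalIdeal_iff A _).2
    ((A.res.commutes l).trans hl)) (Ideal.pow_le_self two_ne_zero)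

theorem map_relSq {A B : Art Λ k} (f : B ⟶ A) (hf : Function.Surjective f) :
    (relSq B).map f.toAlgHom = relSq A := by
  have h2 : (maximalIdeal B).map f.toAlgHom = maximalIdeal A := by
    refine le_antisymm (Ideal.map_le_iff_le_comap.2 fun b hb => ?_) fun a ha => ?_
    · rw [Ideal.mem_comap]
      exact (mem_maximalIdeal_iff A (f b)).2 ((res_app f b).trans ((mem_maximalIdeal_iff B b).1 hb))
    · obtain ⟨b, rfl⟩ := hf a
      exact Ideal.mem_map_of_mem _ ((mem_maximalIdeal_iff B b).2
        ((res_app f b).symm.trans ((mem_maximalIdeal_iff A _).1 ha)))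
  change Ideal.map f.toAlgHom.toRingHom _ = _
  rw [Ideal.map_sup, Ideal.map_pow, Ideal.map_map, show f.toAlgHom.toRingHom.comp (algebraMap Λ B) =
    algebraMap Λ A from f.toAlgHom.comp_algebraMap]
  congr 1
  exact congrArg (· ^ 2) h2

theorem isPrecomplete (B : Art Λ k) : IsPrecomplete (maximalIdeal B) B := by
  obtain ⟨N, hN⟩ := exists_pow_maximalIdeal_eq_bot B
  refine ⟨fun F hF => ⟨F N, fun n => ?_⟩⟩
  rw [SModEq.sub_mem, smul_eq_mul, Ideal.mul_top]
  rcases Nat.le_total n N with h | h
  · have := hF h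
    rwa [SModEq.sub_mem, smul_eq_mul, Ideal.mul_top] at this
  · have := hF h
    rw [SModEq.sub_mem, smul_eq_mul, Ideal.mul_top, hN, Ideal.mem_bot, sub_eq_zero] at this
    rw [this, sub_self]
    exact zero_mem _

/-- The third condition of the surjectivity criterion. -/
theorem surjective_iff {A B : Art Λ k} (f : B ⟶ A) :
    Function.Surjective f ↔
      Ideal.map (algebraMap Λ A) (RingHom.ker (algebraMap Λ k)) ⊔ Ideal.map f.toAlgHom (maximalIdeal B) ⊔
        maximalIdeal A ^ 2 = maximalIdeal A := by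
  haveI := isPrecomplete B
  exact (ArtF84.tfae B.res A.res B.res_surjective A.res_surjective f.toAlgHom f.res_comp).out 0 2

theorem surjective_iff_comp_quot {B B' C : Art Λ k} (q : B ⟶ B') (hq : Function.Surjective q)
    (hk : RingHom.ker q.toAlgHom = relSq B) (g : C ⟶ B) :
    Function.Surjective (g ≫ q) ↔ Function.Surjective g := by
  refine ⟨fun h => (surjective_iff g).2 (le_antisymm ?_ ?_), fun h => surjective_comp h hq⟩
  · refine sup_le (sup_le ?_ ?_) (Ideal.pow_le_self two_ne_zero)
    · exact le_trans le_sup_left (relSq_le B)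
    · exact Ideal.map_le_iff_le_comap.2 fun c hc =>
        (mem_maximalIdeal_iff B (g c)).2 ((res_app g c).trans ((mem_maximalIdeal_iff C c).1 hc))
  · intro b hb
    obtain ⟨c, hc⟩ := h (q b)
    have hc' : c ∈ maximalIdeal C := (mem_maximalIdeal_iff C c).2 ((res_app (g ≫ q) c).symm.trans
      ((congrArg B'.res hc).trans ((res_app q b).trans ((mem_maximalIdeal_iff B b).1 hb))))
    have hmem : b - g c ∈ relSq B := by
      rw [← hk, RingHom.mem_ker]
      exact (map_sub _ _ _).trans (sub_eq_zero.2 hc.symm)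
    obtain ⟨x, hx, y, hy, e⟩ := Submodule.mem_sup.1 hmem
    rw [show b = x + g c + y by rw [add_right_comm, e, sub_add_cancel]]
    exact Ideal.add_mem _ (Ideal.add_mem _ (Ideal.mem_sup_left (Ideal.mem_sup_left hx))
      (Ideal.mem_sup_left (Ideal.mem_sup_right (Ideal.mem_map_of_mem _ hc')))) (Ideal.mem_sup_right hy)

theorem isEssential_iff_quot [IsNoetherianRing Λ] [Module.Finite Λ k]
    {A B A' B' : Art Λ k} (f : B ⟶ A) (qB : B ⟶ B') (hqB : Function.Surjective qB)
    (hkB : RingHom.ker qB.toAlgHom = relSq B) (qA : A ⟶ A') (hqA : Function.Surjective qA)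
    (hkA : RingHom.ker qA.toAlgHom = relSq A) (f' : B' ⟶ A') (hf' : qB ≫ f' = f ≫ qA) :
    IsEssential f ↔ IsEssential f' := by
  constructor
  · rintro ⟨hf, h⟩
    refine ⟨surjective_of_surjective_comp (f := qB) (hf' ▸ surjective_comp hf hqA), fun C' g' hg' => ?_⟩
    obtain ⟨D, p, g, hD⟩ := exists_fibreProd g' qB hqB
    have e : (g ≫ f) ≫ qA = p ≫ (g' ≫ f') := by
      rw [Category.assoc, ← hf', ← Category.assoc, ← hD.w, Category.assoc]
    have hg : Function.Surjective g := h D g
      ((surjective_iff_comp_quot qA hqA hkA (g ≫ f)).1 (e ▸ surjective_comp (surjective_fst hD hqB) hg'))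
    exact surjective_of_surjective_comp (f := p) (hD.w ▸ surjective_comp hg hqB)
  · rintro ⟨hf, h⟩
    refine ⟨(surjective_iff_comp_quot qA hqA hkA f).1 (hf' ▸ surjective_comp hqB hf), fun C g hg => ?_⟩
    exact (surjective_iff_comp_quot qB hqB hkB g).1 (h C (g ≫ qB)
      (by rw [Category.assoc, hf', ← Category.assoc]; exact surjective_comp hg hqA))

/-- The maps of derivations into the residue field. -/
theorem surjective_of_derivations {A B : Art Λ k} (f : B ⟶ A) [Algebra A k] [IsScalarTower Λ A k]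
    (hA : ∀ a, algebraMap A k a = A.res a)
    (h : ∀ D : Derivation Λ A k, (∀ b : B, D (f b) = 0) → D = 0) : Function.Surjective f := by
  haveI := isPrecomplete B
  refine ArtF84.surjective_of_map_sup_sq_eq B.res A.res B.res_surjective A.res_surjective f.toAlgHom f.res_comp
    (ArtF84.map_sup_sq_eq_of_derivation_injective B.res A.res B.res_surjective A.res_surjective f.toAlgHom
      f.res_comp hA fun D₁ D₂ e => sub_eq_zero.1 (h (D₁ - D₂) fun b => ?_))
  rw [Derivation.sub_apply, sub_eq_zero]
  exact e b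

theorem isEssential_iff_derivations [IsNoetherianRing Λ] [Module.Finite Λ k]
    {A B : Art Λ k} (f : B ⟶ A) [Algebra B k] [IsScalarTower Λ B k] (hB : ∀ b, algebraMap B k b = B.res b) :
    IsEssential f ↔ Function.Surjective f ∧ ∀ D : Derivation Λ B k, ∀ b, f b = 0 → D b = 0 := by
  refine ⟨fun ⟨hf, h⟩ => ⟨hf, fun D κ hκ => ?_⟩, fun ⟨hf, h⟩ => ⟨hf, fun C g hg => ?_⟩⟩
  · by_contra hne
    have hres : B.res κ = 0 := by rw [← res_app f, hκ, map_zero]
    let δ' : B ⟶ dual Λ k := dualHom (D : B →ₗ[Λ] k) fun a c => by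
      change D (a * c) = _
      rw [Derivation.leibniz, Algebra.smul_def, Algebra.smul_def, hB, hB]
      rfl
    have hδ : ∀ b, (dual Λ k).res (δ' b) = B.res b ∧ eps (δ' b) = D b := fun b => ⟨rfl, rfl⟩
    have hDmul : ∀ a, D (a * κ) = B.res a * D κ := fun a => by
      rw [Derivation.leibniz, Algebra.smul_def, Algebra.smul_def, hB, hB, hres, zero_mul, add_zero]
    have hsurj : Function.Surjective δ' := by
      intro z
      obtain ⟨b, hb⟩ := B.res_surjective ((dual Λ k).res z)
      obtain ⟨a, ha⟩ := B.res_surjective ((eps z - D b) / D κ)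
      refine ⟨b + a * κ, dual_ext ?_ ?_⟩
      · rw [(hδ _).1, map_add, map_mul, hres, mul_zero, add_zero, hb]
      · rw [(hδ _).2, map_add, hDmul, ha, div_mul_cancel₀ _ hne, add_sub_cancel]
    obtain ⟨C, p, g, hC⟩ := exists_fibreProd (baseToDual (Λ := Λ) (k := k)) δ' hsurj
    have hgf : Function.Surjective (g ≫ f) := fun a => by
      obtain ⟨b, rfl⟩ := hf a
      obtain ⟨x, hx⟩ := B.res_surjective (D b / D κ)
      obtain ⟨c, -, hc⟩ := hC.surj (B.res (b - x * κ)) (b - x * κ) (dual_ext (by rw [(hδ _).1]; rfl) (by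
        rw [eps_baseToDual, (hδ _).2, map_sub, hDmul, hx, div_mul_cancel₀ _ hne, sub_self]))
      exact ⟨c, (congrArg f hc).trans (by rw [map_sub, map_mul, hκ, mul_zero, sub_zero])⟩
    obtain ⟨c, hc⟩ := h C g hgf κ
    have hw := congrArg eps (hC.w_apply c)
    rw [eps_baseToDual, (hδ _).2, hc] at hw
    exact hne hw.symm
  · letI : Algebra B k := ‹Algebra B k›
    refine surjective_of_derivations g hB fun D hD => Derivation.ext fun b => ?_
    obtain ⟨c, hc⟩ := hg (f b)
    have h1 : f (b - g c) = 0 := by rw [map_sub, sub_eq_zero]; exact hc.symm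
    have h2 := h D _ h1
    rw [map_sub, hD, sub_zero] at h2
    exact h2

/-- Derivations into the residue field are the dual of `k ⊗ Ω`. -/
noncomputable def derDualEquiv (B : Art Λ k) [Algebra B k] [IsScalarTower Λ B k] :
    Derivation Λ B k ≃ₗ[k] Module.Dual k (k ⊗[B] Ω[B⁄Λ]) where
  toFun D := D.liftKaehlerDifferential.liftBaseChange k
  map_add' D E := by ext x; simp
  map_smul' c D := by ext x; simp
  invFun φ := (KaehlerDifferential.linearMapEquivDerivation Λ B)
    ((φ.restrictScalars B).comp (TensorProduct.mk B k Ω[B⁄Λ] 1))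
  left_inv D := by ext b; simp
  right_inv φ := by
    ext x
    simp

theorem finite_kaehler [IsNoetherianRing Λ] [Module.Finite Λ k] (B : Art Λ k) [Algebra B k] :
    Module.Finite k (k ⊗[B] Ω[B⁄Λ]) := by
  haveI := moduleFinite B
  infer_instance

theorem isEssential_iff_kaehler [IsNoetherianRing Λ] [Module.Finite Λ k] {A B : Art Λ k} (f : B ⟶ A)
    [Algebra B A] (hf : ∀ b, algebraMap B A b = f b) [Algebra A k] (hA : ∀ a, algebraMap A k a = A.res a)
    [Algebra B k] (hB : ∀ b, algebraMap B k b = B.res b) :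
    (IsEssential f ↔ Subsingleton (k ⊗[A] Ω[A⁄B]) ∧
        Module.finrank k (k ⊗[B] Ω[B⁄Λ]) = Module.finrank k (k ⊗[A] Ω[A⁄Λ])) ∧
      (Function.Surjective f ↔ Subsingleton (k ⊗[A] Ω[A⁄B])) := by
  haveI : IsScalarTower Λ A k := IsScalarTower.of_algebraMap_eq fun l => by rw [hA, AlgHom.commutes]
  haveI : IsScalarTower Λ B k := IsScalarTower.of_algebraMap_eq fun l => by rw [hB, AlgHom.commutes]
  haveI : IsScalarTower Λ B A := IsScalarTower.of_algebraMap_eq fun l => by
    rw [hf]; exact (f.toAlgHom.commutes l).symm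
  haveI : IsScalarTower B A k := IsScalarTower.of_algebraMap_eq fun b => by rw [hB, hA, hf, res_app]
  have hsurj : Function.Surjective f ↔ Subsingleton (k ⊗[A] Ω[A⁄B]) := by
    constructor
    · intro h
      haveI : Subsingleton Ω[A⁄B] := KaehlerDifferential.subsingleton_of_surjective B A fun a => by
        obtain ⟨b, hb⟩ := h a
        exact ⟨b, (hf b).trans hb⟩
      infer_instance
    · intro hs
      refine surjective_of_derivations f hA fun D hD => ?_
      let D' : Derivation B A k := Derivation.mk'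
        { toFun := D
          map_add' := map_add D
          map_smul' := fun b a => by
            rw [RingHom.id_apply, Algebra.smul_def, Derivation.leibniz, hf, hD, smul_zero, add_zero,
              ← hf, algebraMap_smul] }
        fun a a' => Derivation.leibniz D a a'
      refine Derivation.ext fun a => ?_
      have h1 := LinearMap.liftBaseChange_tmul (A := k) D'.liftKaehlerDifferential 1 (KaehlerDifferential.D B A a)
      rw [Subsingleton.elim ((1 : k) ⊗ₜ[A] KaehlerDifferential.D B A a) 0, map_zero, one_smul,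
        Derivation.liftKaehlerDifferential_comp_D] at h1
      exact h1.symm
  refine ⟨?_, hsurj⟩
  rw [isEssential_iff_derivations f hB]
  let φ : Derivation Λ A k →ₗ[k] Derivation Λ B k :=
    { toFun := fun D => Derivation.mk' (D.toLinearMap ∘ₗ f.toAlgHom.toLinearMap) fun a b => by
        change D (f (a * b)) = a • D (f b) + b • D (f a)
        rw [map_mul, Derivation.leibniz, ← hf, ← hf, algebraMap_smul, algebraMap_smul]
      map_add' := fun D E => rfl
      map_smul' := fun c D => rfl }
  have hdim : Function.Surjective f → ((∀ D : Derivation Λ B k, ∀ b, f b = 0 → D b = 0) ↔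
      Module.finrank k (k ⊗[B] Ω[B⁄Λ]) = Module.finrank k (k ⊗[A] Ω[A⁄Λ])) := by
    intro hs
    haveI := finite_kaehler B
    haveI := finite_kaehler A
    haveI : Module.Finite k (Derivation Λ B k) := Module.Finite.equiv (derDualEquiv B).symm
    haveI : Module.Finite k (Derivation Λ A k) := Module.Finite.equiv (derDualEquiv A).symm
    have e1 : Module.finrank k (k ⊗[B] Ω[B⁄Λ]) = Module.finrank k (Derivation Λ B k) :=
      Subspace.dual_finrank_eq.symm.trans (derDualEquiv B).finrank_eq.symm
    have e2 : Module.finrank k (k ⊗[A] Ω[A⁄Λ]) = Module.finrank k (Derivation Λ A k) :=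
      Subspace.dual_finrank_eq.symm.trans (derDualEquiv A).finrank_eq.symm
    rw [e1, e2]
    have hinj : Function.Injective φ := fun D E h => Derivation.ext fun a => by
      obtain ⟨b, rfl⟩ := hs a
      exact Derivation.congr_fun h b
    constructor
    · intro h
      refine (LinearEquiv.ofBijective φ ⟨hinj, fun D => ?_⟩).finrank_eq.symm
      choose σ hσ using hs
      have hD : ∀ b, D (σ (f b)) = D b := fun b => by
        rw [← sub_eq_zero, ← map_sub]
        exact h D _ (by rw [map_sub, sub_eq_zero]; exact hσ _)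
      let L : A →ₗ[Λ] k :=
        { toFun := fun a => D (σ a)
          map_add' := fun a a' => by
            have e := hD (σ a + σ a')
            rw [map_add, hσ, hσ, map_add] at e
            exact e
          map_smul' := fun l a => by
            have e := hD (l • σ a)
            rw [map_smul, hσ, Derivation.map_smul] at e
            exact e }
      refine ⟨Derivation.mk' L fun a a' => ?_, Derivation.ext fun b => hD b⟩
      have e := hD (σ a * σ a')
      rw [map_mul, hσ, hσ, Derivation.leibniz] at e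
      change D (σ (a * a')) = a • D (σ a') + a' • D (σ a)
      rw [e, ← algebraMap_smul A (σ a) (D (σ a')), ← algebraMap_smul A (σ a') (D (σ a)), hf, hf, hσ, hσ]
    · intro h D b hb
      obtain ⟨E, rfl⟩ := (LinearMap.injective_iff_surjective_of_finrank_eq_finrank h.symm).1 hinj D
      change E (f b) = 0
      rw [hb, map_zero]
  exact ⟨fun ⟨h1, h2⟩ => ⟨hsurj.1 h1, (hdim h1).1 h2⟩, fun ⟨h1, h2⟩ => ⟨hsurj.2 h1, (hdim (hsurj.2 h1)).2 h2⟩⟩

theorem exists_derivation [IsNoetherianRing Λ] [Module.Finite Λ k]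
    [Algebra.IsSeparable (↥(algebraMap Λ k).range) k] (B : Art Λ k) [Algebra B k] [IsScalarTower Λ B k]
    (hB : ∀ b, algebraMap B k b = B.res b) {x : B} (hx : x ∈ maximalIdeal B) (hxI : x ∉ relSq B) :
    ∃ D : Derivation Λ B k, D x ≠ 0 := by
  classical
  let I := relSq B
  let q : B →ₐ[Λ] B ⧸ I := Ideal.Quotient.mkₐ Λ I
  let ρ : (B ⧸ I) →ₐ[Λ] k := Ideal.Quotient.liftₐ I B.res fun b hb => (mem_maximalIdeal_iff B b).1 (relSq_le B hb)
  have hρ : Function.Surjective ρ := fun c => by
    obtain ⟨b, rfl⟩ := B.res_surjective c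
    exact ⟨q b, rfl⟩
  let K₀ := (algebraMap Λ k).range
  let π : Λ →+* K₀ := (algebraMap Λ k).rangeRestrict
  have hπ : Function.Surjective π := (algebraMap Λ k).rangeRestrict_surjective
  have hker : RingHom.ker π ≤ RingHom.ker (algebraMap Λ (B ⧸ I)) := fun l hl => by
    rw [RingHom.mem_ker]
    refine Ideal.Quotient.eq_zero_iff_mem.2 (Ideal.mem_sup_left (Ideal.mem_map_of_mem _ ?_))
    rw [RingHom.mem_ker] at hl ⊢
    exact congrArg Subtype.val hl
  letI algQ : Algebra K₀ (B ⧸ I) :=
    (RingHom.liftOfSurjective π hπ ⟨algebraMap Λ (B ⧸ I), hker⟩).toAlgebra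
  have hcomp : ∀ l, algebraMap K₀ (B ⧸ I) (π l) = algebraMap Λ (B ⧸ I) l :=
    fun l => RingHom.liftOfRightInverse_comp_apply π _ _ ⟨algebraMap Λ (B ⧸ I), hker⟩ l
  let ρ₀ : (B ⧸ I) →ₐ[K₀] k :=
    { ρ.toRingHom with
      commutes' := fun c => by
        obtain ⟨l, rfl⟩ := hπ c
        change ρ (algebraMap K₀ (B ⧸ I) (π l)) = _
        rw [hcomp, AlgHom.commutes]
        rfl }
  have hfield : IsField K₀ := by
    haveI : Algebra.IsIntegral Λ k := Algebra.IsIntegral.of_finite Λ k
    haveI : Algebra.IsIntegral K₀ k := ⟨fun x => by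
      obtain ⟨P, hP, hPx⟩ := Algebra.IsIntegral.isIntegral (R := Λ) x
      refine ⟨P.map π, hP.map π, ?_⟩
      rw [Polynomial.eval₂_map, show (algebraMap K₀ k).comp π = algebraMap Λ k from RingHom.ext fun _ => rfl]
      exact hPx⟩
    exact isField_of_isIntegral_of_isField Subtype.val_injective (Field.toIsField k)
  letI := hfield.toField
  haveI : Algebra.FormallyEtale K₀ k := Algebra.FormallyEtale.of_isSeparable K₀ k
  have hsq : ∀ y z : B ⧸ I, ρ y = 0 → ρ z = 0 → y * z = 0 := fun y z hy hz => by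
    obtain ⟨y, rfl⟩ := Ideal.Quotient.mk_surjective y
    obtain ⟨z, rfl⟩ := Ideal.Quotient.mk_surjective z
    rw [← map_mul, Ideal.Quotient.eq_zero_iff_mem]
    refine Ideal.mem_sup_right ?_
    rw [pow_two]
    exact Ideal.mul_mem_mul ((mem_maximalIdeal_iff B y).2 hy) ((mem_maximalIdeal_iff B z).2 hz)
  have hnil : IsNilpotent (RingHom.ker (ρ₀ : (B ⧸ I) →+* k)) := ⟨2, by
    rw [pow_two, Ideal.zero_eq_bot, eq_bot_iff, Ideal.mul_le]
    exact fun y hy z hz => Ideal.mem_bot.2 (hsq y z hy hz)⟩
  let σ : k →ₐ[K₀] (B ⧸ I) := Algebra.FormallySmooth.liftOfSurjective (AlgHom.id K₀ k) ρ₀ hρ hnil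
  have hσ : ∀ c, ρ (σ c) = c := fun c =>
    Algebra.FormallySmooth.liftOfSurjective_apply (AlgHom.id K₀ k) ρ₀ hρ hnil c
  letI : Algebra k (B ⧸ I) := σ.toRingHom.toAlgebra
  have hσΛ : ∀ l, σ (algebraMap Λ k l) = algebraMap Λ (B ⧸ I) l := fun l => by
    rw [← hcomp l, ← σ.commutes]
    rfl
  have hnot : q x ∉ Submodule.span k {(1 : B ⧸ I)} := fun h => by
    obtain ⟨c, hc⟩ := Submodule.mem_span_singleton.1 h
    rw [Algebra.smul_def, mul_one] at hc
    have h0 : c = 0 := by
      rw [← hσ c]
      change ρ (algebraMap k (B ⧸ I) c) = 0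
      rw [hc]
      exact (mem_maximalIdeal_iff B x).1 hx
    rw [h0, map_zero] at hc
    exact hxI (Ideal.Quotient.eq_zero_iff_mem.1 hc.symm)
  obtain ⟨ℓ, hℓx, hℓ⟩ := Submodule.exists_dual_map_eq_bot_of_notMem hnot inferInstance
  have hℓ1 : ℓ 1 = 0 := by
    have : ℓ 1 ∈ (Submodule.span k {(1 : B ⧸ I)}).map ℓ :=
      Submodule.mem_map_of_mem (Submodule.mem_span_singleton_self 1)
    rw [hℓ, Submodule.mem_bot] at this
    exact this
  haveI : IsScalarTower Λ k (B ⧸ I) := IsScalarTower.of_algebraMap_eq fun l => (hσΛ l).symm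
  refine ⟨Derivation.mk' (ℓ.restrictScalars Λ ∘ₗ q.toLinearMap) fun a b => ?_, hℓx⟩
  change ℓ (q (a * b)) = a • ℓ (q b) + b • ℓ (q a)
  rw [Algebra.smul_def, Algebra.smul_def, hB, hB, map_mul]
  have hd : ∀ y : B ⧸ I, ρ (y - algebraMap k _ (ρ y)) = 0 := fun y => by
    rw [map_sub, sub_eq_zero]; exact (hσ _).symm
  have h0 := hsq _ _ (hd (q a)) (hd (q b))
  rw [show ρ (q a) = B.res a from rfl, show ρ (q b) = B.res b from rfl] at h0
  have key : q a * q b = B.res a • q b + B.res b • q a - (B.res a * B.res b) • (1 : B ⧸ I) := by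
    simp only [Algebra.smul_def, mul_one, map_mul]
    linear_combination h0
  rw [key, map_sub, map_add, map_smul, map_smul, map_smul, hℓ1, smul_zero, sub_zero, smul_eq_mul, smul_eq_mul]

theorem isEssential_iff_relSq [IsNoetherianRing Λ] [Module.Finite Λ k]
    [Algebra.IsSeparable (↥(algebraMap Λ k).range) k] {A B : Art Λ k} (f : B ⟶ A) :
    IsEssential f ↔
      (Ideal.map (algebraMap Λ A) (RingHom.ker (algebraMap Λ k)) ⊔ Ideal.map f.toAlgHom (maximalIdeal B) ⊔
          maximalIdeal A ^ 2 = maximalIdeal A ∧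
        ∀ b ∈ maximalIdeal B, f b ∈ relSq A → b ∈ relSq B) := by
  letI : Algebra B k := B.res.toRingHom.toAlgebra
  haveI : IsScalarTower Λ B k := IsScalarTower.of_algebraMap_eq fun l => (B.res.commutes l).symm
  rw [isEssential_iff_derivations f (fun b => rfl), ← surjective_iff f]
  refine and_congr_right fun hs => ⟨fun h b hb hfb => ?_, fun h D b hb => ?_⟩
  · rw [← map_relSq f hs, Ideal.mem_map_iff_of_surjective f.toAlgHom hs] at hfb
    obtain ⟨i, hi, hfi⟩ := hfb
    by_contra hne
    obtain ⟨D, hD⟩ := exists_derivation B (fun b => rfl) (x := b - i)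
      (Ideal.sub_mem _ hb (relSq_le B hi)) (fun hm => hne (by simpa using Ideal.add_mem _ hm hi))
    exact hD (h D _ (by rw [map_sub, sub_eq_zero]; exact hfi.symm))
  · have hb' : b ∈ maximalIdeal B := (mem_maximalIdeal_iff B b).2 (by rw [← res_app f, hb, map_zero])
    have hbI := h b hb' (by rw [hb]; exact zero_mem _)
    obtain ⟨y, hy, z, hz, rfl⟩ := Submodule.mem_sup.1 hbI
    have hres : ∀ m ∈ maximalIdeal B, ∀ c : k, (m : B) • c = 0 := fun m hm c => by
      rw [Algebra.smul_def, show algebraMap B k m = 0 from (mem_maximalIdeal_iff B m).1 hm, zero_mul]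
    rw [map_add]
    have h1 : D y = 0 := by
      refine Submodule.span_induction ?_ (map_zero D) (fun a c _ _ ha hc => by rw [map_add, ha, hc, add_zero])
        (fun r a ha' hDa => ?_) hy
      · rintro _ ⟨l, -, rfl⟩
        exact D.map_algebraMap l
      · rw [smul_eq_mul, Derivation.leibniz, hDa, smul_zero, zero_add]
        exact hres a (le_trans le_sup_left (relSq_le B) ha') _
    have h2 : D z = 0 := by
      rw [pow_two] at hz
      refine Submodule.mul_induction_on hz (fun a ha c hc => ?_) fun a c ha hc => by rw [map_add, ha, hc, add_zero]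
      rw [Derivation.leibniz, hres a ha, hres c hc, add_zero]
    rw [h1, h2, add_zero]

end Groth.Agent.ArtF85.Essential
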