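import Groth.Agent.ArtF85.Formal
import Groth.Agent.CAlg1.Complete
import Groth.Prelude.Def_CAlgX
import Mathlib.RingTheory.AdicCompletion.LocalRing
import Mathlib.RingTheory.AdicCompletion.Algebra
import Mathlib.RingTheory.Polynomial.Basic

/-!
# Free coefficient rings: completed polynomial algebras
-/

set_option autoImplicit false
set_option linter.style.haveILetI false

universe u v

open CategoryTheory

namespace Groth.Agent.ArtF85

open ArtFun ArtFun.Art

variable {Λ : Type u} {k : Type u} [CommRing Λ] [Field k] [Algebra Λ k]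

/-- A coefficient ring free on variables with prescribed residues `c`. -/
structure FreeRing {ι : Type} (c : ι → k) : Type (u + 1) where
  /-- the ring -/
  ring : CRing Λ k
  /-- the variables -/
  X : ι → ring.carrier
  res_X : ∀ i, ring.res (X i) = c i
  lift : ∀ (A : Art Λ k) (a : ι → A), (∀ i, A.res (a i) = c i) →
    ∃ φ : HomSet ring.carrier ring.res A, ∀ i, φ.1 (X i) = a i
  hom_ext : ∀ {A : Art Λ k} {φ ψ : HomSet ring.carrier ring.res A},
    (∀ i, φ.1 (X i) = ψ.1 (X i)) → φ = ψ
  adicSmooth : CAlgX.IsAdicFormallySmooth Λ ring.carrier (IsLocalRing.maximalIdeal ring.carrier)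

namespace FreeRing

variable {ι : Type} {c : ι → k}

lemma isSmoothFunctor (S : FreeRing (Λ := Λ) c) : IsSmoothFunctor (hR S.ring.carrier S.ring.res) := by
  intro B A μ hμ φ
  choose b hb using fun i => hμ (φ.1 (S.X i))
  obtain ⟨ψ, hψ⟩ := S.lift B b fun i => by
    rw [← res_app μ, hb]
    exact (res_homSet_apply (A := A) φ _).trans (S.res_X i)
  exact ⟨ψ, S.hom_ext fun i => (congrArg μ (hψ i)).trans (hb i)⟩

lemma liftCRing (S : FreeRing (Λ := Λ) c) (T : CRing Λ k) (a : ι → T.carrier)
    (ha : ∀ i, T.res (a i) = c i) :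
    ∃ g : S.ring.carrier →ₐ[Λ] T.carrier, T.res.comp g = S.ring.res ∧ ∀ i, g (S.X i) = a i := by
  choose φ hφ using fun n => S.lift (T.trunc n) (fun i => (T.truncHom n).1 (a i))
    (fun i => (res_homSet_apply _ _).trans (ha i))
  obtain ⟨g, hg, hgn⟩ := exists_hom_of_compat T φ fun n => S.hom_ext fun i => by
    rw [homSet_map_apply, hφ, hφ, ← homSet_map_apply, T.truncMap_truncHom]
  refine ⟨g, hg, fun i => ?_⟩
  exact (exists_unique_limit T (fun n => (T.truncHom n).1 (a i)) fun n => by
    rw [← homSet_map_apply, T.truncMap_truncHom]).unique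
    (fun n => by rw [hgn, hφ]) (fun n => rfl)

lemma algHom_ext (S : FreeRing (Λ := Λ) c) {T : CRing Λ k} {g g' : S.ring.carrier →ₐ[Λ] T.carrier}
    (hg : T.res.comp g = S.ring.res) (hg' : T.res.comp g' = S.ring.res)
    (h : ∀ i, g (S.X i) = g' (S.X i)) : g = g' := by
  apply AlgHom.ext
  intro s
  let mk (f : S.ring.carrier →ₐ[Λ] T.carrier) (hf : T.res.comp f = S.ring.res) (n : ℕ) :
      HomSet S.ring.carrier S.ring.res (T.trunc n) :=
    ⟨(T.truncHom n).1.comp f, AlgHom.ext fun r =>
      (res_homSet_apply (T.truncHom n) (f r)).trans (AlgHom.congr_fun hf r)⟩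
  have hn : ∀ n, (T.truncHom n).1 (g s) = (T.truncHom n).1 (g' s) := fun n =>
    congrArg (fun φ : HomSet S.ring.carrier S.ring.res (T.trunc n) => φ.1 s)
      (S.hom_ext (φ := mk g hg n) (ψ := mk g' hg' n) fun i => congrArg (T.truncHom n).1 (h i))
  exact (exists_unique_limit T (fun n => (T.truncHom n).1 (g' s)) fun n => by
    rw [← homSet_map_apply, T.truncMap_truncHom]).unique hn fun n => rfl

end FreeRing

/-- Free coefficient rings exist. -/
theorem exists_freeRing [IsNoetherianRing Λ] {ι : Type} [Finite ι] (c : ι → k)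
    (hc : Function.Surjective (MvPolynomial.aeval (R := Λ) c)) :
    Nonempty (FreeRing (Λ := Λ) c) := by
  let P := MvPolynomial ι Λ
  set p : Ideal P := RingHom.ker (MvPolynomial.aeval (R := Λ) c) with hp
  haveI : p.IsMaximal := RingHom.ker_isMaximal_of_surjective _ hc
  have fg : p.FG := IsNoetherian.noetherian p
  let S := AdicCompletion p P
  haveI : IsScalarTower Λ P S := IsScalarTower.of_algebraMap_eq fun r => rfl
  haveI := AdicCompletion.isMaximal_map_of_le p p le_rfl fg
  haveI := AdicCompletion.isAdicComplete_self p fg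
  haveI : IsLocalRing S := isLocalRing_of_isAdicComplete_maximal (p.map (algebraMap P S))
  have hm : IsLocalRing.maximalIdeal S = p.map (algebraMap P S) :=
    (IsLocalRing.eq_maximalIdeal inferInstance).symm
  haveI : IsNoetherianRing S := Groth.Agent.CAlg1.isNoetherianRing_adicCompletion p fg
  have hev : ∀ (N : ℕ) (q : P), (AdicCompletion.evalₐ p N) (algebraMap P S q) = Ideal.Quotient.mk _ q :=
    fun N q => AlgHom.commutes _ q
  have hker : ∀ (N : ℕ) (x : S), AdicCompletion.evalₐ p N x = 0 → x ∈ IsLocalRing.maximalIdeal S ^ N := by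
    intro N x hx
    have h : p ^ N ≤ (p ^ N • ⊤ : Ideal P) := by simp
    have h0 : AdicCompletion.eval p P N x = 0 := by
      rw [← AdicCompletion.factor_evalₐ_eq_eval p x h, hx, map_zero]
    rw [← LinearMap.mem_ker, ← AdicCompletion.pow_smul_top_eq_ker_eval fg] at h0
    rw [hm, ← Ideal.map_pow]
    rw [Ideal.smul_top_eq_map, Submodule.restrictScalars_mem] at h0
    exact h0
  let π : S →ₐ[Λ] k := (Ideal.Quotient.liftₐ (p ^ 1) (MvPolynomial.aeval (R := Λ) c)
    (fun a ha => by rwa [pow_one] at ha)).comp ((AdicCompletion.evalₐ p 1).restrictScalars Λ)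
  have hπ : ∀ q : P, π (algebraMap P S q) = MvPolynomial.aeval c q := fun q => by
    refine (congrArg (Ideal.Quotient.liftₐ (p ^ 1) (MvPolynomial.aeval (R := Λ) c)
      (fun a ha => by rwa [pow_one] at ha)) (hev 1 q)).trans ?_
    rfl
  have hπs : Function.Surjective π := fun x => by
    obtain ⟨q, rfl⟩ := hc x
    exact ⟨_, hπ q⟩
  let R : CRing Λ k :=
    { carrier := S
      res := π
      res_surjective := hπs
      isAdicComplete := hm.symm ▸ AdicCompletion.isAdicComplete_self p fg }
  let X : ι → S := fun i => algebraMap P S (MvPolynomial.X i)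
  refine ⟨{ ring := R, X := X, res_X := fun i => (hπ _).trans (MvPolynomial.aeval_X c i),
            lift := ?_, hom_ext := ?_, adicSmooth := ?_ }⟩
  · intro A a ha
    obtain ⟨N, hN⟩ := exists_pow_maximalIdeal_eq_bot A
    let e : P →ₐ[Λ] A := MvPolynomial.aeval a
    have hres : A.res.comp e = MvPolynomial.aeval c := MvPolynomial.algHom_ext fun i => by
      simp [e, ha]
    have hle : p.map e ≤ IsLocalRing.maximalIdeal A := Ideal.map_le_iff_le_comap.2 fun q hq =>
      (mem_maximalIdeal_iff A (e q)).2 ((AlgHom.congr_fun hres q).trans hq)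
    have hkill : ∀ q ∈ p ^ (N + 1), e q = 0 := fun q hq => by
      have := Ideal.mem_map_of_mem e hq
      rw [Ideal.map_pow] at this
      exact Ideal.mem_bot.1 (hN ▸ Ideal.pow_le_pow_right (Nat.le_succ N) (Ideal.pow_right_mono hle _ this))
    let φ : S →ₐ[Λ] A := (Ideal.Quotient.liftₐ (p ^ (N + 1)) e hkill).comp
      ((AdicCompletion.evalₐ p (N + 1)).restrictScalars Λ)
    refine ⟨⟨φ, AlgHom.ext fun s => ?_⟩, fun i => ?_⟩
    · obtain ⟨q, hq⟩ := Ideal.Quotient.mk_surjective (AdicCompletion.evalₐ p (N + 1) s)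
      have hs : s - algebraMap P S q ∈ IsLocalRing.maximalIdeal S :=
        Ideal.pow_le_self (Nat.succ_ne_zero N) (hker (N + 1) _ (by rw [map_sub, hev, hq, sub_self]))
      have hs0 : π s = π (algebraMap P S q) := by
        rw [← sub_eq_zero, ← map_sub]
        exact (R.mem_maximalIdeal_iff _).1 hs
      change A.res (Ideal.Quotient.liftₐ (p ^ (N + 1)) e hkill (AdicCompletion.evalₐ p (N + 1) s)) = π s
      rw [← hq, hs0, hπ]
      exact AlgHom.congr_fun hres q
    · change Ideal.Quotient.liftₐ (p ^ (N + 1)) e hkill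
        (AdicCompletion.evalₐ p (N + 1) (algebraMap P S (MvPolynomial.X i))) = a i
      rw [hev]
      exact MvPolynomial.aeval_X a i
  · intro A φ ψ h
    refine homSet_ext fun s => ?_
    obtain ⟨n₁, hn₁⟩ := exists_mpow_le_ker R φ
    obtain ⟨n₂, hn₂⟩ := exists_mpow_le_ker R ψ
    obtain ⟨q, hq⟩ := Ideal.Quotient.mk_surjective (AdicCompletion.evalₐ p (n₁ + n₂ + 1) s)
    have hs : s - algebraMap P S q ∈ IsLocalRing.maximalIdeal S ^ (n₁ + n₂ + 1) :=
      hker _ _ (by rw [map_sub, hev, hq, sub_self])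
    have e₁ : φ.1 s = φ.1 (algebraMap P S q) := sub_eq_zero.1 ((map_sub φ.1 _ _).symm.trans
      (RingHom.mem_ker.1 (hn₁ (Ideal.pow_le_pow_right (by omega) hs))))
    have e₂ : ψ.1 s = ψ.1 (algebraMap P S q) := sub_eq_zero.1 ((map_sub ψ.1 _ _).symm.trans
      (RingHom.mem_ker.1 (hn₂ (Ideal.pow_le_pow_right (by omega) hs))))
    have key : φ.1.comp (IsScalarTower.toAlgHom Λ P S) = ψ.1.comp (IsScalarTower.toAlgHom Λ P S) :=
      MvPolynomial.algHom_ext fun i => h i
    rw [e₁, e₂]
    exact AlgHom.congr_fun key q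
  · intro A _ _ J hJ ψ hψ
    obtain ⟨N, hN⟩ := hψ
    have hN : ∀ x ∈ IsLocalRing.maximalIdeal S ^ N, ψ x = 0 := hN
    choose a ha using fun i => Ideal.Quotient.mk_surjective (ψ (X i))
    let e : P →ₐ[Λ] A := MvPolynomial.aeval a
    have he : (Ideal.Quotient.mkₐ Λ J).comp e = ψ.comp (IsScalarTower.toAlgHom Λ P S) :=
      MvPolynomial.algHom_ext fun i => by
        change Ideal.Quotient.mk J (MvPolynomial.aeval a (MvPolynomial.X i)) = _
        rw [MvPolynomial.aeval_X, ha]
        rfl
    have hJe : (p ^ N).map e ≤ J := Ideal.map_le_iff_le_comap.2 fun q hq =>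
      (Ideal.Quotient.eq_zero_iff_mem (I := J)).1 ((AlgHom.congr_fun he q).trans (hN _ (by
        rw [hm, ← Ideal.map_pow]
        exact Ideal.mem_map_of_mem _ hq)))
    have hkill : ∀ q ∈ p ^ (N * 2), e q = 0 := fun q hq => by
      rw [pow_mul] at hq
      have := Ideal.mem_map_of_mem e hq
      rw [Ideal.map_pow] at this
      exact Ideal.mem_bot.1 (hJ ▸ Ideal.pow_right_mono hJe 2 this)
    refine ⟨(Ideal.Quotient.liftₐ (p ^ (N * 2)) e hkill).comp
      ((AdicCompletion.evalₐ p (N * 2)).restrictScalars Λ), AlgHom.ext fun s => ?_⟩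
    obtain ⟨q, hq⟩ := Ideal.Quotient.mk_surjective (AdicCompletion.evalₐ p (N * 2) s)
    have hs : s - algebraMap P S q ∈ IsLocalRing.maximalIdeal S ^ (N * 2) :=
      hker _ _ (by rw [map_sub, hev, hq, sub_self])
    have h1 : ψ s = ψ (algebraMap P S q) := by
      rw [← sub_eq_zero, ← map_sub]
      exact hN _ (Ideal.pow_le_pow_right (by omega) hs)
    change Ideal.Quotient.mk J (Ideal.Quotient.liftₐ (p ^ (N * 2)) e hkill
      (AdicCompletion.evalₐ p (N * 2) s)) = ψ s
    rw [← hq, h1]
    exact AlgHom.congr_fun he q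

/-- Finitely many elements generating `k` as a `Λ`-algebra, with some extra zero residues. -/
theorem exists_generators [Module.Finite Λ k] :
    ∃ (r : ℕ) (c : Fin r → k), ∀ (n : ℕ),
      Function.Surjective (MvPolynomial.aeval (R := Λ) (Sum.elim c (fun _ : Fin n => (0 : k)))) := by
  obtain ⟨r, c, hc⟩ := Submodule.fg_iff_exists_fin_generating_family.1
    ((inferInstance : Module.Finite Λ k).fg_top)
  refine ⟨r, c, fun n x => ?_⟩
  obtain ⟨a, ha⟩ := (Submodule.mem_span_range_iff_exists_fun Λ).1 (hc.symm ▸ Submodule.mem_top (x := x))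
  refine ⟨∑ i, MvPolynomial.C (a i) * MvPolynomial.X (Sum.inl i), ?_⟩
  rw [← ha, map_sum]
  refine Finset.sum_congr rfl fun i _ => ?_
  rw [map_mul, MvPolynomial.aeval_C, MvPolynomial.aeval_X, Sum.elim_inl, Algebra.smul_def]

end Groth.Agent.ArtF85
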