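import Mathlib.RingTheory.Etale.Kaehler
import Mathlib.RingTheory.Etale.StandardEtale
import Mathlib.RingTheory.Smooth.Flat
import Mathlib.FieldTheory.PrimitiveElement
import Mathlib.FieldTheory.Separable

/-!
The first cotangent homology of a finite separable extension of a residue field.
-/

set_option autoImplicit false
set_option linter.style.haveILetI false

universe u

open TensorProduct Polynomial

namespace Groth.Agent.ArtF85.H1Sep

/-- A finite separable extension of a residue field is the reduction of a standard étale algebra. -/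
theorem exists_standardEtalePair {R K L : Type u} [CommRing R] [Field K] [Field L] [Algebra R K] [Algebra R L]
    [Algebra K L] [IsScalarTower R K L] (hs : Function.Surjective (algebraMap R K)) [FiniteDimensional K L]
    [Algebra.IsSeparable K L] :
    ∃ (P : StandardEtalePair R) (θ : L) (h : P.HasMap θ), Function.Surjective (P.lift θ h) ∧
      RingHom.ker (P.lift θ h) = (RingHom.ker (algebraMap R K)).map (algebraMap R P.Ring) := by
  obtain ⟨θ, hθ⟩ := Field.exists_primitive_element K L
  have hint : IsIntegral K θ := Algebra.IsIntegral.isIntegral θ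
  obtain ⟨g, hg, -, hgm⟩ := Polynomial.lifts_and_degree_eq_and_monic
    (Polynomial.map_surjective (algebraMap R K) hs (minpoly K θ)) (minpoly.monic hint)
  let P : StandardEtalePair R := ⟨g, hgm, derivative g, ⟨1, 0, 1, by simp⟩⟩
  have hag : aeval θ g = 0 := by rw [← aeval_map_algebraMap K θ g, hg, minpoly.aeval]
  have hmap : P.HasMap θ := by
    refine ⟨hag, isUnit_iff_ne_zero.2 ?_⟩
    change aeval θ (derivative g) ≠ 0
    rw [← aeval_map_algebraMap K θ, ← derivative_map, hg]
    exact (Algebra.IsSeparable.isSeparable K θ).aeval_derivative_ne_zero (minpoly.aeval K θ)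
  let pb := IntermediateField.adjoin.powerBasis hint
  have htop : Function.Surjective (aeval (R := K) θ) := by
    intro y
    have hy : y ∈ (IntermediateField.adjoin K {θ}).toSubalgebra := hθ.symm ▸ IntermediateField.mem_top
    rw [IntermediateField.adjoin_simple_toSubalgebra_of_isAlgebraic hint.isAlgebraic, Algebra.adjoin_singleton_eq_range_aeval] at hy
    exact hy
  have hsurj : Function.Surjective (P.lift θ hmap) := by
    intro y
    obtain ⟨p, rfl⟩ := htop y
    obtain ⟨p', rfl⟩ := Polynomial.map_surjective (algebraMap R K) hs p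
    refine ⟨aeval P.X p', ?_⟩
    rw [← aeval_algHom_apply, P.lift_X, aeval_map_algebraMap]
  refine ⟨P, θ, hmap, hsurj, le_antisymm ?_ ?_⟩
  · let I := (RingHom.ker (algebraMap R K)).map (algebraMap R P.Ring)
    letI : Algebra K (P.Ring ⧸ I) := (RingHom.liftOfSurjective (algebraMap R K) hs
      ⟨algebraMap R (P.Ring ⧸ I), fun r hr => RingHom.mem_ker.2
        (Ideal.Quotient.eq_zero_iff_mem.2 (Ideal.mem_map_of_mem _ hr))⟩).toAlgebra
    haveI : IsScalarTower R K (P.Ring ⧸ I) := IsScalarTower.of_algebraMap_eq fun r =>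
      (RingHom.liftOfRightInverse_comp_apply (algebraMap R K) _ (Function.rightInverse_surjInv hs)
        ⟨algebraMap R (P.Ring ⧸ I), fun r hr => RingHom.mem_ker.2
          (Ideal.Quotient.eq_zero_iff_mem.2 (Ideal.mem_map_of_mem _ hr))⟩ r).symm
    have hX : aeval (Ideal.Quotient.mkₐ R I P.X) (minpoly K θ) = 0 := by
      rw [← hg, aeval_map_algebraMap, aeval_algHom_apply]
      change Ideal.Quotient.mk I (aeval P.X P.f) = 0
      rw [P.hasMap_X.1, map_zero]
    let ψ₀ : AdjoinRoot (minpoly K θ) →ₐ[K] (P.Ring ⧸ I) :=
      AdjoinRoot.liftAlgHom _ (Algebra.ofId K _) (Ideal.Quotient.mkₐ R I P.X) hX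
    haveI : Fact (Irreducible (minpoly K θ)) := ⟨minpoly.irreducible hint⟩
    let φ₀ : AdjoinRoot (minpoly K θ) →ₐ[K] L :=
      AdjoinRoot.liftAlgHom _ (Algebra.ofId K L) θ (minpoly.aeval K θ)
    have hφ₀ : Function.Bijective φ₀ := ⟨φ₀.toRingHom.injective, fun y => by
      obtain ⟨p, rfl⟩ := htop y
      refine ⟨AdjoinRoot.mk _ p, ?_⟩
      simp [φ₀]
      rfl⟩
    let e := AlgEquiv.ofBijective φ₀ hφ₀
    let ψ : L →ₐ[R] (P.Ring ⧸ I) := (ψ₀.comp (e.symm : L →ₐ[K] AdjoinRoot (minpoly K θ))).restrictScalars R
    have hψ : ψ.comp (P.lift θ hmap) = Ideal.Quotient.mkₐ R I := P.hom_ext (by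
      change ψ₀ (e.symm (P.lift θ hmap P.X)) = _
      rw [P.lift_X]
      refine (congrArg ψ₀ (?_ : e.symm θ = AdjoinRoot.root _)).trans (AdjoinRoot.liftAlgHom_root _ _ _ _)
      exact e.symm_apply_eq.2 (AdjoinRoot.liftAlgHom_root (minpoly K θ) (Algebra.ofId K L) θ (minpoly.aeval K θ)).symm)
    intro q hq
    rw [← Ideal.Quotient.eq_zero_iff_mem, ← Ideal.Quotient.mkₐ_eq_mk R, ← hψ, AlgHom.comp_apply,
      show P.lift θ hmap q = 0 from hq, map_zero]
  · refine Ideal.map_le_iff_le_comap.2 fun r hr => ?_
    rw [Ideal.mem_comap, RingHom.mem_ker, AlgHom.commutes, IsScalarTower.algebraMap_apply R K L,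
      show algebraMap R K r = 0 from hr, map_zero]

theorem bijective {R K L : Type u} [CommRing R] [Field K] [Field L] [Algebra R K] [Algebra R L]
    [Algebra K L] [IsScalarTower R K L] (hs : Function.Surjective (algebraMap R K)) [FiniteDimensional K L]
    [Algebra.IsSeparable K L] :
    Function.Bijective ((Algebra.H1Cotangent.map R R K L).liftBaseChange L) := by
  obtain ⟨Pr, θ, hθ, hsurj, hker⟩ := exists_standardEtalePair (R := R) (K := K) (L := L) hs
  let P : Algebra.Extension R K := .ofSurjective (Algebra.ofId R K) hs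
  let fQ : Pr.Ring →ₐ[R] L := Pr.lift θ hθ
  let Q : Algebra.Extension R L := .ofSurjective fQ hsurj
  let f : P.Hom Q :=
    { toRingHom := algebraMap R Pr.Ring
      toRingHom_algebraMap := fun r => rfl
      algebraMap_toRingHom := fun r => (fQ.commutes r).trans (IsScalarTower.algebraMap_apply R K L r) }
  haveI : Algebra.FormallySmooth R P.Ring := inferInstanceAs (Algebra.FormallySmooth R R)
  haveI : Algebra.FormallySmooth R Q.Ring := inferInstanceAs (Algebra.FormallySmooth R Pr.Ring)
  haveI : Algebra.Smooth R Pr.Ring := inferInstance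
  haveI : Module.Flat R Pr.Ring := Algebra.Smooth.flat R Pr.Ring
  letI algPQ : Algebra P.Ring Q.Ring := (inferInstance : Algebra R Pr.Ring)
  haveI : Module.Flat P.Ring Q.Ring := ‹Module.Flat R Pr.Ring›
  have H₁ : f.toRingHom.FormallyEtale :=
    RingHom.formallyEtale_algebraMap.mpr (inferInstance : Algebra.FormallyEtale R Pr.Ring)
  have H₂ : Function.Bijective ((f.mapKer rfl).liftBaseChange Q.Ring) := by
    constructor
    · have hinj : Function.Injective (LinearMap.lTensor Q.Ring (Submodule.subtype P.ker)) :=
        Module.Flat.lTensor_preserves_injective_linearMap _ Subtype.val_injective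
      have hfac : ∀ z : Q.Ring ⊗[P.Ring] P.ker, ((f.mapKer rfl).liftBaseChange Q.Ring z : Q.Ring) =
          TensorProduct.rid P.Ring Q.Ring (LinearMap.lTensor Q.Ring (Submodule.subtype P.ker) z) := fun z => by
        induction z using TensorProduct.induction_on with
        | zero => simp
        | tmul a b =>
          rw [LinearMap.liftBaseChange_tmul, LinearMap.lTensor_tmul, TensorProduct.rid_tmul, Algebra.smul_def]
          exact mul_comm (a : Q.Ring) _
        | add a b ha hb => rw [map_add, map_add, map_add, ← ha, ← hb]; rfl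
      intro a b hab
      apply hinj
      apply (TensorProduct.rid P.Ring Q.Ring).injective
      rw [← hfac, ← hfac, hab]
    · intro y
      have hy : (y : Q.Ring) ∈ (RingHom.ker (algebraMap R K)).map (algebraMap R Pr.Ring) := hker ▸ y.2
      have key : ∀ z ∈ (RingHom.ker (algebraMap R K)).map (algebraMap R Pr.Ring),
          ∃ t : Q.Ring ⊗[P.Ring] P.ker, ((f.mapKer rfl).liftBaseChange Q.Ring t : Q.Ring) = z := by
        intro z hz
        induction hz using Submodule.span_induction with
        | mem z hz =>
          obtain ⟨r, hr, rfl⟩ := hz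
          exact ⟨1 ⊗ₜ[P.Ring] ⟨r, hr⟩, by rw [LinearMap.liftBaseChange_tmul, one_smul]; rfl⟩
        | zero => exact ⟨0, by rw [map_zero]; rfl⟩
        | add a b _ _ ha hb =>
          obtain ⟨ta, rfl⟩ := ha
          obtain ⟨tb, rfl⟩ := hb
          exact ⟨ta + tb, by rw [map_add]; rfl⟩
        | smul c a _ ha =>
          obtain ⟨ta, rfl⟩ := ha
          exact ⟨HSMul.hSMul (α := Q.Ring) c ta, by rw [LinearMap.map_smul]; rfl⟩
      obtain ⟨t, ht⟩ := key _ hy
      exact ⟨t, Subtype.ext ht⟩
  let e := Algebra.Extension.tensorH1CotangentOfFormallyEtale f rfl H₁ H₂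
  let eQ := Q.equivH1CotangentOfFormallySmooth
  let eP := P.equivH1CotangentOfFormallySmooth
  let g₁ : (Algebra.Generators.self R K).toExtension.Hom P :=
    { toRingHom := (MvPolynomial.aeval P.σ).toRingHom
      toRingHom_algebraMap := (MvPolynomial.aeval P.σ).commutes
      algebraMap_toRingHom := fun x => by
        have h : (Algebra.ofId R K).comp (MvPolynomial.aeval P.σ) = MvPolynomial.aeval (_root_.id : K → K) :=
          MvPolynomial.algHom_ext fun i => by
            rw [AlgHom.comp_apply, MvPolynomial.aeval_X, MvPolynomial.aeval_X]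
            exact P.algebraMap_σ i
        exact DFunLike.congr_fun h x }
  let g₃ : (Algebra.Generators.self R L).toExtension.Hom Q :=
    { toRingHom := (MvPolynomial.aeval Q.σ).toRingHom
      toRingHom_algebraMap := (MvPolynomial.aeval Q.σ).commutes
      algebraMap_toRingHom := fun x => by
        have h : fQ.comp (MvPolynomial.aeval Q.σ) = MvPolynomial.aeval (_root_.id : L → L) :=
          MvPolynomial.algHom_ext fun i => by
            rw [AlgHom.comp_apply, MvPolynomial.aeval_X, MvPolynomial.aeval_X]
            exact Q.algebraMap_σ i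
        exact DFunLike.congr_fun h x }
  let total := ((eP.symm.baseChange K L).trans e).trans eQ
  suffices h : (Algebra.H1Cotangent.map R R K L).liftBaseChange L = total.toLinearMap by
    rw [h]; exact total.bijective
  ext x : 3
  simp only [AlgebraTensorModule.curry_apply, curry_apply, LinearMap.coe_restrictScalars,
    LinearEquiv.coe_coe, LinearMap.liftBaseChange_tmul, one_smul]
  change _ = eQ (e (1 ⊗ₜ[K] eP.symm x))
  rw [← LinearEquiv.symm_apply_eq]
  simp only [e, Algebra.Extension.tensorH1CotangentOfFormallyEtale, LinearEquiv.ofBijective_apply,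
    LinearMap.liftBaseChange_tmul, one_smul]
  simp only [eQ, eP, Algebra.Extension.equivH1CotangentOfFormallySmooth,
    Algebra.Extension.H1Cotangent.equivOfFormallySmooth_symm]
  rw [@Algebra.Extension.H1Cotangent.equivOfFormallySmooth_apply (f := g₃),
    @Algebra.Extension.H1Cotangent.equivOfFormallySmooth_apply (f := g₁), Algebra.H1Cotangent.map,
    ← (Algebra.Extension.H1Cotangent.map g₃).coe_restrictScalars K, ← LinearMap.comp_apply,
    ← Algebra.Extension.H1Cotangent.map_comp, ← Algebra.Extension.H1Cotangent.map_comp_apply,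
    Algebra.Extension.H1Cotangent.map_eq]

end Groth.Agent.ArtF85.H1Sep
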