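import Groth.Agent.ArtF85.Tangent
import Groth.Agent.ArtF85.Formal

/-!
# The action of the tangent space on fibres over small extensions, and criteria deduced from it
-/

set_option autoImplicit false
set_option linter.style.haveILetI false

universe u v w

open CategoryTheory

namespace Groth.Agent.ArtF85

open ArtFun ArtFun.Art

variable {Λ : Type u} {k : Type u} [CommRing Λ] [Field k] [Algebra Λ k]
variable {F G : Art Λ k ⥤ Type v} {R : Type u} [CommRing R] [Algebra Λ R] {resR : R →ₐ[Λ] k}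

instance subsingleton_homSet_base : Subsingleton (HomSet R resR (base Λ k)) :=
  ⟨fun φ ψ => Subtype.ext (AlgHom.ext fun r => (res_homSet_apply φ r).trans (res_homSet_apply ψ r).symm)⟩

/-- The unique map to `k`. -/
def homSetBase (R : Type u) [CommRing R] [Algebra Λ R] (resR : R →ₐ[Λ] k) : HomSet R resR (base Λ k) :=
  ⟨resR, AlgHom.id_comp _⟩

lemma eq_of_pair (h2 : Heps F) {B A P : Art Λ k} {p : B ⟶ A} {p₁ p₂ : P ⟶ B} {g : P ⟶ dual Λ k}
    {Δ : B ⟶ P} (_hP : IsFibreProd p₁ p₂ p p)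
    (hg : IsFibreProd p₁ g (toBase B) (toBase (dual Λ k))) (h₁ : Δ ≫ p₁ = 𝟙 B) (h₂ : Δ ≫ p₂ = 𝟙 B)
    (z : F.obj P) (e : F.map g z = F.map (Δ ≫ g) (F.map p₁ z)) : F.map p₂ z = F.map p₁ z := by
  have hz : z = F.map Δ (F.map p₁ z) := (injective_cmp_iff hg).1 (h2 p₁ g hg).1 _ _
    (by rw [map_map Δ p₁, h₁, map_id_apply]) (by rw [e, map_map Δ g])
  conv_lhs => rw [hz]
  rw [map_map Δ p₂, h₂, map_id_apply]

section Criteria

variable [IsNoetherianRing Λ] [Module.Finite Λ k]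

/-- Injectivity from injectivity on the tangent spaces. -/
theorem injective_app_of_tangent (φ : F ⟶ G) (hF1 : Hbar F) (hF2 : Heps F)
    (hG : ∀ ⦃B A A' : Art Λ k⦄ (p₁ p₂ : B ⟶ A') (f : A' ⟶ A) (h : IsFibreProd p₁ p₂ f f),
      IsSmallExt f → Function.Injective (cmp G h))
    (h0 : Function.Injective (φ.app (base Λ k))) (hd : Function.Injective (φ.app (dual Λ k)))
    (A : Art Λ k) : Function.Injective (φ.app A) := by
  refine surjective_induction (P := fun B A _ => Function.Injective (φ.app A) → Function.Injective (φ.app B))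
    ?_ ?_ (toBase A) (surjective_toBase A) h0
  · intro B A f hf hA x y e
    refine (map_bijective F f hf).1 (hA ?_)
    rw [NatTrans.naturality_apply φ, NatTrans.naturality_apply φ, e]
  · intro C B A g f hg _ ih hA y y' e
    have hy : F.map g y = F.map g y' := ih hA (by
      rw [NatTrans.naturality_apply φ, NatTrans.naturality_apply φ, e])
    obtain ⟨P, p₁, p₂, d, Δ, hP, hd', h₁, h₂, hΔ⟩ := exists_kernelPair hg
    obtain ⟨z, rfl, rfl⟩ := (surjective_cmp_iff hP).1 (hF1 _ _ _ _ hP hg) y y' hy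
    have hz : φ.app P z = φ.app P (F.map Δ (F.map p₁ z)) := by
      refine (injective_cmp_iff hP).1 (hG _ _ _ hP hg) _ _ ?_ ?_
      · rw [← NatTrans.naturality_apply φ, ← NatTrans.naturality_apply φ, map_map Δ p₁, h₁, map_id_apply]
      · rw [← NatTrans.naturality_apply φ, ← NatTrans.naturality_apply φ, map_map Δ p₂, h₂,
          map_id_apply]
        exact e.symm
    refine (eq_of_pair hF2 hP hd' h₁ h₂ z (hd ?_)).symm
    rw [NatTrans.naturality_apply φ, hz, ← NatTrans.naturality_apply φ, map_map Δ d]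

/-- Smoothness criterion. -/
theorem isSmooth_of_tangent (φ : F ⟶ G) (hF0 : H0 F) (hF2 : Heps F) (hG1 : Hbar G) (hG2 : Heps G)
    (hd : Function.Surjective (φ.app (dual Λ k)))
    (hl : ∀ ⦃A' A : Art Λ k⦄ (μ : A' ⟶ A), IsSmallExt μ → ∀ x : F.obj A,
      (∃ y' : G.obj A', G.map μ y' = φ.app A x) → ∃ x' : F.obj A', F.map μ x' = x) : IsSmooth φ := by
  refine isSmooth_of_small φ fun B A μ hμ x y e => ?_
  obtain ⟨x', rfl⟩ := hl μ hμ x ⟨y, e.symm⟩
  obtain ⟨P, p₁, p₂, d, Δ, hP, hd', -, -, -⟩ := exists_kernelPair hμ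
  obtain ⟨z, hz₁, hz₂⟩ := (surjective_cmp_iff hP).1 (hG1 _ _ _ _ hP hμ) (φ.app B x') y
    (by rw [← NatTrans.naturality_apply φ, e])
  obtain ⟨θ, hθ⟩ := hd (G.map d z)
  obtain ⟨w, hw₁, hw₂⟩ := (surjective_cmp_iff hd').1 (hF2 p₁ d hd').2 x' θ
    (@Subsingleton.elim _ hF0.2 _ _)
  have hw : φ.app P w = z := (injective_cmp_iff hd').1 (hG2 p₁ d hd').1 _ _
    (by rw [← NatTrans.naturality_apply φ, hw₁, hz₁]) (by rw [← NatTrans.naturality_apply φ, hw₂, hθ])
  refine ⟨F.map p₂ w, ?_, by rw [NatTrans.naturality_apply φ, hw, hz₂]⟩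
  rw [map_map, ← hP.w, ← map_map, hw₁]

theorem subsingleton_obj_of_subsingleton_tangent (h0 : H0 F) (h1 : Hbar F) (h2 : Heps F)
    (ht : Subsingleton (F.obj (dual Λ k))) (A : Art Λ k) : Subsingleton (F.obj A) := by
  refine surjective_induction (P := fun B A _ => Subsingleton (F.obj A) → Subsingleton (F.obj B))
    ?_ ?_ (toBase A) (surjective_toBase A) h0.2
  · intro B A f hf hA
    exact ⟨fun x y => (map_bijective F f hf).1 (Subsingleton.elim _ _)⟩
  · intro C B A g f hg _ ih hA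
    haveI := ih hA
    refine ⟨fun y y' => ?_⟩
    obtain ⟨P, p₁, p₂, d, Δ, hP, hd', h₁, h₂, hΔ⟩ := exists_kernelPair hg
    obtain ⟨z, rfl, rfl⟩ := (surjective_cmp_iff hP).1 (h1 _ _ _ _ hP hg) y y' (Subsingleton.elim _ _)
    exact (eq_of_pair h2 hP hd' h₁ h₂ z (Subsingleton.elim _ _)).symm

end Criteria

section Families

lemma isVersal_of_small (ξ : Family R resR F)
    (h : ∀ ⦃B A : Art Λ k⦄ (μ : B ⟶ A), IsSmallExt μ →
      ∀ (φ : HomSet R resR A) (y : F.obj B), F.map μ y = ξ.app A φ →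
        ∃ ψ : HomSet R resR B, HomSet.map μ ψ = φ ∧ ξ.app B ψ = y) : IsVersal ξ := by
  intro B A μ hμ
  refine surjective_induction (P := fun B A μ =>
    ∀ (φ : HomSet R resR A) (y : F.obj B), F.map μ y = ξ.app A φ →
      ∃ ψ : HomSet R resR B, HomSet.map μ ψ = φ ∧ ξ.app B ψ = y) ?_ ?_ μ hμ
  · intro B A μ hμ φ y e
    refine ⟨HomSet.map (invHom μ hμ) φ, ?_, ?_⟩
    · rw [homSet_map_map, invHom_comp, homSet_map_id]
    · rw [ξ.natural, ← e, map_map, comp_invHom, map_id_apply]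
  · intro C B A g f hg _ ih φ y e
    obtain ⟨ψ₁, e₁, e₂⟩ := ih φ (F.map g y) (by rw [map_map, e])
    obtain ⟨ψ, e₃, e₄⟩ := h g hg ψ₁ y e₂.symm
    exact ⟨ψ, by rw [← homSet_map_map, e₃, e₁], e₄⟩

lemma surjective_app_of_isVersal (h0 : H0 F) {ξ : Family R resR F} (hξ : IsVersal ξ) (A : Art Λ k) :
    Function.Surjective (ξ.app A) := fun y => by
  obtain ⟨ψ, -, hψ⟩ := hξ (toBase A) (surjective_toBase A) (homSetBase R resR) y
    (@Subsingleton.elim _ h0.2 _ _)
  exact ⟨ψ, hψ⟩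

lemma h0_of_isMiniversal {ξ : Family R resR F} (hξ : IsMiniversal ξ) : H0 F := by
  refine ⟨⟨ξ.app _ (homSetBase R resR)⟩, ⟨fun x y => ?_⟩⟩
  have key : ∀ x : F.obj (base Λ k), x = ξ.app _ (homSetBase R resR) := fun x => by
    obtain ⟨δ, hδ⟩ := hξ.2.2 (F.map baseToDual x)
    have h1 := congrArg (F.map (toBase (dual Λ k))) hδ
    rw [← ξ.natural, map_map, eq_toBase (baseToDual ≫ toBase (dual Λ k)),
      ← eq_toBase (𝟙 (base Λ k)), map_id_apply] at h1
    rw [← h1]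
    exact congrArg (ξ.app _) (Subsingleton.elim _ _)
  rw [key x, key y]

lemma hbar_of_isVersal (h0 : H0 F) {ξ : Family R resR F} (hξ : IsVersal ξ) : S1 F := by
  intro B A A' A'' p' p'' f' f'' h hf
  rw [surjective_cmp_iff]
  intro x' x'' e
  obtain ⟨φ', rfl⟩ := surjective_app_of_isVersal h0 hξ A' x'
  obtain ⟨φ'', e₁, e₂⟩ := hξ f'' hf (HomSet.map f' φ') x'' (by rw [ξ.natural, e])
  obtain ⟨ψ, hψ₁, hψ₂⟩ := exists_homSet_lift h φ' φ'' e₁.symm
  exact ⟨ξ.app B ψ, by rw [← ξ.natural, hψ₁], by rw [← ξ.natural, hψ₂, e₂]⟩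

lemma heps_of_isMiniversal {ξ : Family R resR F} (hξ : IsMiniversal ξ) : Heps F := by
  have h0 := h0_of_isMiniversal hξ
  intro B A' p' p'' h
  refine ⟨(injective_cmp_iff h).2 fun z w e₁ e₂ => ?_,
    hbar_of_isVersal h0 hξ.1 p' p'' _ _ h (surjective_toBase _)⟩
  obtain ⟨φ, hφ⟩ := surjective_app_of_isVersal h0 hξ.1 A' (F.map p' z)
  have hp := surjective_fst h (surjective_toBase (dual Λ k))
  obtain ⟨ψz, hz₁, hz₂⟩ := hξ.1 p' hp φ z hφ.symm
  obtain ⟨ψw, hw₁, hw₂⟩ := hξ.1 p' hp φ w (e₁.symm.trans hφ.symm)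
  have h' : HomSet.map p'' ψz = HomSet.map p'' ψw :=
    hξ.2.1 (by rw [ξ.natural, ξ.natural, hz₂, hw₂, e₂])
  rw [← hz₂, ← hw₂, homSet_fibre_ext h (hz₁.trans hw₁.symm) h']

variable [IsNoetherianRing Λ] [Module.Finite Λ k]

theorem isVersal_iff (h0 : H0 F) (h1 : Hbar F) (h2 : Heps F) (ξ : Family R resR F) :
    IsVersal ξ ↔ (Function.Surjective (ξ.app (dual Λ k)) ∧
      ∀ ⦃B A : Art Λ k⦄ (μ : B ⟶ A), IsSmallExt μ →
        ∀ (φ : HomSet R resR A) (y : F.obj B), F.map μ y = ξ.app A φ →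
          ∃ ψ : HomSet R resR B, HomSet.map μ ψ = φ) := by
  refine ⟨fun h => ⟨surjective_app_of_isVersal h0 h _, fun B A μ hμ φ y e => ?_⟩, fun ⟨hs, hl⟩ => ?_⟩
  · obtain ⟨ψ, hψ, -⟩ := h μ hμ.1 φ y e
    exact ⟨ψ, hψ⟩
  refine isVersal_of_small ξ fun B A μ hμ φ y e => ?_
  obtain ⟨ψ, rfl⟩ := hl μ hμ φ y e
  obtain ⟨P, p₁, p₂, d, Δ, hP, hd, -, -, -⟩ := exists_kernelPair hμ
  obtain ⟨z, hz₁, hz₂⟩ := (surjective_cmp_iff hP).1 (h1 _ _ _ _ hP hμ) (ξ.app B ψ) y
    (by rw [← ξ.natural, e])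
  obtain ⟨δ, hδ⟩ := hs (F.map d z)
  obtain ⟨χ, hχ₁, hχ₂⟩ := exists_homSet_lift hd ψ δ (Subsingleton.elim _ _)
  have hχ : ξ.app P χ = z := (injective_cmp_iff hd).1 (h2 p₁ d hd).1 _ _
    (by rw [← ξ.natural, hχ₁, hz₁]) (by rw [← ξ.natural, hχ₂, hδ])
  refine ⟨HomSet.map p₂ χ, ?_, by rw [ξ.natural, hχ, hz₂]⟩
  rw [homSet_map_map, ← hP.w, ← homSet_map_map, hχ₁]

/-- A family which is injective on `k[ε]` is injective everywhere, if `F` is injective on kernel pairs. -/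
theorem injective_family_app
    (hF : ∀ ⦃B A A' : Art Λ k⦄ (p₁ p₂ : B ⟶ A') (f : A' ⟶ A) (h : IsFibreProd p₁ p₂ f f),
      IsSmallExt f → Function.Injective (cmp F h))
    (ξ : Family R resR F) (hd : Function.Injective (ξ.app (dual Λ k))) (A : Art Λ k) :
    Function.Injective (ξ.app A) := by
  refine surjective_induction (P := fun B A _ => Function.Injective (ξ.app A) → Function.Injective (ξ.app B))
    ?_ ?_ (toBase A) (surjective_toBase A) (fun x y _ => Subsingleton.elim x y)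
  · intro B A f hf hA x y e
    have h1 : HomSet.map f x = HomSet.map f y := hA (by rw [ξ.natural, ξ.natural, e])
    exact Subtype.ext (AlgHom.ext fun r => hf.1 (congrArg (fun t : HomSet R resR A => t.1 r) h1))
  · intro C B A g f hg _ ih hA y y' e
    have hy : HomSet.map g y = HomSet.map g y' := ih hA (by rw [ξ.natural, ξ.natural, e])
    obtain ⟨P, p₁, p₂, d, Δ, hP, hd', h₁, h₂, hΔ⟩ := exists_kernelPair hg
    obtain ⟨χ, rfl, rfl⟩ := exists_homSet_lift hP y y' hy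
    have hz : ξ.app P χ = ξ.app P (HomSet.map Δ (HomSet.map p₁ χ)) := by
      refine (injective_cmp_iff hP).1 (hF _ _ _ hP hg) _ _ ?_ ?_
      · rw [← ξ.natural, ← ξ.natural, homSet_map_map Δ p₁, h₁, homSet_map_id]
      · rw [← ξ.natural, ← ξ.natural, homSet_map_map Δ p₂, h₂, homSet_map_id, e]
    have hd2 : HomSet.map d χ = HomSet.map d (HomSet.map Δ (HomSet.map p₁ χ)) :=
      hd (by rw [ξ.natural, ξ.natural, hz])
    have hχ : χ = HomSet.map Δ (HomSet.map p₁ χ) := homSet_fibre_ext hd'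
      (by rw [homSet_map_map Δ p₁, h₁, homSet_map_id]) hd2
    conv_rhs => rw [hχ]
    rw [homSet_map_map Δ p₂, h₂, homSet_map_id]

omit [IsNoetherianRing Λ] [Module.Finite Λ k] in
lemma bijective_app_of_bijective {B A : Art Λ k} (ξ : Family R resR F) (f : B ⟶ A) (hf : Function.Bijective f)
    (h : Function.Bijective (ξ.app A)) : Function.Bijective (ξ.app B) := by
  refine ⟨fun x y e => ?_, fun y => ?_⟩
  · have h1 : HomSet.map f x = HomSet.map f y := h.1 (by rw [ξ.natural, ξ.natural, e])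
    exact Subtype.ext (AlgHom.ext fun r => hf.1 (congrArg (fun t : HomSet R resR A => t.1 r) h1))
  · obtain ⟨φ, hφ⟩ := h.2 (F.map f y)
    exact ⟨HomSet.map (invHom f hf) φ, by rw [ξ.natural, hφ, map_map, comp_invHom, map_id_apply]⟩

end Families

end Groth.Agent.ArtF85
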