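import Groth.Agent.ArtF85.CRingHom
import Groth.Agent.ArtF85.Free
import Groth.Agent.ArtF85.Torsor
import Mathlib.CategoryTheory.Functor.Const

/-!
# Lifting along surjections of coefficient rings, formal smoothness
-/

set_option autoImplicit false
set_option linter.style.haveILetI false

universe u v

open CategoryTheory

namespace Groth.Agent.ArtF85

open ArtFun ArtFun.Art

variable {Λ : Type u} {k : Type u} [CommRing Λ] [Field k] [Algebra Λ k]
variable {F : Art Λ k ⥤ Type v} {R : Type u} [CommRing R] [Algebra Λ R] {resR : R →ₐ[Λ] k}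

lemma map_maximalIdeal_eq_of_surjective {A' A : CRing Λ k} (g : A'.carrier →ₐ[Λ] A.carrier)
    (hg : A.res.comp g = A'.res) (hgs : Function.Surjective g) :
    (IsLocalRing.maximalIdeal A'.carrier).map g = IsLocalRing.maximalIdeal A.carrier := by
  refine le_antisymm (map_maximalIdeal_le_of_res g hg) fun a ha => ?_
  obtain ⟨b, rfl⟩ := hgs a
  refine Ideal.mem_map_of_mem g ((A'.mem_maximalIdeal_iff b).2 ?_)
  exact (AlgHom.congr_fun hg b).symm.trans ((A.mem_maximalIdeal_iff _).1 ha)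

/-- The next truncation of `A'` surjects onto the fibre product of the current one and the next
truncation of `A`. -/
lemma exists_trunc_square [IsNoetherianRing Λ] [Module.Finite Λ k] {A' A : CRing Λ k}
    (g : A'.carrier →ₐ[Λ] A.carrier) (hg : A.res.comp g = A'.res) (hgs : Function.Surjective g) (n : ℕ) :
    ∃ (C : Art Λ k) (c₁ : C ⟶ A'.trunc n) (c₂ : C ⟶ A.trunc (n + 1)) (u : A'.trunc (n + 1) ⟶ C),
      IsFibreProd c₁ c₂ (CRing.truncMapOfHom g hg n) (A.truncMap n) ∧ Function.Surjective u ∧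
        u ≫ c₁ = A'.truncMap n ∧ u ≫ c₂ = CRing.truncMapOfHom g hg (n + 1) := by
  obtain ⟨C, c₁, c₂, hC⟩ := exists_fibreProd (CRing.truncMapOfHom g hg n) (A.truncMap n)
    (truncMap_surjective A n)
  have hw := (CRing.truncMapOfHom_truncMap g hg n).symm
  refine ⟨C, c₁, c₂, fibreLift hC _ _ hw, hC, fun z => ?_, fibreLift_fst _ _ _ _, fibreLift_snd _ _ _ _⟩
  obtain ⟨a, ha⟩ := Ideal.Quotient.mk_surjective (c₁ z)
  obtain ⟨b, hb⟩ := Ideal.Quotient.mk_surjective (c₂ z)
  obtain ⟨b', rfl⟩ := hgs b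
  have hmem : g a - g b' ∈ CRing.mpow A n := by
    have h := hC.w_apply z
    rw [← ha, ← hb] at h
    exact Ideal.Quotient.eq.1 h
  rw [← map_sub, CRing.mpow, ← map_maximalIdeal_eq_of_surjective g hg hgs, ← Ideal.map_pow,
    Ideal.mem_map_iff_of_surjective g hgs] at hmem
  obtain ⟨e, he, heg⟩ := hmem
  rw [map_sub] at heg
  refine ⟨(A'.truncHom (n + 1)).1 (a - e), hC.inj _ _ ?_ ?_⟩
  · rw [← Art.comp_apply (fibreLift hC _ _ hw) c₁, fibreLift_fst, ← ha]
    refine Ideal.Quotient.eq.2 ?_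
    rw [sub_sub_cancel_left]
    exact neg_mem he
  · rw [← Art.comp_apply (fibreLift hC _ _ hw) c₂, fibreLift_snd, ← hb]
    refine congrArg (Ideal.Quotient.mk _) ?_
    change g (a - e) = g b'
    rw [map_sub, heg, sub_sub_cancel]

lemma along_toFormalElt {R' S : CRing Λ k} (ξ : Family R'.carrier R'.res F)
    (g : R'.carrier →ₐ[Λ] S.carrier) (hg : S.res.comp g = R'.res) :
    (ξ.along g hg).toFormalElt = ξ.toFormalElt.push g hg :=
  FormalElt.ext' fun n => ξ.natural (CRing.truncMapOfHom g hg n) (R'.truncHom n)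

/-- Formal versality along surjections of coefficient rings. -/
theorem exists_lift_formal [IsNoetherianRing Λ] [Module.Finite Λ k]
    (hRS : ∀ ⦃B A A₁ A₂ : Art Λ k⦄ (p₁ : B ⟶ A₁) (p₂ : B ⟶ A₂) (f₁ : A₁ ⟶ A) (f₂ : A₂ ⟶ A)
      (h : IsFibreProd p₁ p₂ f₁ f₂), Function.Surjective f₂ → Function.Injective (cmp F h))
    (ξ : Family R resR F) (hξ : IsVersal ξ)
    (A' A : CRing Λ k) (g : A'.carrier →ₐ[Λ] A.carrier) (hg : A.res.comp g = A'.res)
    (hgs : Function.Surjective g) (η' : FormalElt F A')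
    (φ : R →ₐ[Λ] A.carrier) (hφ : A.res.comp φ = resR)
    (hsq : (ξ.along φ hφ).toFormalElt = η'.push g hg) :
    ∃ (ψ : R →ₐ[Λ] A'.carrier) (hψ : A'.res.comp ψ = resR),
      g.comp ψ = φ ∧ (ξ.along ψ hψ).toFormalElt = η' := by
  let φn : ∀ n, HomSet R resR (A.trunc n) := fun n =>
    ⟨(A.truncHom n).1.comp φ, AlgHom.ext fun r =>
      (res_homSet_apply (A.truncHom n) (φ r)).trans (AlgHom.congr_fun hφ r)⟩
  have hφn : ∀ n, F.map (CRing.truncMapOfHom g hg n) (η'.elt n) = ξ.app _ (φn n) := fun n =>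
    (congrArg (fun w => w.elt n) hsq).symm
  have hgt : ∀ n, Function.Surjective (CRing.truncMapOfHom g hg n) := fun n x => by
    obtain ⟨a, rfl⟩ := Ideal.Quotient.mk_surjective x
    obtain ⟨a', rfl⟩ := hgs a
    exact ⟨(A'.truncHom n).1 a', rfl⟩
  obtain ⟨ψ₀, h₀, h₀'⟩ := hξ _ (hgt 0) (φn 0) (η'.elt 0) (hφn 0)
  let T : ℕ → Type u := fun n => HomSet R resR (A'.trunc n)
  let Good : ∀ n, T n → Prop := fun n ψ =>
    HomSet.map (CRing.truncMapOfHom g hg n) ψ = φn n ∧ ξ.app _ ψ = η'.elt n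
  have step : ∀ n (ψ : {ψ : T n // Good n ψ}),
      ∃ ψ' : {ψ : T (n + 1) // Good (n + 1) ψ}, HomSet.map (A'.truncMap n) ψ'.1 = ψ.1 := by
    intro n ψ
    obtain ⟨C, c₁, c₂, u, hC, hu, u₁, u₂⟩ := exists_trunc_square g hg hgs n
    obtain ⟨χ, hχ₁, hχ₂⟩ := exists_homSet_lift hC ψ.1 (φn (n + 1)) (by
      rw [ψ.2.1]
      exact homSet_ext fun r =>
        (congrArg (fun t : HomSet A.carrier A.res (A.trunc n) => t.1 (φ r)) (A.truncMap_truncHom n)).symm)
    have hy : F.map u (η'.elt (n + 1)) = ξ.app C χ := by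
      refine (injective_cmp_iff hC).1 (hRS _ _ _ _ hC (truncMap_surjective A n)) _ _ ?_ ?_
      · rw [map_map, u₁, η'.compat, ← ξ.natural, hχ₁, ψ.2.2]
      · rw [map_map, u₂, hφn, ← ξ.natural, hχ₂]
    obtain ⟨ψ', e₁, e₂⟩ := hξ u hu χ (η'.elt (n + 1)) hy
    refine ⟨⟨ψ', ?_, e₂⟩, ?_⟩
    · rw [← u₂, ← homSet_map_map, e₁, hχ₂]
    · rw [← u₁, ← homSet_map_map, e₁, hχ₁]
  choose next hnext using step
  let seq : ∀ n, {ψ : T n // Good n ψ} := Nat.rec ⟨ψ₀, h₀, h₀'⟩ (fun n ψ => next n ψ)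
  obtain ⟨ψ, hψ, hψn⟩ := exists_hom_of_compat A' (fun n => (seq n).1) (fun n => hnext n (seq n))
  refine ⟨ψ, hψ, AlgHom.ext fun r => ?_, FormalElt.ext' fun n => ?_⟩
  · refine (exists_unique_limit A (fun n => (A.truncHom n).1 (φ r)) fun n => by
      rw [← homSet_map_apply, A.truncMap_truncHom]).unique (fun n => ?_) (fun n => rfl)
    have h := congrArg (fun t : HomSet R resR (A.trunc n) => t.1 r) (seq n).2.1
    simp only [homSet_map_apply] at h
    rw [← hψn n r] at h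
    exact h
  · refine Eq.trans ?_ (seq n).2.2
    exact congrArg (ξ.app _) (homSet_ext (hψn n))

/-- The one-point functor. -/
def pointFunctor : Art Λ k ⥤ Type u := (Functor.const (Art Λ k)).obj PUnit.{u + 1}

lemma subsingleton_pointFunctor (A : Art Λ k) : Subsingleton ((pointFunctor (Λ := Λ) (k := k)).obj A) :=
  inferInstanceAs (Subsingleton PUnit.{u + 1})

/-- If `h_R` is smooth, a surjection onto `R` has a section. -/
theorem exists_section_of_isSmoothFunctor [IsNoetherianRing Λ] [Module.Finite Λ k] (S R : CRing Λ k)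
    (π : S.carrier →ₐ[Λ] R.carrier) (hπ : R.res.comp π = S.res) (hπs : Function.Surjective π)
    (hR' : IsSmoothFunctor (hR R.carrier R.res)) :
    ∃ s : R.carrier →ₐ[Λ] S.carrier, S.res.comp s = R.res ∧ π.comp s = AlgHom.id Λ R.carrier := by
  let ξ : Family R.carrier R.res (pointFunctor (Λ := Λ) (k := k)) :=
    { app := fun _ _ => PUnit.unit
      natural := fun _ _ => rfl }
  have hξ : IsVersal ξ := fun B A μ hμ φ y _ => by
    obtain ⟨ψ, hψ⟩ := hR' μ hμ φ
    exact ⟨ψ, hψ, @Subsingleton.elim _ (subsingleton_pointFunctor B) _ _⟩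
  obtain ⟨s, hs, h1, -⟩ := exists_lift_formal
    (fun B A A₁ A₂ p₁ p₂ f₁ f₂ h _ z w _ => @Subsingleton.elim _ (subsingleton_pointFunctor B) z w)
    ξ hξ S R π hπ hπs ⟨fun _ => PUnit.unit, fun _ => rfl⟩ (AlgHom.id Λ R.carrier) (AlgHom.comp_id _)
    (FormalElt.ext' fun n => @Subsingleton.elim _ (subsingleton_pointFunctor _) _ _)
  exact ⟨s, hs, h1⟩

/-- A map to an object is surjective when derivations are detected on its image. -/
theorem surjective_homSet {S : CRing Λ k} {A : Art Λ k} (φ : HomSet S.carrier S.res A)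
    (h : ∀ δ : A ⟶ dual Λ k, (∀ s, eps (δ (φ.1 s)) = 0) → ∀ a, eps (δ a) = 0) :
    Function.Surjective φ.1 := by
  obtain ⟨N, hN⟩ := exists_mpow_le_ker S φ
  let g : S.trunc N ⟶ A := (truncSys S).factor φ ((ker_truncHom S N).trans_le hN)
  have hg : HomSet.map g (S.truncHom N) = φ := (truncSys S).map_factor φ _
  have hs : Function.Surjective g := surjective_of_dual_ext g fun δ hδ => h δ fun s => by
    have := hδ ((S.truncHom N).1 s)
    rwa [← homSet_map_apply g, hg] at this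
  intro a
  obtain ⟨b, rfl⟩ := hs a
  obtain ⟨s, rfl⟩ := truncHom_surjective S N b
  exact ⟨s, (congrArg (fun ψ : HomSet S.carrier S.res A => ψ.1 s) hg).symm⟩

lemma exists_generators_sum [Module.Finite Λ k] :
    ∃ (r : ℕ) (c : Fin r → k), ∀ {κ : Type} (e : κ → k),
      Function.Surjective (MvPolynomial.aeval (R := Λ) (Sum.elim c e)) := by
  obtain ⟨r, c, hc⟩ := exists_generators (Λ := Λ) (k := k)
  refine ⟨r, c, fun {κ} e x => ?_⟩
  obtain ⟨q, rfl⟩ := hc 0 x
  refine ⟨MvPolynomial.rename (Sum.map id Fin.elim0) q, ?_⟩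
  rw [MvPolynomial.aeval_rename]
  refine congrArg (fun f => MvPolynomial.aeval f q) (funext ?_)
  rintro (i | i)
  · rfl
  · exact i.elim0

/-- Every coefficient ring is a quotient of a free one. -/
theorem exists_free_surjection [IsNoetherianRing Λ] [Module.Finite Λ k] (R : CRing Λ k) :
    ∃ (ι : Type) (_ : Finite ι) (c : ι → k) (S : FreeRing (Λ := Λ) c)
      (π : S.ring.carrier →ₐ[Λ] R.carrier),
      R.res.comp π = S.ring.res ∧ Function.Surjective π := by
  obtain ⟨s, hs⟩ := exists_finset_dual_ext R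
  obtain ⟨r, c, hc⟩ := exists_generators_sum (Λ := Λ) (k := k)
  choose l hl using fun i => R.res_surjective (c i)
  let e : Fin s.card → R.carrier := fun j => (s.equivFin.symm j : R.carrier)
  obtain ⟨S⟩ := exists_freeRing (Sum.elim c (fun j => R.res (e j))) (hc _)
  obtain ⟨π, hπ, hπX⟩ := S.liftCRing R (Sum.elim l e) (by rintro (i | j) <;> simp [hl])
  refine ⟨_, inferInstance, _, S, π, hπ, surjective_of_derivations π hπ fun δ hδ a => ?_⟩
  have h0 : HomSet.map δ (R.truncHom 1) = HomSet.map (zeroHom _) (R.truncHom 1) := by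
    refine hs _ _ fun x hx => ?_
    obtain ⟨j, rfl⟩ : ∃ j, e j = x := ⟨s.equivFin ⟨x, hx⟩, by simp [e]⟩
    rw [homSet_map_apply, homSet_map_apply, eps_zeroHom]
    have := hδ (S.X (Sum.inr j))
    rwa [hπX] at this
  obtain ⟨r', rfl⟩ := truncHom_surjective R 1 a
  exact (congrArg (fun t : HomSet R.carrier R.res (dual Λ k) => eps (t.1 r')) h0).trans (eps_zeroHom _)

theorem isSmoothFunctor_hR_iff_adic [IsNoetherianRing Λ] [Module.Finite Λ k] (R : CRing Λ k) :
    IsSmoothFunctor (hR R.carrier R.res) ↔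
      CAlgX.IsAdicFormallySmooth Λ R.carrier (IsLocalRing.maximalIdeal R.carrier) := by
  refine ⟨fun h A _ _ J hJ ψ hψ => ?_, fun h => ?_⟩
  · obtain ⟨ι, _, c, S, π, hπ, hπs⟩ := exists_free_surjection R
    obtain ⟨s, -, hs⟩ := exists_section_of_isSmoothFunctor S.ring R π hπ hπs h
    obtain ⟨N, hN⟩ := hψ
    obtain ⟨χ, hχ⟩ := S.adicSmooth A J hJ (ψ.comp π) ⟨N, fun x hx => by
      have h1 := Ideal.mem_map_of_mem π hx
      rw [Ideal.map_pow, map_maximalIdeal_eq_of_surjective π hπ hπs] at h1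
      exact hN _ h1⟩
    exact ⟨χ.comp s, by rw [← AlgHom.comp_assoc, hχ, AlgHom.comp_assoc, hs, AlgHom.comp_id]⟩
  · intro B A μ hμ
    refine surjective_induction (P := fun B A μ =>
      Function.Surjective ((hR R.carrier R.res).map μ)) ?_ ?_ μ hμ
    · intro B A μ hμ
      exact (map_bijective _ μ hμ).2
    · intro C B A g f hg _ ih φ
      obtain ⟨φ₁, rfl⟩ := ih φ
      suffices ∀ φ₁ : HomSet R.carrier R.res B, ∃ φ₂ : HomSet R.carrier R.res C, HomSet.map g φ₂ = φ₁ by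
        obtain ⟨φ₂, h₂⟩ := this φ₁
        exact ⟨φ₂, (homSet_map_map g f φ₂).symm.trans (congrArg (HomSet.map f) h₂)⟩
      intro φ₁
      have hJ : RingHom.ker g.toAlgHom ^ 2 = ⊥ := by
        rw [eq_bot_iff, pow_two, ← hg.2.2.2]
        exact Ideal.mul_mono_left (ker_le_maximalIdeal g)
      let e := Ideal.quotientKerAlgEquivOfSurjective (f := g.toAlgHom) hg.1
      obtain ⟨N, hN⟩ := exists_mpow_le_ker R φ₁
      obtain ⟨χ, hχ⟩ := h C (RingHom.ker g.toAlgHom) hJ (e.symm.toAlgHom.comp φ₁.1) ⟨N + 1, fun x hx => by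
        change e.symm (φ₁.1 x) = 0
        rw [RingHom.mem_ker.1 (hN hx), map_zero]⟩
      have hgχ : g.toAlgHom.comp χ = φ₁.1 := AlgHom.ext fun x => by
        have h1 := congrArg e (AlgHom.congr_fun hχ x)
        exact h1.trans (e.apply_symm_apply (φ₁.1 x))
      refine ⟨⟨χ, ?_⟩, Subtype.ext hgχ⟩
      rw [← g.res_comp, AlgHom.comp_assoc, hgχ]
      exact φ₁.2

/-- A versal family detects smoothness. -/
theorem isSmoothFunctor_iff_of_isVersal (h0 : H0 F) (ξ : Family R resR F) (hξ : IsVersal ξ) :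
    IsSmoothFunctor F ↔ IsSmoothFunctor (hR R resR) := by
  refine ⟨fun h B A μ hμ φ => ?_, fun h B A μ hμ x => ?_⟩
  · obtain ⟨y, hy⟩ := h μ hμ (ξ.app A φ)
    obtain ⟨ψ, hψ, -⟩ := hξ μ hμ φ y hy
    exact ⟨ψ, hψ⟩
  · obtain ⟨φ, rfl⟩ := surjective_app_of_isVersal h0 hξ A x
    obtain ⟨ψ, hψ⟩ := h μ hμ φ
    exact ⟨ξ.app B ψ, (ξ.natural μ ψ).symm.trans (congrArg (ξ.app A) hψ)⟩

end Groth.Agent.ArtF85
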