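import Groth.Agent.ArtF85.SmoothTan
import Mathlib.Algebra.Module.SpanRankOperations

/-!
# Limits of towers of objects with bounded embedding dimension
-/

set_option autoImplicit false
set_option linter.style.haveILetI false

universe u

open CategoryTheory

namespace Groth.Agent.ArtF85

open ArtFun ArtFun.Art

variable {Λ : Type u} {k : Type u} [CommRing Λ] [Field k] [Algebra Λ k]

/-- Derivations of an object along its augmentation. -/
def derSpace (A : Art Λ k) : Submodule k (A → k) where
  carrier := {δ | (∀ a b, δ (a + b) = δ a + δ b) ∧ (∀ (c : Λ) a, δ (c • a) = c • δ a) ∧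
    ∀ a b, δ (a * b) = A.res a * δ b + A.res b * δ a}
  zero_mem' := ⟨fun a b => by simp, fun c a => by simp, fun a b => by simp⟩
  add_mem' := fun {δ δ'} h h' => ⟨fun a b => by simp only [Pi.add_apply, h.1, h'.1]; ring,
    fun c a => by simp only [Pi.add_apply, h.2.1, h'.2.1, smul_add],
    fun a b => by simp only [Pi.add_apply, h.2.2, h'.2.2]; ring⟩
  smul_mem' := fun e δ h => ⟨fun a b => by simp only [Pi.smul_apply, h.1, smul_add],
    fun c a => by rw [Pi.smul_apply, Pi.smul_apply, h.2.1]; exact smul_comm e c (δ a),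
    fun a b => by simp only [Pi.smul_apply, smul_eq_mul, h.2.2]; ring⟩

/-- The linear map underlying a derivation. -/
def derLin {A : Art Λ k} (δ : derSpace A) : A →ₗ[Λ] k where
  toFun := δ.1
  map_add' := δ.2.1
  map_smul' := δ.2.2.1

/-- Pullback of derivations. -/
def derPull {B A : Art Λ k} (f : B ⟶ A) : derSpace A →ₗ[k] derSpace B where
  toFun δ := ⟨fun b => δ.1 (f b), fun a b => (congrArg δ.1 (map_add f.toAlgHom a b)).trans (δ.2.1 _ _),
    fun c a => (congrArg δ.1 (map_smul f.toAlgHom c a)).trans (δ.2.2.1 _ _),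
    fun a b => (congrArg δ.1 (map_mul f.toAlgHom a b)).trans (by rw [δ.2.2.2, res_app, res_app])⟩
  map_add' _ _ := rfl
  map_smul' _ _ := rfl

/-- A bound for the dimension of the space of derivations. -/
lemma derSpace_bound [Module.Finite Λ k] {r : ℕ} (c : Fin r → k)
    (hc : Submodule.span Λ (Set.range c) = ⊤) (A : Art Λ k) (d : ℕ)
    (hd : Module.finrank (IsLocalRing.ResidueField A) (IsLocalRing.CotangentSpace A) ≤ d) :
    Module.Finite k (derSpace A) ∧ Module.finrank k (derSpace A) ≤ r + d := by
  classical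
  choose l hl using fun i => A.res_surjective (c i)
  set G := (IsLocalRing.maximalIdeal A).generators
  have hfg : (IsLocalRing.maximalIdeal A).FG := IsNoetherian.noetherian _
  have hGfin : G.Finite := Submodule.FG.finite_generators hfg
  haveI := hGfin.fintype
  have hGcard : Fintype.card G ≤ d := by
    rw [← Set.toFinset_card, ← Set.ncard_eq_toFinset_card', Submodule.FG.generators_ncard hfg,
      IsLocalRing.spanFinrank_maximalIdeal_eq_finrank_cotangentSpace]
    exact hd
  let ev : derSpace A →ₗ[k] (Fin r ⊕ G → k) :=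
    { toFun := fun δ => Sum.elim (fun i => δ.1 (l i)) (fun g => δ.1 g)
      map_add' := fun δ δ' => by funext i; rcases i with i | i <;> rfl
      map_smul' := fun a δ => by funext i; rcases i with i | i <;> rfl }
  have hinj : Function.Injective ev := by
    refine (injective_iff_map_eq_zero ev).2 fun δ hδ => Subtype.ext (funext fun a => ?_)
    have hl0 : ∀ i, δ.1 (l i) = 0 := fun i => congrFun hδ (Sum.inl i)
    have hG0 : ∀ x ∈ G, δ.1 x = 0 := fun x hx => congrFun hδ (Sum.inr ⟨x, hx⟩)
    obtain ⟨co, hco⟩ := (Submodule.mem_span_range_iff_exists_fun Λ).1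
      (hc.symm ▸ Submodule.mem_top (x := A.res a))
    have hm : a - ∑ i, co i • l i ∈ IsLocalRing.maximalIdeal A := by
      rw [mem_maximalIdeal_iff, map_sub, ← hco, map_sum, sub_eq_zero]
      exact Finset.sum_congr rfl fun i _ => by rw [map_smul, hl]
    have key : ∀ x ∈ IsLocalRing.maximalIdeal A, δ.1 x = 0 ∧ A.res x = 0 := by
      intro x hx
      rw [← Submodule.span_generators (IsLocalRing.maximalIdeal A)] at hx
      induction hx using Submodule.span_induction with
      | mem x hx =>
        exact ⟨hG0 x hx, (mem_maximalIdeal_iff A x).1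
          (Submodule.span_generators (IsLocalRing.maximalIdeal A) ▸ Submodule.subset_span hx)⟩
      | zero => exact ⟨map_zero (derLin δ), map_zero _⟩
      | add x y _ _ h h' => exact ⟨by rw [δ.2.1, h.1, h'.1, add_zero], by rw [map_add, h.2, h'.2, add_zero]⟩
      | smul b x _ h =>
        rw [smul_eq_mul]
        exact ⟨by rw [δ.2.2.2, h.1, h.2, mul_zero, zero_mul, add_zero], by rw [map_mul, h.2, mul_zero]⟩
    have h1 : derLin δ (a - ∑ i, co i • l i) = 0 := (key _ hm).1
    rw [map_sub, map_sum, sub_eq_zero] at h1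
    change derLin δ a = 0
    rw [h1]
    exact Finset.sum_eq_zero fun i _ => by rw [map_smul]; exact (congrArg _ (hl0 i)).trans (smul_zero _)
  refine ⟨Module.Finite.of_injective ev hinj, ?_⟩
  calc Module.finrank k (derSpace A) ≤ Module.finrank k (Fin r ⊕ G → k) :=
        LinearMap.finrank_le_finrank_of_injective hinj
    _ = r + Fintype.card G := by simp
    _ ≤ r + d := by omega

variable [IsNoetherianRing Λ] [Module.Finite Λ k]

theorem exists_limit_system (A : ℕ → Art Λ k) (f : ∀ n, A (n + 1) ⟶ A n)
    (hf : ∀ n, Function.Surjective (f n)) (d : ℕ)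
    (hd : ∀ n, Module.finrank (IsLocalRing.ResidueField (A n)) (IsLocalRing.CotangentSpace (A n)) ≤ d) :
    ∃ (S : CRing Λ k) (π : ∀ n, HomSet S.carrier S.res (A n)),
      (∀ n, HomSet.map (f n) (π (n + 1)) = π n) ∧
      (∀ n, Function.Surjective (π n).1) ∧
      (∀ a : ∀ n, A n, (∀ n, f n (a (n + 1)) = a n) → ∃! s : S.carrier, ∀ n, (π n).1 s = a n) ∧
      (∀ n, ∃ N, RingHom.ker (π N).1 ≤ IsLocalRing.maximalIdeal S.carrier ^ n) ∧
      (∀ n, ∃ N, IsLocalRing.maximalIdeal S.carrier ^ N ≤ RingHom.ker (π n).1) := by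
  classical
  obtain ⟨r, c, hc⟩ := Submodule.fg_iff_exists_fin_generating_family.1
    (inferInstance : Module.Finite Λ k).fg_top
  have hfin := fun n => derSpace_bound c hc (A n) d (hd n)
  haveI := fun n => (hfin n).1
  have hpinj : ∀ n, Function.Injective (derPull (f n)) := fun n δ δ' e =>
    Subtype.ext (funext fun a => by
      obtain ⟨b, rfl⟩ := hf n a
      exact congrFun (congrArg Subtype.val e) b)
  let D : ℕ → ℕ := fun n => Module.finrank k (derSpace (A n))
  obtain ⟨n₀, hn₀⟩ : ∃ n₀, ∀ n, n₀ ≤ n → D n = D n₀ := by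
    have hmono : Monotone D := monotone_nat_of_le_succ fun n =>
      LinearMap.finrank_le_finrank_of_injective (hpinj n)
    obtain ⟨n₀, hn₀⟩ := Nat.findGreatest_spec (P := fun m => ∃ n, D n = m) (n := r + d)
      (hfin 0).2 ⟨0, rfl⟩
    refine ⟨n₀, fun n hn => le_antisymm ?_ (hmono hn)⟩
    rw [hn₀]
    exact Nat.le_findGreatest (hfin n).2 ⟨n, rfl⟩
  have hsurjD : ∀ n, n₀ ≤ n → Function.Surjective (derPull (f n)) := fun n hn => by
    have e : Module.finrank k (derSpace (A n)) = Module.finrank k (derSpace (A (n + 1))) :=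
      (hn₀ n hn).trans (hn₀ (n + 1) (by omega)).symm
    exact (LinearMap.injective_iff_surjective_of_finrank_eq_finrank e).1 (hpinj n)
  haveI := moduleFinite (A n₀)
  obtain ⟨m, g, hg⟩ := Submodule.fg_iff_exists_fin_generating_family.1
    (inferInstance : Module.Finite Λ (A n₀)).fg_top
  let down : ∀ (e : ℕ) (n : ℕ), A (n + e) ⟶ A n := fun e => Nat.rec (fun n => 𝟙 (A n))
    (fun e ih n => f (n + e) ≫ ih n) e
  choose up hup using fun n a => hf n a
  let hi : ∀ e : ℕ, Fin m → A (n₀ + e) := fun e => Nat.rec g (fun e ih j => up (n₀ + e) (ih j)) e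
  let seqv : ∀ n, Fin m → A n := fun n j =>
    down n₀ n ((congrArg (fun i => (A i).carrier) (Nat.add_comm n₀ n)).mp (hi n j))
  have hcast : ∀ {i i' : ℕ} (h : i = i') (h' : i + 1 = i' + 1) (x : A (i + 1)),
      f i' ((congrArg (fun j => (A j).carrier) h').mp x) = (congrArg (fun j => (A j).carrier) h).mp (f i x) := by
    intro i i' h h' x
    subst h
    rfl
  have hdownf : ∀ (e n : ℕ) (x : A (n + 1 + e)) (h : n + 1 + e = n + e + 1),
      f n (down e (n + 1) x) = down e n (f (n + e) ((congrArg (fun j => (A j).carrier) h).mp x)) := by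
    intro e
    induction e with
    | zero => intro n x h; rfl
    | succ e ih =>
      intro n x h
      change f n (down e (n + 1) (f (n + 1 + e) x)) =
        down e n (f (n + e) (f (n + (e + 1)) ((congrArg (fun j => (A j).carrier) h).mp x)))
      rw [ih n (f (n + 1 + e) x) (by omega)]
      refine congrArg (fun y => down e n (f (n + e) y)) ?_
      exact (hcast (show n + 1 + e = n + e + 1 by omega) h x).symm
  have hhi : ∀ e j, f (n₀ + e) (hi (e + 1) j) = hi e j := fun e j => hup (n₀ + e) (hi e j)
  have hseq : ∀ n j, f n (seqv (n + 1) j) = seqv n j := by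
    intro n j
    refine (hdownf n₀ n _ (by omega)).trans (congrArg (down n₀ n) ?_)
    have : ∀ {i i' l : ℕ} (h₁ : i + 1 = l) (h₂ : l = i' + 1) (h₃ : i = i') (x : A (i + 1)),
        f i' ((congrArg (fun j => (A j).carrier) h₂).mp ((congrArg (fun j => (A j).carrier) h₁).mp x)) =
          (congrArg (fun j => (A j).carrier) h₃).mp (f i x) := by
      intro i i' l h₁ h₂ h₃ x
      subst h₁ h₃
      rfl
    exact (this (show n₀ + n + 1 = n + 1 + n₀ by omega) (show n + 1 + n₀ = n + n₀ + 1 by omega)
      (Nat.add_comm n₀ n) (hi (n + 1) j)).trans (congrArg _ (hhi n j))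
  have hseq₀ : ∀ j, seqv n₀ j = g j := by
    have h1 : ∀ e j, down e n₀ (hi e j) = g j := by
      intro e
      induction e with
      | zero => intro j; rfl
      | succ e ih => intro j; exact (congrArg (down e n₀) (hhi e j)).trans (ih j)
    exact fun j => h1 n₀ j
  obtain ⟨r', c₀, hc₀⟩ := exists_generators_sum (Λ := Λ) (k := k)
  let up0 : ∀ n, Fin r' → A n := fun n => Nat.rec (fun i => ((A 0).res_surjective (c₀ i)).choose)
    (fun n ih i => up n (ih i)) n
  have hup0res : ∀ n i, (A n).res (up0 n i) = c₀ i := by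
    intro n
    induction n with
    | zero => exact fun i => ((A 0).res_surjective (c₀ i)).choose_spec
    | succ n ih =>
      intro i
      rw [← res_app (f n), hup]
      exact ih i
  let cX : Fin r' ⊕ Fin m → k := Sum.elim c₀ (fun j => (A 0).res (seqv 0 j))
  have hres : ∀ n j, (A n).res (seqv n j) = (A 0).res (seqv 0 j) := by
    intro n
    induction n with
    | zero => exact fun _ => rfl
    | succ n ih => intro j; exact ((res_app (f n) (seqv (n + 1) j)).symm.trans (congrArg (A n).res (hseq n j))).trans (ih j)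
  obtain ⟨F⟩ := exists_freeRing cX (hc₀ _)
  choose φ hφ using fun n => F.lift (A n) (Sum.elim (up0 n) (seqv n))
    (by rintro (i | j) <;> simp [cX, hup0res, hres])
  have hcompat : ∀ n, HomSet.map (f n) (φ (n + 1)) = φ n := fun n => F.hom_ext fun i => by
    rw [homSet_map_apply, hφ, hφ]
    rcases i with i | j
    · exact hup n _
    · exact hseq n j
  have hφs₀ : ∀ n, n₀ ≤ n → ∀ δ : A n ⟶ dual Λ k, (∀ s, eps (δ ((φ n).1 s)) = 0) → ∀ a, eps (δ a) = 0 := by
    intro n hn
    induction n, hn using Nat.le_induction with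
    | base =>
      intro δ hδ a
      obtain ⟨co, hco⟩ := (Submodule.mem_span_range_iff_exists_fun Λ).1 (hg.symm ▸ Submodule.mem_top (x := a))
      have h0 : ∀ j, eps (δ (g j)) = 0 := fun j => by
        have := hδ (F.X (Sum.inr j))
        rwa [hφ, Sum.elim_inr, hseq₀] at this
      rw [← hco, map_sum]
      refine Finset.sum_induction _ (fun x => eps x = 0) (fun x y hx hy => by rw [eps_add, hx, hy, add_zero])
        eps_zero fun j _ => ?_
      rw [map_smul, Algebra.smul_def, eps_mul, eps_algebraMap, h0, mul_zero, mul_zero, add_zero]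
    | succ n hn ih =>
      intro δ hδ a
      obtain ⟨δ', hδ'⟩ := hsurjD n hn ⟨fun x => eps (δ x), fun x y => by
          show eps (δ (x + y)) = eps (δ x) + eps (δ y)
          rw [map_add, eps_add],
        fun l x => by
          show eps (δ (l • x)) = l • eps (δ x)
          rw [map_smul, Algebra.smul_def l (δ x), eps_mul, eps_algebraMap, mul_zero, add_zero,
            AlgHom.commutes, Algebra.smul_def],
        fun x y => by
          show eps (δ (x * y)) = (A (n + 1)).res x * eps (δ y) + (A (n + 1)).res y * eps (δ x)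
          rw [map_mul, eps_mul, res_app, res_app]⟩
      have heq : ∀ x, eps (δ x) = δ'.1 (f n x) := fun x =>
        (congrFun (congrArg Subtype.val hδ') x).symm
      have h0 := ih (dualHom (derLin δ') δ'.2.2.2) (fun s => by
        change δ'.1 ((φ n).1 s) = 0
        rw [← hcompat n, homSet_map_apply, ← heq]
        exact hδ s) (f n a)
      rw [heq a]
      exact h0
  have hφs : ∀ n, Function.Surjective (φ n).1 := by
    have hmove : ∀ e n, Function.Surjective (φ (n + e)).1 → Function.Surjective (φ n).1 := by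
      intro e
      induction e with
      | zero => exact fun n h => h
      | succ e ih =>
        intro n h
        refine ih n fun y => ?_
        obtain ⟨z, rfl⟩ := hf (n + e) y
        obtain ⟨s, rfl⟩ := h z
        exact ⟨s, (congrArg (fun t : HomSet F.ring.carrier F.ring.res (A (n + e)) => t.1 s) (hcompat (n + e))).symm⟩
    exact fun n => hmove n₀ n (surjective_homSet (φ (n + n₀)) (hφs₀ (n + n₀) (Nat.le_add_left n₀ n)))
  have hJ : Antitone fun i => RingHom.ker (φ i).1 := antitone_nat_of_succ_le fun i s hs => by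
    rw [RingHom.mem_ker] at hs ⊢
    rw [← hcompat i, homSet_map_apply, hs, map_zero]
  set J := ⨅ i, RingHom.ker (φ i).1 with hJdef
  have hJm : J ≤ IsLocalRing.maximalIdeal F.ring.carrier := fun a ha => by
    rw [CRing.mem_maximalIdeal_iff, ← res_homSet_apply (φ 0) a,
      RingHom.mem_ker.1 ((iInf_le _ 0 : J ≤ _) ha), map_zero]
  let S := cringQuot F.ring J hJm
  let π : ∀ n, HomSet S.carrier S.res (A n) := fun n => descend hJm (φ n) (iInf_le _ n)
  have hπc : ∀ n, HomSet.map (f n) (π (n + 1)) = π n := fun n => homSet_ext fun x => by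
    obtain ⟨x, rfl⟩ := cringMk_surjective F.ring J hJm x
    exact congrArg (fun t : HomSet F.ring.carrier F.ring.res (A n) => t.1 x) (hcompat n)
  have hπs : ∀ n, Function.Surjective (π n).1 := fun n a => by
    obtain ⟨s, rfl⟩ := hφs n a
    exact ⟨cringMk F.ring J hJm s, rfl⟩
  have hker : ∀ N, ∃ i, RingHom.ker (π i).1 ≤ IsLocalRing.maximalIdeal S.carrier ^ N := by
    intro N
    obtain ⟨i, hi⟩ := exists_le_sup_mpow (fun i => RingHom.ker (φ i).1) hJ N
    refine ⟨i, fun x hx => ?_⟩
    obtain ⟨x, rfl⟩ := cringMk_surjective F.ring J hJm x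
    obtain ⟨j, hj, y, hy, rfl⟩ := Submodule.mem_sup.1 (hi (RingHom.mem_ker.2 (RingHom.mem_ker.1 hx)))
    have hj0 : cringMk F.ring J hJm j = 0 := Ideal.Quotient.eq_zero_iff_mem.2 hj
    rw [map_add, hj0, zero_add]
    have := Ideal.mem_map_of_mem (cringMk F.ring J hJm)
      (Ideal.pow_le_pow_right (Nat.le_succ N) hy : y ∈ IsLocalRing.maximalIdeal F.ring.carrier ^ N)
    rw [Ideal.map_pow] at this
    exact Ideal.pow_right_mono (map_maximalIdeal_le_of_res _ (res_comp_cringMk F.ring J hJm)) N this
  refine ⟨S, π, hπc, hπs, fun a ha => ?_, hker, fun n => ?_⟩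
  · have hanti : ∀ {i j}, i ≤ j → RingHom.ker (π j).1 ≤ RingHom.ker (π i).1 := fun {i j} hij =>
      antitone_nat_of_succ_le (f := fun i => RingHom.ker (π i).1) (fun i x hx => by
        rw [RingHom.mem_ker] at hx ⊢
        rw [← hπc i, homSet_map_apply, hx, map_zero]) hij
    choose s hs using fun n => hπs n (a n)
    choose ii hii using fun N => hker N
    let nn : ℕ → ℕ := fun N => ∑ i ∈ Finset.range (N + 1), (ii (i + 1) + 1)
    have hnn : ∀ N, ii (N + 1) ≤ nn N := fun N => (Nat.le_succ _).trans
      (Finset.single_le_sum (f := fun i => ii (i + 1) + 1) (fun _ _ => Nat.zero_le _) (Finset.self_mem_range_succ N))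
    have hnnge : ∀ N, N ≤ nn N := fun N => by
      have h := Finset.sum_le_sum (s := Finset.range (N + 1)) (f := fun _ => 1) (g := fun i => ii (i + 1) + 1)
        (fun i _ => Nat.le_add_left 1 _)
      simp at h
      exact le_trans (Nat.le_succ N) (by simpa [nn] using h)
    have hnnmono : ∀ N, nn N ≤ nn (N + 1) := fun N =>
      Finset.sum_le_sum_of_subset (fun i hi => by simp only [Finset.mem_range] at hi ⊢; omega)
    have hval : ∀ i j, i ≤ j → (π i).1 (s j) = a i := by
      intro i j hij
      induction j, hij using Nat.le_induction with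
      | base => exact hs i
      | succ j hij ih =>
        have h1 : s (j + 1) - s j ∈ RingHom.ker (π j).1 := by
          rw [RingHom.mem_ker, map_sub, hs j, ← hπc j, homSet_map_apply, hs (j + 1), ha j, sub_self]
        have h2 := RingHom.mem_ker.1 (hanti hij h1)
        rw [map_sub, sub_eq_zero] at h2
        rw [h2, ih]
    obtain ⟨L, hL, -⟩ := exists_unique_limit S (fun N => (S.truncHom N).1 (s (nn N))) (fun N => by
      rw [← homSet_map_apply, S.truncMap_truncHom, ← sub_eq_zero, ← map_sub, ← RingHom.mem_ker, ker_truncHom]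
      have h1 : s (nn (N + 1)) - s (nn N) ∈ RingHom.ker (π (nn N)).1 := by
        rw [RingHom.mem_ker, map_sub, hs, hval _ _ (hnnmono N), sub_self]
      exact (hanti (hnn N)).trans (hii (N + 1)) h1)
    refine ⟨L, fun n => ?_, fun y hy => ?_⟩
    · obtain ⟨M, hM⟩ := exists_mpow_le_ker S (π n)
      have h1 : L - s (nn (max M n)) ∈ CRing.mpow S (max M n) := by
        rw [← ker_truncHom, RingHom.mem_ker, map_sub, hL, sub_self]
      have h2 := RingHom.mem_ker.1 (hM (Ideal.pow_le_pow_right (Nat.succ_le_succ (le_max_left M n)) h1))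
      rw [map_sub, sub_eq_zero] at h2
      rw [h2]
      exact hval _ _ ((le_max_right M n).trans (hnnge _))
    · haveI := S.isAdicComplete
      refine sub_eq_zero.1 (IsHausdorff.haus (I := IsLocalRing.maximalIdeal S.carrier) inferInstance _ fun N => ?_)
      rw [SModEq.zero, smul_eq_mul, Ideal.mul_top]
      obtain ⟨M, hM⟩ := exists_mpow_le_ker S (π (ii N))
      have h1 : L - s (nn (max M (ii N))) ∈ CRing.mpow S (max M (ii N)) := by
        rw [← ker_truncHom, RingHom.mem_ker, map_sub, hL, sub_self]
      have h2 := RingHom.mem_ker.1 (hM (Ideal.pow_le_pow_right (Nat.succ_le_succ (le_max_left _ _)) h1))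
      rw [map_sub, sub_eq_zero] at h2
      refine hii N (RingHom.mem_ker.2 ?_)
      rw [map_sub, hy, h2, hval _ _ ((le_max_right M (ii N)).trans (hnnge _)), sub_self]
  · obtain ⟨M, hM⟩ := exists_mpow_le_ker S (π n)
    exact ⟨M + 1, hM⟩

end Groth.Agent.ArtF85
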