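import Groth.Agent.ArtF85.Cond
import Mathlib.CategoryTheory.Limits.Types.Pullbacks
import Mathlib.CategoryTheory.Limits.Types.Products
import Mathlib.CategoryTheory.Limits.FunctorCategory.Basic
import Mathlib.CategoryTheory.Limits.Preserves.Shapes.BinaryProducts
import Mathlib.CategoryTheory.Limits.Preserves.Shapes.Pullbacks
import Mathlib.CategoryTheory.Limits.Shapes.Pullback.IsPullback.Basic

/-!
# Pointwise description of pullbacks and products of functors of Artin rings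
-/

set_option autoImplicit false

universe u v

open CategoryTheory CategoryTheory.Limits

namespace Groth.Agent.ArtF85

open ArtFun ArtFun.Art

variable {Λ : Type u} {k : Type u} [CommRing Λ] [Field k] [Algebra Λ k]
variable {F G H : Art Λ k ⥤ Type v} (φ : F ⟶ G) (ψ : H ⟶ G)

lemma pullback_w_apply (A : Art Λ k) (z : (pullback φ ψ).obj A) :
    φ.app A ((pullback.fst φ ψ).app A z) = ψ.app A ((pullback.snd φ ψ).app A z) :=
  ConcreteCategory.congr_hom (congrArg (fun t : pullback φ ψ ⟶ G => t.app A) pullback.condition) z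

lemma pullback_isPullback_app (A : Art Λ k) :
    IsPullback ((pullback.fst φ ψ).app A) ((pullback.snd φ ψ).app A) (φ.app A) (ψ.app A) :=
  (IsPullback.of_hasPullback φ ψ).map ((evaluation (Art Λ k) (Type v)).obj A)

lemma pullback_exists (A : Art Λ k) (x : F.obj A) (y : H.obj A) (e : φ.app A x = ψ.app A y) :
    ∃ z, (pullback.fst φ ψ).app A z = x ∧ (pullback.snd φ ψ).app A z = y :=
  Types.exists_of_isPullback (pullback_isPullback_app φ ψ A) x y e

lemma pullback_ext (A : Art Λ k) {z w : (pullback φ ψ).obj A}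
    (h₁ : (pullback.fst φ ψ).app A z = (pullback.fst φ ψ).app A w)
    (h₂ : (pullback.snd φ ψ).app A z = (pullback.snd φ ψ).app A w) : z = w :=
  Types.ext_of_isPullback (pullback_isPullback_app φ ψ A) h₁ h₂

lemma isSmooth_pullback_snd (hφ : IsSmooth φ) : IsSmooth (pullback.snd φ ψ) := by
  rw [isSmooth_iff] at *
  intro B A μ hμ x y e
  obtain ⟨z, hz₁, hz₂⟩ := hφ μ hμ ((pullback.fst φ ψ).app A x) (ψ.app B y)
    (by rw [pullback_w_apply, e, ← NatTrans.naturality_apply ψ])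
  obtain ⟨w, hw₁, hw₂⟩ := pullback_exists φ ψ B z y hz₂
  refine ⟨w, pullback_ext φ ψ A ?_ ?_, hw₂⟩
  · rw [NatTrans.naturality_apply (pullback.fst φ ψ), hw₁, hz₁]
  · rw [NatTrans.naturality_apply (pullback.snd φ ψ), hw₂, e]

lemma prod_exists (A : Art Λ k) (x : F.obj A) (y : G.obj A) :
    ∃ z, (prod.fst : F ⨯ G ⟶ F).app A z = x ∧ (prod.snd : F ⨯ G ⟶ G).app A z = y := by
  have hl := mapIsLimitOfPreservesOfIsLimit ((evaluation (Art Λ k) (Type v)).obj A) _ _
    (prodIsProd F G)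
  obtain ⟨l, h₁, h₂⟩ := BinaryFan.IsLimit.lift' hl (↾fun _ : PUnit => x) (↾fun _ => y)
  exact ⟨l PUnit.unit, ConcreteCategory.congr_hom h₁ PUnit.unit,
    ConcreteCategory.congr_hom h₂ PUnit.unit⟩

lemma prod_ext (A : Art Λ k) {z w : (F ⨯ G).obj A}
    (h₁ : (prod.fst : F ⨯ G ⟶ F).app A z = (prod.fst : F ⨯ G ⟶ F).app A w)
    (h₂ : (prod.snd : F ⨯ G ⟶ G).app A z = (prod.snd : F ⨯ G ⟶ G).app A w) : z = w := by
  have hl := mapIsLimitOfPreservesOfIsLimit ((evaluation (Art Λ k) (Type v)).obj A) _ _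
    (prodIsProd F G)
  have := BinaryFan.IsLimit.hom_ext hl (f := ↾fun _ : PUnit => z) (g := ↾fun _ => w)
    (ConcreteCategory.hom_ext _ _ fun _ => h₁) (ConcreteCategory.hom_ext _ _ fun _ => h₂)
  exact ConcreteCategory.congr_hom this PUnit.unit

lemma isSmoothFunctor_prod (hF : IsSmoothFunctor F) (hG : IsSmoothFunctor G) :
    IsSmoothFunctor (F ⨯ G) := by
  intro B A μ hμ z
  obtain ⟨x, hx⟩ := hF μ hμ ((prod.fst : F ⨯ G ⟶ F).app A z)
  obtain ⟨y, hy⟩ := hG μ hμ ((prod.snd : F ⨯ G ⟶ G).app A z)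
  obtain ⟨w, hw₁, hw₂⟩ := prod_exists B x y
  refine ⟨w, prod_ext A ?_ ?_⟩
  · rw [NatTrans.naturality_apply (prod.fst : F ⨯ G ⟶ F), hw₁, hx]
  · rw [NatTrans.naturality_apply (prod.snd : F ⨯ G ⟶ G), hw₂, hy]

end Groth.Agent.ArtF85
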