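import Mathlib.Algebra.Category.FGModuleCat.Basic
import Mathlib.Algebra.Category.ModuleCat.Monoidal.Basic
import Mathlib.CategoryTheory.Linear.LinearFunctor
import Mathlib.LinearAlgebra.FiniteDimensional.Basic

/-!
Linear functors on finite-dimensional vector spaces.
-/

set_option autoImplicit false

universe u

open CategoryTheory TensorProduct

namespace Groth.Agent.ArtF85.LinFunctor

variable (K : Type u) [Field K] (L : FGModuleCat.{u} K ⥤ ModuleCat.{u} K) [L.Additive] [Functor.Linear K L]

/-- The map `K → V` sending `1` to `v`. -/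
noncomputable def pt {V : FGModuleCat.{u} K} (v : V) : FGModuleCat.of K K ⟶ V :=
  FGModuleCat.ofHom (LinearMap.toSpanSingleton K V v)

theorem pt_apply {V : FGModuleCat.{u} K} (v : V) (a : K) : (pt K v).hom.hom a = a • v := rfl

theorem hom_sum' {V W : FGModuleCat.{u} K} {ι : Type*} (s : Finset ι) (f : ι → (V ⟶ W)) (v : V) :
    (∑ i ∈ s, f i).hom.hom v = ∑ i ∈ s, (f i).hom.hom v := by
  classical
  induction s using Finset.induction with
  | empty => simp only [Finset.sum_empty]; rfl
  | @insert a s ha ih =>
    simp only [Finset.sum_insert ha]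
    rw [← ih]
    rfl

theorem pt_add {V : FGModuleCat.{u} K} (v w : V) : pt K (v + w) = pt K v + pt K w :=
  FGModuleCat.hom_ext (LinearMap.ext fun a => (smul_add a v w))

theorem pt_smul {V : FGModuleCat.{u} K} (c : K) (v : V) : pt K (c • v) = c • pt K v :=
  FGModuleCat.hom_ext (LinearMap.ext fun a => (smul_comm a c v))

/-- `x ⊗ v ↦ L (pt v) x`. -/
noncomputable def toL (V : FGModuleCat.{u} K) : L.obj (FGModuleCat.of K K) ⊗[K] V →ₗ[K] L.obj V :=
  TensorProduct.lift
    (LinearMap.mk₂ K (fun x v => L.map (pt K v) x)
      (fun x y v => map_add _ x y) (fun c x v => map_smul _ c x)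
      (fun x v w => by
        rw [pt_add, L.map_add]
        rfl)
      (fun c x v => by
        rw [pt_smul, L.map_smul]
        rfl))

theorem toL_tmul (V : FGModuleCat.{u} K) (x : L.obj (FGModuleCat.of K K)) (v : V) :
    toL K L V (x ⊗ₜ[K] v) = L.map (pt K v) x := TensorProduct.lift.tmul x v

theorem bijective_toL (V : FGModuleCat.{u} K) : Function.Bijective (toL K L V) := by
  classical
  let b := Module.finBasis K V
  let co : Fin (Module.finrank K V) → (V ⟶ FGModuleCat.of K K) := fun i => FGModuleCat.ofHom (b.coord i)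
  let inv : L.obj V →ₗ[K] L.obj (FGModuleCat.of K K) ⊗[K] V :=
    { toFun := fun y => ∑ i, L.map (co i) y ⊗ₜ[K] b i
      map_add' := fun y z => by simp only [map_add, TensorProduct.add_tmul, Finset.sum_add_distrib]
      map_smul' := fun c y => by
        simp only [map_smul, RingHom.id_apply, Finset.smul_sum]
        exact Finset.sum_congr rfl fun i _ => (TensorProduct.smul_tmul' c _ _).symm }
  refine Function.bijective_iff_has_inverse.2 ⟨inv, fun t => ?_, fun y => ?_⟩
  · induction t using TensorProduct.induction_on with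
    | zero => simp
    | tmul x v =>
      rw [toL_tmul]
      change ∑ i, L.map (co i) (L.map (pt K v) x) ⊗ₜ[K] b i = x ⊗ₜ[K] v
      have h : ∀ i, L.map (co i) (L.map (pt K v) x) = b.coord i v • x := fun i => by
        rw [← CategoryTheory.comp_apply, ← L.map_comp,
          show pt K v ≫ co i = b.coord i v • 𝟙 (FGModuleCat.of K K) from FGModuleCat.hom_ext (LinearMap.ext fun a => by
            change b.coord i (a • v) = b.coord i v • a
            rw [map_smul, smul_eq_mul, smul_eq_mul, mul_comm]),
          L.map_smul, L.map_id]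
        rfl
      simp only [h, TensorProduct.smul_tmul, ← TensorProduct.tmul_sum]
      congr 1
      simpa using b.sum_repr v
    | add s t hs ht => rw [map_add, map_add, hs, ht]
  · change toL K L V (∑ i, L.map (co i) y ⊗ₜ[K] b i) = y
    rw [map_sum]
    simp only [toL_tmul, ← CategoryTheory.comp_apply, ← L.map_comp]
    have hid : ∑ i, (co i ≫ pt K (b i)) = 𝟙 V := by
      refine FGModuleCat.hom_ext (LinearMap.ext fun v => ?_)
      rw [hom_sum']
      exact b.sum_repr v
    have := congrArg (fun φ => L.map φ y) hid
    simp only [L.map_sum, L.map_id] at this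
    simpa using this

theorem nonempty_iso :
    Nonempty (L ≅ (ModuleCat.isFG.{u} K).ι ⋙ MonoidalCategory.tensorLeft (L.obj (FGModuleCat.of K K))) := by
  refine ⟨(NatIso.ofComponents (fun V => (LinearEquiv.ofBijective (toL K L V) (bijective_toL K L V)).toModuleIso)
    fun {V W} g => ?_).symm⟩
  apply ModuleCat.hom_ext
  apply TensorProduct.ext'
  intro x v
  change toL K L W (x ⊗ₜ[K] g v) = L.map g (toL K L V (x ⊗ₜ[K] v))
  rw [toL_tmul, toL_tmul, ← CategoryTheory.comp_apply, ← L.map_comp]
  refine congrArg (fun φ => L.map φ x) (FGModuleCat.hom_ext (LinearMap.ext fun a => ?_))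
  exact (map_smul g.hom.hom a v).symm

end Groth.Agent.ArtF85.LinFunctor
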