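import Groth.Agent.ArtF85.Free
import Groth.Agent.CAlg6.PSEndo

/-!
# Power series rings over coefficient rings
-/

set_option autoImplicit false
set_option linter.style.haveILetI false

universe u

namespace Groth.Agent.ArtF85

open ArtFun ArtFun.Art MvPowerSeries

variable {Λ : Type u} {k : Type u} [CommRing Λ] [Field k] [Algebra Λ k] (R' : CRing Λ k) (n : ℕ)

/-- The ideal of the variables. -/
noncomputable abbrev varIdeal : Ideal (MvPowerSeries (Fin n) R'.carrier) := Ideal.span (Set.range MvPowerSeries.X)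

variable {R'} {n}

lemma mem_varIdeal_pow_of_ordGE {N : ℕ} {f : MvPowerSeries (Fin n) R'.carrier} (h : CAlg6.OrdGE N f) :
    f ∈ varIdeal R' n ^ N := by
  induction N generalizing f with
  | zero => simp
  | succ N ih =>
    obtain ⟨g, hg, rfl⟩ := CAlg6.exists_decomp h
    refine Submodule.sum_mem _ fun i _ => ?_
    rw [pow_succ']
    exact Ideal.mul_mem_mul (Ideal.subset_span ⟨i, rfl⟩) (ih (hg i))

lemma constantCoeff_eq_zero_of_mem {f : MvPowerSeries (Fin n) R'.carrier} (h : f ∈ varIdeal R' n) :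
    constantCoeff f = 0 := by
  refine (Ideal.span_le.2 ?_ : varIdeal R' n ≤ RingHom.ker constantCoeff) h
  rintro _ ⟨i, rfl⟩
  exact constantCoeff_X i

lemma mem_varIdeal_iff {f : MvPowerSeries (Fin n) R'.carrier} : f ∈ varIdeal R' n ↔ constantCoeff f = 0 := by
  refine ⟨constantCoeff_eq_zero_of_mem, fun h => ?_⟩
  have := mem_varIdeal_pow_of_ordGE (N := 1) (CAlg6.ordGE_one_iff.2 h)
  rwa [pow_one] at this

lemma ps_mem_maximalIdeal_iff {f : MvPowerSeries (Fin n) R'.carrier} :
    f ∈ IsLocalRing.maximalIdeal (MvPowerSeries (Fin n) R'.carrier) ↔ R'.res (constantCoeff f) = 0 := by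
  rw [← R'.mem_maximalIdeal_iff, IsLocalRing.mem_maximalIdeal, IsLocalRing.mem_maximalIdeal,
    mem_nonunits_iff, mem_nonunits_iff, isUnit_iff_constantCoeff]

variable (R') (n)

lemma isAdicComplete_ps :
    IsAdicComplete (IsLocalRing.maximalIdeal (MvPowerSeries (Fin n) R'.carrier))
      (MvPowerSeries (Fin n) R'.carrier) := by
  let cc : MvPowerSeries (Fin n) R'.carrier →+* R'.carrier := constantCoeff
  have hcc : Function.Surjective cc := fun a => ⟨C a, constantCoeff_C a⟩
  have hker : RingHom.ker cc = varIdeal R' n := Ideal.ext fun f => mem_varIdeal_iff.symm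
  let e : (MvPowerSeries (Fin n) R'.carrier ⧸ varIdeal R' n) ≃+* R'.carrier :=
    (Ideal.quotEquivOfEq hker.symm).trans (RingHom.quotientKerEquivOfSurjective hcc)
  have hmap : ((IsLocalRing.maximalIdeal (MvPowerSeries (Fin n) R'.carrier)).map
      (Ideal.Quotient.mk (varIdeal R' n))).map e = IsLocalRing.maximalIdeal R'.carrier := by
    change ((IsLocalRing.maximalIdeal (MvPowerSeries (Fin n) R'.carrier)).map
      (Ideal.Quotient.mk (varIdeal R' n))).map e.toRingHom = _
    rw [Ideal.map_map]
    ext a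
    rw [Ideal.mem_map_iff_of_surjective (e.toRingHom.comp (Ideal.Quotient.mk (varIdeal R' n))) (e.surjective.comp Ideal.Quotient.mk_surjective),
      R'.mem_maximalIdeal_iff]
    constructor
    · rintro ⟨f, hf, rfl⟩
      exact ps_mem_maximalIdeal_iff.1 hf
    · intro ha
      exact ⟨C a, ps_mem_maximalIdeal_iff.2 (by rwa [constantCoeff_C]), constantCoeff_C a⟩
  haveI := R'.isAdicComplete
  haveI : IsAdicComplete ((IsLocalRing.maximalIdeal (MvPowerSeries (Fin n) R'.carrier)).map
      (Ideal.Quotient.mk (varIdeal R' n))) (MvPowerSeries (Fin n) R'.carrier ⧸ varIdeal R' n) := by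
    rw [← IsAdicComplete.congr_ringEquiv _ e, hmap]
    infer_instance
  exact CAlg1.isAdicComplete_of_isAdicComplete_quotient (varIdeal R' n) _

/-- The augmentation of a power series ring. -/
noncomputable def psRes : MvPowerSeries (Fin n) R'.carrier →ₐ[Λ] k :=
  { R'.res.toRingHom.comp constantCoeff with
    commutes' := fun l => by
      change R'.res (constantCoeff (algebraMap Λ (MvPowerSeries (Fin n) R'.carrier) l)) = _
      rw [MvPowerSeries.algebraMap_apply, constantCoeff_C, AlgHom.commutes] }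

lemma psRes_apply (f : MvPowerSeries (Fin n) R'.carrier) : psRes R' n f = R'.res (constantCoeff f) := rfl

lemma psRes_surjective : Function.Surjective (psRes R' n) := fun c => by
  obtain ⟨a, rfl⟩ := R'.res_surjective c
  exact ⟨C a, by rw [psRes_apply, constantCoeff_C]⟩

/-- `R'[[X₁, …, Xₙ]]` as a coefficient ring. -/
noncomputable def psRing : CRing Λ k :=
  { carrier := MvPowerSeries (Fin n) R'.carrier
    res := psRes R' n
    res_surjective := psRes_surjective R' n
    isAdicComplete := isAdicComplete_ps R' n }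

/-- The constants. -/
noncomputable def psC : R'.carrier →ₐ[Λ] (psRing R' n).carrier :=
  { (C : R'.carrier →+* MvPowerSeries (Fin n) R'.carrier) with
    commutes' := fun l => (MvPowerSeries.algebraMap_apply (r := l)).symm }

lemma res_comp_psC : (psRing R' n).res.comp (psC R' n) = R'.res :=
  AlgHom.ext fun a => by
    change R'.res (constantCoeff (C a)) = _
    rw [constantCoeff_C]

/-- The variables. -/
noncomputable def psX (i : Fin n) : (psRing R' n).carrier := (X i : MvPowerSeries (Fin n) R'.carrier)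

lemma res_psX (i : Fin n) : (psRing R' n).res (psX R' n i) = 0 :=
  (congrArg R'.res (constantCoeff_X i)).trans (map_zero _)

variable {R'} {n}

lemma sub_coe_truncTotal_mem (f : MvPowerSeries (Fin n) R'.carrier) (j : ℕ) :
    f - ((truncTotal j f : MvPolynomial (Fin n) R'.carrier) : MvPowerSeries (Fin n) R'.carrier) ∈
      varIdeal R' n ^ j := by
  refine mem_varIdeal_pow_of_ordGE fun d hd => ?_
  rw [map_sub, MvPolynomial.coeff_coe, coeff_truncTotal _ hd, sub_self]

/-- Maps out of a power series ring. -/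
theorem exists_psHom (T : CRing Λ k) (g : R'.carrier →ₐ[Λ] T.carrier) (y : Fin n → T.carrier)
    (hy : ∀ i, T.res (y i) = 0) (hg : T.res.comp g = R'.res) :
    ∃ G : (psRing R' n).carrier →ₐ[Λ] T.carrier, T.res.comp G = (psRing R' n).res ∧
      G.comp (psC R' n) = g ∧ ∀ i, G (psX R' n i) = y i := by
  haveI := T.isAdicComplete
  let ev : MvPolynomial (Fin n) R'.carrier →ₐ[Λ] T.carrier := MvPolynomial.aevalTower g y
  have hev : ∀ j, MvPolynomial.idealOfVars (Fin n) R'.carrier ^ j ≤
      (IsLocalRing.maximalIdeal T.carrier ^ j).comap ev := fun j => by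
    refine (Ideal.pow_right_mono ?_ j).trans (Ideal.le_comap_pow _ _)
    rw [MvPolynomial.idealOfVars, Ideal.span_le]
    rintro _ ⟨i, rfl⟩
    change ev (MvPolynomial.X i) ∈ IsLocalRing.maximalIdeal T.carrier
    rw [MvPolynomial.aevalTower_X, T.mem_maximalIdeal_iff]
    exact hy i
  let q : ∀ j, (MvPolynomial (Fin n) R'.carrier ⧸ MvPolynomial.idealOfVars (Fin n) R'.carrier ^ j) →ₐ[Λ]
      T.carrier ⧸ IsLocalRing.maximalIdeal T.carrier ^ j := fun j =>
    Ideal.Quotient.liftₐ _ ((Ideal.Quotient.mkₐ Λ _).comp ev) fun a ha =>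
      Ideal.Quotient.eq_zero_iff_mem.2 (hev j ha)
  haveI : IsScalarTower Λ (MvPolynomial (Fin n) R'.carrier) (MvPowerSeries (Fin n) R'.carrier) :=
    IsScalarTower.of_algebraMap_eq fun l => by
      simp [MvPowerSeries.algebraMap_apply', MvPolynomial.algebraMap_apply, MvPowerSeries.algebraMap_apply,
        MvPolynomial.coe_C]
  let f : ∀ j, MvPowerSeries (Fin n) R'.carrier →ₐ[Λ] T.carrier ⧸ IsLocalRing.maximalIdeal T.carrier ^ j :=
    fun j => (q j).comp ((truncTotalAlgHom (Fin n) R'.carrier j).restrictScalars Λ)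
  have hf : ∀ j (x : MvPowerSeries (Fin n) R'.carrier),
      f j x = Ideal.Quotient.mk _ (ev (truncTotal j x)) := fun j x => rfl
  have hcompat : ∀ {a b : ℕ} (h : a ≤ b),
      (Ideal.Quotient.factorₐ Λ (Ideal.pow_le_pow_right h)).comp (f b) = f a := fun {a b} h =>
    AlgHom.ext fun x => by
      rw [AlgHom.comp_apply, hf, hf, Ideal.Quotient.factorₐ_apply, Ideal.Quotient.factor_mk, Ideal.Quotient.eq,
        ← map_sub]
      exact hev a (truncTotal_sub_truncTotal_mem_pow_idealOfVars h le_rfl x)
  let G : MvPowerSeries (Fin n) R'.carrier →ₐ[Λ] T.carrier :=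
    IsAdicComplete.liftAlgHom (IsLocalRing.maximalIdeal T.carrier) f hcompat
  have hG : ∀ j x, Ideal.Quotient.mk _ (G x) = f j x := fun j x =>
    IsAdicComplete.mk_liftAlgHom (IsLocalRing.maximalIdeal T.carrier) f hcompat j x
  have hGpol : ∀ p : MvPolynomial (Fin n) R'.carrier,
      G (p : MvPowerSeries (Fin n) R'.carrier) = ev p := fun p => by
    refine sub_eq_zero.1 (CAlg1.eq_zero_of_forall_mem (IsLocalRing.maximalIdeal T.carrier) fun j => ?_)
    rw [← Ideal.Quotient.eq, hG, hf, Ideal.Quotient.eq, ← map_sub]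
    refine hev j ((MvPolynomial.mem_pow_idealOfVars_iff' _ _).2 fun d hd => ?_)
    rw [MvPolynomial.coeff_sub, coeff_truncTotal _ hd, MvPolynomial.coeff_coe, sub_self]
  have hGC : ∀ a, G (C a) = g a := fun a => by
    rw [← MvPolynomial.coe_C, hGpol, MvPolynomial.aevalTower_C]
  have hGX : ∀ i, G (X i) = y i := fun i => by
    rw [← MvPolynomial.coe_X, hGpol, MvPolynomial.aevalTower_X]
  refine ⟨G, AlgHom.ext fun x₀ => ?_, AlgHom.ext hGC, hGX⟩
  let x : MvPowerSeries (Fin n) R'.carrier := x₀
  change T.res (G x) = R'.res (constantCoeff x)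
  have h1 : x - C (constantCoeff x) ∈ varIdeal R' n := mem_varIdeal_iff.2 (by rw [map_sub, constantCoeff_C, sub_self])
  have h2 : T.res (G (x - C (constantCoeff x))) = 0 := by
    refine (Ideal.span_le.2 ?_ : varIdeal R' n ≤ RingHom.ker (T.res.comp G)) h1
    rintro _ ⟨i, rfl⟩
    change T.res (G (X i)) = 0
    rw [hGX, hy]
  rw [map_sub, map_sub, hGC, sub_eq_zero] at h2
  exact h2.trans (AlgHom.congr_fun hg _)

/-- Maps out of a power series ring are determined by their values on constants and variables. -/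
theorem psHom_ext {T : CRing Λ k} {G G' : (psRing R' n).carrier →ₐ[Λ] T.carrier}
    (hG : T.res.comp G = (psRing R' n).res) (hC : G.comp (psC R' n) = G'.comp (psC R' n))
    (hX : ∀ i, G (psX R' n i) = G' (psX R' n i)) : G = G' := by
  haveI := T.isAdicComplete
  have hmem : ∀ i, G (psX R' n i) ∈ IsLocalRing.maximalIdeal T.carrier := fun i => by
    rw [T.mem_maximalIdeal_iff]
    exact (AlgHom.congr_fun hG _).trans (res_psX R' n i)
  have hv : ∀ H : MvPowerSeries (Fin n) R'.carrier →ₐ[Λ] T.carrier,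
      (∀ i, H (X i) ∈ IsLocalRing.maximalIdeal T.carrier) →
        ∀ j, ∀ z ∈ varIdeal R' n ^ j, H z ∈ IsLocalRing.maximalIdeal T.carrier ^ j := fun H hH j z hz => by
    refine ((Ideal.pow_right_mono ?_ j).trans (Ideal.le_comap_pow _ _) :
      varIdeal R' n ^ j ≤ (IsLocalRing.maximalIdeal T.carrier ^ j).comap H) hz
    rw [varIdeal, Ideal.span_le]
    rintro _ ⟨i, rfl⟩
    exact hH i
  have hpol : ∀ p : MvPolynomial (Fin n) R'.carrier,
      G (p : MvPowerSeries (Fin n) R'.carrier) = G' (p : MvPowerSeries (Fin n) R'.carrier) := fun p => by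
    induction p using MvPolynomial.induction_on with
    | C a => rw [MvPolynomial.coe_C]; exact AlgHom.congr_fun hC a
    | add p q hp hq =>
      rw [MvPolynomial.coe_add]
      exact ((map_add G _ _).trans (congrArg₂ (· + ·) hp hq)).trans (map_add G' _ _).symm
    | mul_X p i hp =>
      rw [MvPolynomial.coe_mul, MvPolynomial.coe_X]
      exact ((map_mul G _ _).trans (congrArg₂ (· * ·) hp (hX i))).trans (map_mul G' _ _).symm
  refine AlgHom.ext fun x₀ => sub_eq_zero.1 ?_
  let x : MvPowerSeries (Fin n) R'.carrier := x₀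
  refine CAlg1.eq_zero_of_forall_mem (IsLocalRing.maximalIdeal T.carrier) fun j => ?_
  let p := truncTotal j x
  have hx := sub_coe_truncTotal_mem x j
  have h1 := hv G hmem j _ hx
  have h2 := hv G' (fun i => (hX i) ▸ hmem i) j _ hx
  have h3 := Ideal.sub_mem _ h1 h2
  erw [map_sub, map_sub, hpol p, sub_sub_sub_cancel_right] at h3
  exact h3

end Groth.Agent.ArtF85
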