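import Groth.Agent.ArtF85.SmoothTan

/-!
# Coproducts and pushouts of coefficient rings
-/

set_option autoImplicit false
set_option linter.style.haveILetI false

universe u

open CategoryTheory

namespace Groth.Agent.ArtF85

open ArtFun ArtFun.Art

variable {Λ : Type u} {k : Type u} [CommRing Λ] [Field k] [Algebra Λ k]

/-- Descend a map of coefficient rings to a quotient. -/
lemma exists_desc {S T : CRing Λ k} {I : Ideal S.carrier} (hI : I ≤ IsLocalRing.maximalIdeal S.carrier)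
    (G : S.carrier →ₐ[Λ] T.carrier) (hG : T.res.comp G = S.res) (h : I ≤ RingHom.ker G) :
    ∃! f : (cringQuot S I hI).carrier →ₐ[Λ] T.carrier,
      T.res.comp f = (cringQuot S I hI).res ∧ f.comp (cringMk S I hI) = G := by
  let f : (cringQuot S I hI).carrier →ₐ[Λ] T.carrier :=
    Ideal.Quotient.liftₐ I G (fun a ha => RingHom.mem_ker.1 (h ha))
  refine ⟨f, ⟨AlgHom.ext fun x => ?_, AlgHom.ext fun x => rfl⟩, fun f' hf' => AlgHom.ext fun x => ?_⟩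
  · obtain ⟨a, rfl⟩ := cringMk_surjective S I hI x
    exact AlgHom.congr_fun hG a
  · obtain ⟨a, rfl⟩ := cringMk_surjective S I hI x
    exact AlgHom.congr_fun hf'.2 a

lemma ker_le_maximalIdeal_cring {S R : CRing Λ k} (f : S.carrier →ₐ[Λ] R.carrier)
    (hf : R.res.comp f = S.res) : RingHom.ker f ≤ IsLocalRing.maximalIdeal S.carrier := fun a ha => by
  rw [CRing.mem_maximalIdeal_iff, ← AlgHom.congr_fun hf a]
  exact (congrArg R.res (RingHom.mem_ker.1 ha)).trans (map_zero _)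

variable [IsNoetherianRing Λ] [Module.Finite Λ k]

theorem exists_coproduct (R S : CRing Λ k) :
    ∃ (P : CRing Λ k) (i₁ : R.carrier →ₐ[Λ] P.carrier) (i₂ : S.carrier →ₐ[Λ] P.carrier),
      P.res.comp i₁ = R.res ∧ P.res.comp i₂ = S.res ∧
      ∀ (T : CRing Λ k) (g₁ : R.carrier →ₐ[Λ] T.carrier) (g₂ : S.carrier →ₐ[Λ] T.carrier),
        T.res.comp g₁ = R.res → T.res.comp g₂ = S.res →
          ∃! h : P.carrier →ₐ[Λ] T.carrier, T.res.comp h = P.res ∧ h.comp i₁ = g₁ ∧ h.comp i₂ = g₂ := by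
  obtain ⟨ι, _, c₁, F₁, π₁, hπ₁, hπ₁s⟩ := exists_free_surjection R
  obtain ⟨κ, _, c₂, F₂, π₂, hπ₂, hπ₂s⟩ := exists_free_surjection S
  obtain ⟨r, c₀, hc₀⟩ := exists_generators_sum (Λ := Λ) (k := k)
  obtain ⟨F⟩ := exists_freeRing _ (hc₀ (Sum.elim c₁ c₂))
  choose l hl using fun i : Fin r => F₁.ring.res_surjective (c₀ i)
  obtain ⟨j₁, hj₁, hj₁X⟩ := F₁.liftCRing F.ring (fun i => F.X (Sum.inr (Sum.inl i))) (fun i => F.res_X _)
  obtain ⟨j₂, hj₂, hj₂X⟩ := F₂.liftCRing F.ring (fun i => F.X (Sum.inr (Sum.inr i))) (fun i => F.res_X _)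
  set I : Ideal F.ring.carrier := ((RingHom.ker π₁).map j₁ ⊔ (RingHom.ker π₂).map j₂) ⊔
    Ideal.span (Set.range fun i => F.X (Sum.inl i) - j₁ (l i)) with hIdef
  have hI : I ≤ IsLocalRing.maximalIdeal F.ring.carrier := sup_le (sup_le
    ((Ideal.map_mono (ker_le_maximalIdeal_cring π₁ hπ₁)).trans (map_maximalIdeal_le_of_res j₁ hj₁))
    ((Ideal.map_mono (ker_le_maximalIdeal_cring π₂ hπ₂)).trans (map_maximalIdeal_le_of_res j₂ hj₂)))
    (Ideal.span_le.2 (by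
      rintro _ ⟨i, rfl⟩
      refine (F.ring.mem_maximalIdeal_iff _).2 ?_
      rw [map_sub, F.res_X, sub_eq_zero]
      exact ((AlgHom.congr_fun hj₁ (l i)).trans (hl i)).symm))
  set mk := cringMk F.ring I hI with hmk
  have hk₁ : RingHom.ker π₁ ≤ RingHom.ker (mk.comp j₁) := fun a ha => by
    rw [RingHom.mem_ker]
    exact Ideal.Quotient.eq_zero_iff_mem.2 (Submodule.mem_sup_left (Submodule.mem_sup_left (Ideal.mem_map_of_mem _ ha)))
  have hk₂ : RingHom.ker π₂ ≤ RingHom.ker (mk.comp j₂) := fun a ha => by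
    rw [RingHom.mem_ker]
    exact Ideal.Quotient.eq_zero_iff_mem.2 (Submodule.mem_sup_left (Submodule.mem_sup_right (Ideal.mem_map_of_mem _ ha)))
  let i₁ := AlgHom.liftOfSurjective π₁ hπ₁s _ hk₁
  let i₂ := AlgHom.liftOfSurjective π₂ hπ₂s _ hk₂
  have e₁ : ∀ a, i₁ (π₁ a) = mk (j₁ a) := fun a => AlgHom.liftOfSurjective_apply π₁ hπ₁s _ hk₁ a
  have e₂ : ∀ a, i₂ (π₂ a) = mk (j₂ a) := fun a => AlgHom.liftOfSurjective_apply π₂ hπ₂s _ hk₂ a
  have r₁ : (cringQuot F.ring I hI).res.comp i₁ = R.res := AlgHom.ext fun x => by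
    obtain ⟨a, rfl⟩ := hπ₁s x
    exact (congrArg (cringQuot F.ring I hI).res (e₁ a)).trans
      ((AlgHom.congr_fun hj₁ a).trans (AlgHom.congr_fun hπ₁ a).symm)
  have r₂ : (cringQuot F.ring I hI).res.comp i₂ = S.res := AlgHom.ext fun x => by
    obtain ⟨a, rfl⟩ := hπ₂s x
    exact (congrArg (cringQuot F.ring I hI).res (e₂ a)).trans
      ((AlgHom.congr_fun hj₂ a).trans (AlgHom.congr_fun hπ₂ a).symm)
  refine ⟨cringQuot F.ring I hI, i₁, i₂, r₁, r₂, fun T g₁ g₂ hg₁ hg₂ => ?_⟩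
  obtain ⟨G, hG, hGX⟩ := F.liftCRing T (Sum.elim (fun i => g₁ (π₁ (l i)))
    (Sum.elim (fun i => g₁ (π₁ (F₁.X i))) (fun i => g₂ (π₂ (F₂.X i)))))
    (by
      rintro (i | i | i)
      · exact (AlgHom.congr_fun hg₁ _).trans ((AlgHom.congr_fun hπ₁ _).trans (hl i))
      · exact (AlgHom.congr_fun hg₁ _).trans ((AlgHom.congr_fun hπ₁ _).trans (F₁.res_X i))
      · exact (AlgHom.congr_fun hg₂ _).trans ((AlgHom.congr_fun hπ₂ _).trans (F₂.res_X i)))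
  have G₁ : G.comp j₁ = g₁.comp π₁ := F₁.algHom_ext (by rw [← AlgHom.comp_assoc, hG, hj₁])
    (by rw [← AlgHom.comp_assoc, hg₁, hπ₁]) fun i => by
      rw [AlgHom.comp_apply, hj₁X, hGX]; rfl
  have G₂ : G.comp j₂ = g₂.comp π₂ := F₂.algHom_ext (by rw [← AlgHom.comp_assoc, hG, hj₂])
    (by rw [← AlgHom.comp_assoc, hg₂, hπ₂]) fun i => by
      rw [AlgHom.comp_apply, hj₂X, hGX]; rfl
  have hGI : I ≤ RingHom.ker G := sup_le (sup_le
    (Ideal.map_le_iff_le_comap.2 fun a ha => RingHom.mem_ker.2 ((AlgHom.congr_fun G₁ a).trans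
      ((congrArg g₁ (RingHom.mem_ker.1 ha)).trans (map_zero _))))
    (Ideal.map_le_iff_le_comap.2 fun a ha => RingHom.mem_ker.2 ((AlgHom.congr_fun G₂ a).trans
      ((congrArg g₂ (RingHom.mem_ker.1 ha)).trans (map_zero _)))))
    (Ideal.span_le.2 (by
      rintro _ ⟨i, rfl⟩
      refine RingHom.mem_ker.2 ?_
      rw [map_sub, hGX, sub_eq_zero]
      exact (AlgHom.congr_fun G₁ (l i)).symm))
  obtain ⟨f, ⟨hf, hfG⟩, huniq⟩ := exists_desc hI G hG hGI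
  refine ⟨f, ⟨hf, AlgHom.ext fun x => ?_, AlgHom.ext fun x => ?_⟩, fun f' ⟨hf', h₁, h₂⟩ => huniq f' ⟨hf', ?_⟩⟩
  · obtain ⟨a, rfl⟩ := hπ₁s x
    exact (congrArg f (e₁ a)).trans ((AlgHom.congr_fun hfG (j₁ a)).trans (AlgHom.congr_fun G₁ a))
  · obtain ⟨a, rfl⟩ := hπ₂s x
    exact (congrArg f (e₂ a)).trans ((AlgHom.congr_fun hfG (j₂ a)).trans (AlgHom.congr_fun G₂ a))
  · refine F.algHom_ext (by rw [← AlgHom.comp_assoc, hf', res_comp_cringMk]) hG ?_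
    rintro (i | i | i)
    · have hmem : mk (F.X (Sum.inl i)) = mk (j₁ (l i)) :=
        Ideal.Quotient.eq.2 (Submodule.mem_sup_right (Ideal.subset_span ⟨i, rfl⟩))
      rw [hGX, AlgHom.comp_apply, hmem, ← e₁]
      exact AlgHom.congr_fun h₁ _
    · rw [hGX, AlgHom.comp_apply, ← hj₁X, ← e₁]
      exact AlgHom.congr_fun h₁ _
    · rw [hGX, AlgHom.comp_apply, ← hj₂X, ← e₂]
      exact AlgHom.congr_fun h₂ _

theorem exists_pushout (R S₁ S₂ : CRing Λ k)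
    (f₁ : R.carrier →ₐ[Λ] S₁.carrier) (hf₁ : S₁.res.comp f₁ = R.res)
    (f₂ : R.carrier →ₐ[Λ] S₂.carrier) (hf₂ : S₂.res.comp f₂ = R.res) :
    ∃ (P : CRing Λ k) (i₁ : S₁.carrier →ₐ[Λ] P.carrier) (i₂ : S₂.carrier →ₐ[Λ] P.carrier),
      P.res.comp i₁ = S₁.res ∧ P.res.comp i₂ = S₂.res ∧ i₁.comp f₁ = i₂.comp f₂ ∧
      ∀ (T : CRing Λ k) (g₁ : S₁.carrier →ₐ[Λ] T.carrier) (g₂ : S₂.carrier →ₐ[Λ] T.carrier),
        T.res.comp g₁ = S₁.res → T.res.comp g₂ = S₂.res → g₁.comp f₁ = g₂.comp f₂ →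
          ∃! h : P.carrier →ₐ[Λ] T.carrier, T.res.comp h = P.res ∧ h.comp i₁ = g₁ ∧ h.comp i₂ = g₂ := by
  obtain ⟨P₀, i₁, i₂, r₁, r₂, huniv⟩ := exists_coproduct S₁ S₂
  set K : Ideal P₀.carrier := Ideal.span (Set.range fun r => i₁ (f₁ r) - i₂ (f₂ r)) with hKdef
  have hK : K ≤ IsLocalRing.maximalIdeal P₀.carrier := Ideal.span_le.2 (by
    rintro _ ⟨r, rfl⟩
    refine (P₀.mem_maximalIdeal_iff _).2 ?_
    rw [map_sub, sub_eq_zero]
    exact ((AlgHom.congr_fun r₁ _).trans (AlgHom.congr_fun hf₁ r)).trans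
      ((AlgHom.congr_fun r₂ _).trans (AlgHom.congr_fun hf₂ r)).symm)
  set mk := cringMk P₀ K hK with hmk
  refine ⟨cringQuot P₀ K hK, mk.comp i₁, mk.comp i₂,
    by rw [← AlgHom.comp_assoc, res_comp_cringMk, r₁], by rw [← AlgHom.comp_assoc, res_comp_cringMk, r₂],
    AlgHom.ext fun r => Ideal.Quotient.eq.2 (Ideal.subset_span ⟨r, rfl⟩), fun T g₁ g₂ hg₁ hg₂ hg => ?_⟩
  obtain ⟨G, ⟨hG, hG₁, hG₂⟩, hGu⟩ := huniv T g₁ g₂ hg₁ hg₂
  have hGK : K ≤ RingHom.ker G := Ideal.span_le.2 (by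
    rintro _ ⟨r, rfl⟩
    refine RingHom.mem_ker.2 ?_
    rw [map_sub, sub_eq_zero]
    exact ((AlgHom.congr_fun hG₁ _).trans (AlgHom.congr_fun hg r)).trans (AlgHom.congr_fun hG₂ _).symm)
  obtain ⟨f, ⟨hf, hfG⟩, huniq⟩ := exists_desc hK G hG hGK
  refine ⟨f, ⟨hf, by rw [← AlgHom.comp_assoc, hfG, hG₁], by rw [← AlgHom.comp_assoc, hfG, hG₂]⟩,
    fun f' ⟨hf', h₁, h₂⟩ => huniq f' ⟨hf', hGu _ ⟨?_, h₁, h₂⟩⟩⟩
  rw [← AlgHom.comp_assoc, hf', res_comp_cringMk]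

end Groth.Agent.ArtF85
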