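import Groth.Agent.ArtF85.Hull
import Mathlib.RingTheory.Artinian.Module
import Mathlib.RingTheory.IntegralClosure.IsIntegralClosure.Basic

/-!
# Idempotent endomorphisms of versal families and minimal versal families

An endomorphism of a formal family gives an idempotent one (Fitting decomposition on each truncation); a versal
family with no nontrivial idempotent endomorphism is minimal.
-/

set_option autoImplicit false
set_option linter.style.haveILetI false

universe u v

open CategoryTheory

namespace Groth.Agent.ArtF85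

open ArtFun ArtFun.Art

variable {Λ : Type u} {k : Type u} [CommRing Λ] [Field k] [Algebra Λ k] [IsNoetherianRing Λ] [Module.Finite Λ k]

/-- The residue field is an Artinian `Λ`-module. -/
lemma isArtinian_residue : IsArtinian Λ k := by
  let p := RingHom.ker (algebraMap Λ k)
  haveI : p.IsMaximal := Ideal.isMaximal_comap_of_isIntegral_of_isMaximal (R := Λ) (⊥ : Ideal k)
  letI : Field (Λ ⧸ p) := Ideal.Quotient.field p
  letI : Algebra (Λ ⧸ p) k := (Ideal.Quotient.lift p (algebraMap Λ k) fun a ha => ha).toAlgebra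
  haveI : IsScalarTower Λ (Λ ⧸ p) k := IsScalarTower.of_algebraMap_eq fun x => rfl
  haveI : Module.Finite (Λ ⧸ p) k := Module.Finite.of_restrictScalars_finite Λ (Λ ⧸ p) k
  haveI : IsArtinian (Λ ⧸ p) k := inferInstance
  exact isArtinian_of_surjective_algebraMap (S := Λ) (R := Λ ⧸ p) Ideal.Quotient.mk_surjective

/-- Every object is an Artinian `Λ`-module. -/
lemma isArtinian_obj (A : Art Λ k) : IsArtinian Λ A := by
  haveI := isArtinian_residue (Λ := Λ) (k := k)
  refine surjective_induction (P := fun B A _ => IsArtinian Λ A → IsArtinian Λ B) ?_ ?_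
    (toBase A) (surjective_toBase A) (show IsArtinian Λ k from inferInstance)
  · intro B A f hf hA
    exact isArtinian_of_linearEquiv (AlgEquiv.ofBijective f.toAlgHom hf).symm.toLinearEquiv
  · intro C B A g f hg _ ih hA
    haveI := ih hA
    obtain ⟨t, -, hker, htm⟩ := exists_generator hg
    choose l hl using C.res_surjective
    let ι : k →ₗ[Λ] C :=
      { toFun := fun c => l c * t
        map_add' := fun a b => by
          rw [← add_mul]
          exact mul_eq_mul_of_res_eq htm (by rw [map_add, hl, hl, hl])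
        map_smul' := fun r c => by
          rw [RingHom.id_apply, ← smul_mul_assoc]
          exact mul_eq_mul_of_res_eq htm (by rw [map_smul, hl, hl]) }
    refine isArtinian_of_range_eq_ker ι g.toAlgHom.toLinearMap (le_antisymm ?_ fun x hx => ?_)
    · rintro _ ⟨c, rfl⟩
      change g.toAlgHom (l c * t) = 0
      rw [map_mul, RingHom.mem_ker.1 (hker ▸ Ideal.mem_span_singleton_self t : t ∈ RingHom.ker g.toAlgHom), mul_zero]
    · have hx' : x ∈ RingHom.ker g.toAlgHom := hx
      rw [hker] at hx'
      obtain ⟨a, rfl⟩ := Ideal.mem_span_singleton'.1 hx'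
      exact ⟨C.res a, mul_eq_mul_of_res_eq htm (by rw [hl])⟩

variable {F : Art Λ k ⥤ Type v}

/-- Iterates of an endomorphism. -/
def iter {T : Art Λ k} (g : T ⟶ T) : ℕ → (T ⟶ T)
  | 0 => 𝟙 T
  | n + 1 => iter g n ≫ g

omit [IsNoetherianRing Λ] [Module.Finite Λ k] in
lemma iter_apply {T : Art Λ k} (g : T ⟶ T) (n : ℕ) (x : T) : iter g n x = (fun y => g y)^[n] x := by
  induction n with
  | zero => rfl
  | succ n ih => rw [Function.iterate_succ_apply']; exact congrArg g ih

omit [IsNoetherianRing Λ] [Module.Finite Λ k] in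
lemma iter_add {T : Art Λ k} (g : T ⟶ T) (m n : ℕ) (x : T) : iter g (m + n) x = iter g m (iter g n x) := by
  rw [iter_apply, iter_apply, iter_apply, Function.iterate_add_apply]

omit [IsNoetherianRing Λ] [Module.Finite Λ k] in
lemma map_iter_eq {T : Art Λ k} (g : T ⟶ T) {x : F.obj T} (hx : F.map g x = x) (n : ℕ) :
    F.map (iter g n) x = x := by
  induction n with
  | zero => exact map_id_apply x
  | succ n ih => rw [iter, ← map_map, ih, hx]

/-- The idempotent attached to an endomorphism of an Artinian object. -/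
theorem exists_fitting {T : Art Λ k} (g : T ⟶ T) {x : F.obj T} (hx : F.map g x = x) :
    ∃ (ε : T ⟶ T) (N : ℕ), (∀ a, ε (ε a) = ε a) ∧ F.map ε x = x ∧ (∀ a n, ∃ z, iter g n z = ε a) ∧
      (∀ a, iter g N (ε a) = iter g N a) ∧ (∀ n a, iter g n a = 0 → iter g N a = 0) := by
  obtain ⟨N, hN⟩ := monotone_stabilizes_iff_noetherian.2 (inferInstance : IsNoetherian T T)
    ⟨fun n => RingHom.ker (iter g n).toAlgHom, monotone_nat_of_le_succ fun n a ha => by
      rw [RingHom.mem_ker] at ha ⊢
      exact (congrArg g ha).trans (map_zero g.toAlgHom)⟩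
  have hstab : ∀ n a, iter g n a = 0 → iter g N a = 0 := fun n a ha => by
    rcases le_total n N with h | h
    · obtain ⟨d, rfl⟩ := Nat.exists_eq_add_of_le h
      rw [add_comm, iter_add, ha]
      exact map_zero (iter g d).toAlgHom
    · have e : RingHom.ker (iter g N).toAlgHom = RingHom.ker (iter g n).toAlgHom := hN n h
      exact RingHom.mem_ker.1 (e ▸ RingHom.mem_ker.2 ha : a ∈ RingHom.ker (iter g N).toAlgHom)
  let K := RingHom.ker (iter g N).toAlgHom
  have hK : K ≤ IsLocalRing.maximalIdeal T := ker_le_maximalIdeal _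
  let q := quotMk T K hK
  have hq : Function.Surjective q := quotMk_surjective _ _ _
  let ι := quotFactor hK (iter g N) le_rfl
  have hιq : ∀ a, ι (q a) = iter g N a := fun a => rfl
  have hKu : K ≤ RingHom.ker (g ≫ q).toAlgHom := fun a ha => by
    rw [RingHom.mem_ker] at ha ⊢
    refine Ideal.Quotient.eq_zero_iff_mem.2 (RingHom.mem_ker.2 ?_)
    change iter g N (iter g 1 a) = 0
    rw [← iter_add, add_comm, iter_add]
    change iter g 1 (iter g N a) = 0
    rw [ha]
    exact map_zero (iter g 1).toAlgHom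
  let u := quotFactor hK (g ≫ q) hKu
  have huq : ∀ a, u (q a) = q (g a) := fun a => rfl
  have huinj : Function.Injective u := (injective_iff_map_eq_zero u.toAlgHom).2 fun b hb => by
    obtain ⟨a, rfl⟩ := hq b
    have h1 : iter g N (iter g 1 a) = 0 := RingHom.mem_ker.1 (Ideal.Quotient.eq_zero_iff_mem.1 hb)
    rw [← iter_add] at h1
    exact Ideal.Quotient.eq_zero_iff_mem.2 (RingHom.mem_ker.2 (hstab _ _ h1))
  haveI := isArtinian_obj (Art.quot T K hK)
  have hubij : Function.Bijective u :=
    ⟨huinj, IsArtinian.surjective_of_injective_endomorphism u.toAlgHom.toLinearMap huinj⟩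
  have hupow : ∀ n, Function.Bijective (iter u n) := fun n => by
    induction n with
    | zero => exact Function.bijective_id
    | succ n ih => exact hubij.comp ih
  have hqpow : ∀ n a, iter u n (q a) = q (iter g n a) := fun n a => by
    induction n with
    | zero => rfl
    | succ n ih => exact (congrArg u ih).trans (huq _)
  have hinv : ∀ b, iter u N (invHom (iter u N) (hupow N) b) = b := fun b =>
    congrArg (fun f : Art.quot T K hK ⟶ Art.quot T K hK => f b) (invHom_comp (iter u N) (hupow N))
  have hinv' : ∀ b, invHom (iter u N) (hupow N) (iter u N b) = b := fun b =>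
    congrArg (fun f : Art.quot T K hK ⟶ Art.quot T K hK => f b) (comp_invHom (iter u N) (hupow N))
  let ε := q ≫ invHom (iter u N) (hupow N) ≫ ι
  have hε : ∀ a, ε a = ι (invHom (iter u N) (hupow N) (q a)) := fun a => rfl
  have hqι : ∀ b, q (ι b) = iter u N b := fun b => by
    obtain ⟨a, rfl⟩ := hq b
    rw [hιq, hqpow]
  refine ⟨ε, N, fun a => ?_, ?_, fun a n => ?_, fun a => ?_, hstab⟩
  · rw [hε (ε a), hε a, hqι, hinv]
  · have hη : F.map (iter u N) (F.map q x) = F.map q x := by
      have e : q ≫ iter u N = iter g N ≫ q := hom_ext_apply fun a => hqpow N a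
      rw [map_map, e, ← map_map, map_iter_eq g hx]
    have hw : F.map (invHom (iter u N) (hupow N)) (F.map q x) = F.map q x := by
      conv_lhs => rw [← hη, map_map, comp_invHom, map_id_apply]
    have e : q ≫ ι = iter g N := hom_ext_apply hιq
    change F.map (q ≫ invHom (iter u N) (hupow N) ≫ ι) x = x
    rw [← map_map, ← map_map, hw, map_map, e, map_iter_eq g hx]
  · obtain ⟨b, hb⟩ := (hupow n).2 (invHom (iter u N) (hupow N) (q a))
    obtain ⟨z, rfl⟩ := hq b
    refine ⟨iter g N z, ?_⟩
    rw [hε, ← hb, hqpow, hιq, ← iter_add, ← iter_add, add_comm]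
  · obtain ⟨z, hz⟩ := hq (invHom (iter u N) (hupow N) (q a))
    rw [hε, ← hz, hιq]
    have h1 : q (iter g N z) = q a := by rw [← hqpow, hz, hinv]
    exact (hιq _).symm.trans ((congrArg ι h1).trans (hιq a))

/-- An endomorphism of a formal family yields an idempotent endomorphism. -/
theorem exists_idempotent (R : CRing Λ k) (ξ : Family R.carrier R.res F) (a : R.carrier →ₐ[Λ] R.carrier)
    (ha : R.res.comp a = R.res) (hξ : ξ.along a ha = ξ) :
    ∃ (ε : R.carrier →ₐ[Λ] R.carrier) (hε : R.res.comp ε = R.res), ε.comp ε = ε ∧ ξ.along ε hε = ξ ∧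
      (Function.Injective ε → Function.Surjective a) := by
  let g : ∀ j, R.trunc j ⟶ R.trunc j := fun j => CRing.truncMapOfHom a ha j
  have hg : ∀ j r, g j ((R.truncHom j).1 r) = (R.truncHom j).1 (a r) := fun j r => rfl
  have hgξ : ∀ j, F.map (g j) (ξ.app _ (R.truncHom j)) = ξ.app _ (R.truncHom j) := fun j => by
    rw [← ξ.natural]
    conv_rhs => rw [← hξ]
    exact congrArg (ξ.app _) (homSet_ext fun r => rfl)
  choose e N hidem heξ him hN hstab using fun j => exists_fitting (g j) (hgξ j)
  have htm : ∀ j n z, R.truncMap j (iter (g (j + 1)) n z) = iter (g j) n (R.truncMap j z) := fun j n z => by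
    induction n with
    | zero => rfl
    | succ n ih =>
      obtain ⟨y, hy⟩ := truncHom_surjective R (j + 1) (iter (g (j + 1)) n z)
      change R.truncMap j (g (j + 1) (iter (g (j + 1)) n z)) = g j (iter (g j) n (R.truncMap j z))
      rw [← ih, ← hy]
      rfl
  have hcompat : ∀ j z, R.truncMap j (e (j + 1) z) = e j (R.truncMap j z) := fun j z => by
    obtain ⟨z₁, hz₁⟩ := him (j + 1) z (N j)
    obtain ⟨z₂, hz₂⟩ := him j (R.truncMap j z) (N j)
    set d := R.truncMap j z₁ - z₂
    have hd : R.truncMap j (e (j + 1) z) - e j (R.truncMap j z) = iter (g j) (N j) d := by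
      rw [← hz₁, ← hz₂, htm]
      exact (map_sub (iter (g j) (N j)).toAlgHom _ _).symm
    have h1 : iter (g j) (N j + N (j + 1)) (R.truncMap j (e (j + 1) z)) =
        iter (g j) (N j + N (j + 1)) (e j (R.truncMap j z)) := by
      have e1 : iter (g j) (N (j + 1)) (R.truncMap j (e (j + 1) z)) = iter (g j) (N (j + 1)) (R.truncMap j z) := by
        rw [← htm, hN, htm]
      rw [iter_add, e1, ← iter_add, add_comm (N j), iter_add, iter_add, hN j]
    have h2 : iter (g j) (N j + N (j + 1) + N j) d = 0 := by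
      rw [iter_add, ← hd]
      exact (map_sub (iter (g j) (N j + N (j + 1))).toAlgHom _ _).trans (sub_eq_zero.2 h1)
    exact sub_eq_zero.1 (hd.trans (hstab j _ d h2))
  let φ : ∀ j, HomSet R.carrier R.res (R.trunc j) := fun j => HomSet.map (e j) (R.truncHom j)
  obtain ⟨ε, hε, hεj⟩ := exists_hom_of_compat R φ fun j => homSet_ext fun r => by
    change R.truncMap j (e (j + 1) ((R.truncHom (j + 1)).1 r)) = e j ((R.truncHom j).1 r)
    rw [hcompat, ← homSet_map_apply, R.truncMap_truncHom]
  have hεj' : ∀ j r, (R.truncHom j).1 (ε r) = e j ((R.truncHom j).1 r) := fun j r => hεj j r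
  refine ⟨ε, hε, algHom_eq_of_trunc fun j r => ?_, family_eq_of_toFormalElt_eq (FormalElt.ext' fun j => ?_),
    fun hinj => ?_⟩
  · rw [AlgHom.comp_apply, hεj', hεj', hidem]
  · refine Eq.trans ?_ (heξ j)
    refine Eq.trans ?_ (ξ.natural _ _)
    exact congrArg (ξ.app _) (homSet_ext fun r => hεj' j r)
  · refine surjective_of_surjective_trunc a ha fun t => ?_
    have hid : ∀ r, ε r = r := fun r => hinj (by
      have := algHom_eq_of_trunc (g := ε.comp ε) (g' := ε) fun j s => by
        rw [AlgHom.comp_apply, hεj', hεj', hidem]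
      exact AlgHom.congr_fun this r)
    obtain ⟨r, rfl⟩ := truncHom_surjective R 1 t
    obtain ⟨z, hz⟩ := him 1 ((R.truncHom 1).1 r) 1
    obtain ⟨y, rfl⟩ := truncHom_surjective R 1 z
    refine ⟨y, ?_⟩
    change g 1 ((R.truncHom 1).1 y) = _
    rw [← hεj', hid] at hz
    exact hz

/-- A versal family is the pushforward along a retraction of a minimal one. -/
theorem exists_minimal_retract (h0 : H0 F) (V : VersalPair F) :
    ∃ (R' : CRing Λ k) (ξ' : Family R'.carrier R'.res F), ξ'.IsMinimalVersal ∧
      ∃ (i : R'.carrier →ₐ[Λ] V.ring.carrier) (hi : V.ring.res.comp i = R'.res)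
        (p : V.ring.carrier →ₐ[Λ] R'.carrier), R'.res.comp p = V.ring.res ∧ p.comp i = AlgHom.id Λ R'.carrier ∧
        ξ'.along i hi = V.family := by
  let S : Set (Ideal V.ring.carrier) :=
    {K | ∃ (e : V.ring.carrier →ₐ[Λ] V.ring.carrier) (he : V.ring.res.comp e = V.ring.res),
      e.comp e = e ∧ V.family.along e he = V.family ∧ RingHom.ker e = K}
  have hSne : S.Nonempty := ⟨_, AlgHom.id Λ V.ring.carrier, AlgHom.comp_id _, AlgHom.id_comp _,
    toFormalElt_along_id _, rfl⟩
  obtain ⟨_, ⟨e, he, hee, heξ, rfl⟩, hmax⟩ := exists_maximal_of_wellFoundedGT (P := fun K => K ∈ S) hSne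
  have hKm : RingHom.ker e ≤ IsLocalRing.maximalIdeal V.ring.carrier := fun r hr => by
    rw [CRing.mem_maximalIdeal_iff, ← he, AlgHom.comp_apply, RingHom.mem_ker.1 hr, map_zero]
  let R' := cringQuot V.ring (RingHom.ker e) hKm
  let p := cringMk V.ring (RingHom.ker e) hKm
  have hps : Function.Surjective p := cringMk_surjective _ _ _
  let i : R'.carrier →ₐ[Λ] V.ring.carrier := Ideal.Quotient.liftₐ _ e fun r hr => hr
  have hip : ∀ r, i (p r) = e r := fun r => rfl
  have hi : V.ring.res.comp i = R'.res := AlgHom.ext fun x => by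
    obtain ⟨r, rfl⟩ := hps x
    exact AlgHom.congr_fun he r
  have hp : R'.res.comp p = V.ring.res := res_comp_cringMk _ _ _
  have hpi : p.comp i = AlgHom.id Λ R'.carrier := AlgHom.ext fun x => by
    obtain ⟨r, rfl⟩ := hps x
    refine Ideal.Quotient.eq.2 (RingHom.mem_ker.2 ?_)
    rw [map_sub, sub_eq_zero]
    exact AlgHom.congr_fun hee r
  let ξ' := V.family.along p hp
  have hξ : ξ'.along i hi = V.family := by
    conv_rhs => rw [← heξ]
    exact family_ext fun A φ => congrArg (V.family.app A) (homSet_ext fun r => congrArg φ.1 (hip r))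
  have hversal : IsVersal ξ' := fun B A μ hμ φ y hy => by
    obtain ⟨ψ, hψ, hψy⟩ := V.versal μ hμ
      ⟨φ.1.comp p, AlgHom.ext fun r => (res_homSet_apply φ _).trans (AlgHom.congr_fun hp r)⟩ y hy
    let ψ' : HomSet R'.carrier R'.res B := ⟨ψ.1.comp i, AlgHom.ext fun r =>
      (res_homSet_apply ψ _).trans (AlgHom.congr_fun hi r)⟩
    refine ⟨ψ', homSet_ext fun x => ?_, ?_⟩
    · change μ (ψ.1 (i x)) = φ.1 x
      have h1 := congrArg (fun t : HomSet V.ring.carrier V.ring.res A => t.1 (i x)) hψ
      exact h1.trans (congrArg φ.1 (AlgHom.congr_fun hpi x))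
    · rw [← hψy]
      conv_rhs => rw [← hξ]
      exact congrArg (V.family.app B) (homSet_ext fun r => rfl)
  refine ⟨R', ξ', ⟨hversal, fun R'' v f hf hfv => ?_⟩, i, hi, p, hp, hpi, hξ⟩
  obtain ⟨h, hh, hhξ⟩ := exists_along_toFormalElt_eq h0 ξ' hversal R'' v
  have ha : R'.res.comp (f.comp h) = R'.res := by rw [← AlgHom.comp_assoc, hf, hh]
  have haξ : ξ'.along (f.comp h) ha = ξ' := by
    rw [← along_along ξ' h hh f hf ha]
    exact family_eq_of_toFormalElt_eq (by rw [along_toFormalElt, hhξ]; exact hfv)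
  obtain ⟨ε, hε, hεε, hεξ, hεs⟩ := exists_idempotent R' ξ' _ ha haξ
  have hεinj : Function.Injective ε := by
    let e' := (i.comp ε).comp p
    have he' : V.ring.res.comp e' = V.ring.res := AlgHom.ext fun r =>
      (AlgHom.congr_fun hi _).trans ((AlgHom.congr_fun hε _).trans (AlgHom.congr_fun hp r))
    have hmem : RingHom.ker e' ∈ S := ⟨e', he', AlgHom.ext fun r => by
        change i (ε (p (i (ε (p r))))) = i (ε (p r))
        rw [show p (i (ε (p r))) = ε (p r) from AlgHom.congr_fun hpi _,
          show ε (ε (p r)) = ε (p r) from AlgHom.congr_fun hεε _], by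
        conv_rhs => rw [← hξ, ← hεξ]
        exact family_ext fun A φ => congrArg (V.family.app A) (homSet_ext fun r => rfl), rfl⟩
    have hle : RingHom.ker e ≤ RingHom.ker e' := fun r hr => by
      rw [RingHom.mem_ker]
      change i (ε (p r)) = 0
      rw [show p r = 0 from Ideal.Quotient.eq_zero_iff_mem.2 hr, map_zero, map_zero]
    have heq : RingHom.ker e' = RingHom.ker e := le_antisymm (hmax hmem hle) hle
    refine (injective_iff_map_eq_zero ε).2 fun x hx => ?_
    obtain ⟨r, rfl⟩ := hps x
    exact Ideal.Quotient.eq_zero_iff_mem.2 (heq ▸ (RingHom.mem_ker.2 ((congrArg i hx).trans (map_zero i)) :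
      r ∈ RingHom.ker e'))
  exact fun y => by
    obtain ⟨x, rfl⟩ := hεs hεinj y
    exact ⟨h x, rfl⟩

end Groth.Agent.ArtF85
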