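import Groth.Agent.ArtF85.Hull
import Groth.Agent.ArtF85.Classical
import Groth.Agent.Deform85.TrivSqLift
import Groth.Agent.S12722

/-!
In characteristic zero lifting along split square-zero extensions gives unobstructedness.
-/

set_option autoImplicit false
set_option linter.style.haveILetI false

universe u v w

open CategoryTheory TrivSqZeroExt

namespace Groth.Agent.ArtF85

open ArtFun ArtFun.Art

variable {k : Type u} [Field k]

/-- `A ⊕ M` is a local ring. -/
theorem isLocalRing_trivSqZero {A : Type u} [CommRing A] [IsLocalRing A] (M : Type u) [AddCommGroup M] [Module A M]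
    [Module Aᵐᵒᵖ M] [IsCentralScalar A M] : IsLocalRing (TrivSqZeroExt A M) :=
  IsLocalRing.of_isUnit_or_isUnit_one_sub_self fun x => by
    rw [isUnit_iff_isUnit_fst, isUnit_iff_isUnit_fst, fst_sub, fst_one]
    exact IsLocalRing.isUnit_or_isUnit_one_sub_self x.fst

theorem isArtinianRing_trivSqZero (A : Art k k) (M : Type u) [AddCommGroup M] [Module A M]
    [Module (↥A)ᵐᵒᵖ M] [IsCentralScalar A M] [Module k M] [IsScalarTower k A M] [IsScalarTower k (↥A)ᵐᵒᵖ M]
    [Module.Finite A M] : IsArtinianRing (TrivSqZeroExt A M) :=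
  haveI := moduleFinite A
  haveI : Module.Finite k M := Module.Finite.trans A M
  haveI : Module.Finite k (TrivSqZeroExt A M) := inferInstanceAs (Module.Finite k (A × M))
  IsArtinianRing.of_finite k _

/-- The split square-zero extension `A ⊕ M` as an object. -/
noncomputable def tszArt (A : Art k k) (M : Type u) [AddCommGroup M] [Module A M] [Module (↥A)ᵐᵒᵖ M]
    [IsCentralScalar A M] [Module k M] [IsScalarTower k A M] [IsScalarTower k (↥A)ᵐᵒᵖ M] [Module.Finite A M] :
    Art k k :=
  { carrier := TrivSqZeroExt A M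
    isLocalRing := isLocalRing_trivSqZero M
    isArtinianRing := isArtinianRing_trivSqZero A M
    res := A.res.comp (fstHom k A M)
    res_surjective := fun c => by
      obtain ⟨a, ha⟩ := A.res_surjective c
      exact ⟨inl a, ha⟩ }

theorem isSmoothFunctor_of_split [CharZero k] (F : Art k k ⥤ Type v) [TangentStr F] (h0 : H0 F)
    (hRS : (∀ ⦃B A A' A'' : Art k k⦄ (p' : B ⟶ A') (p'' : B ⟶ A'') (f' : A' ⟶ A) (f'' : A'' ⟶ A)
        (h : IsFibreProd p' p'' f' f''), Function.Surjective f'' → Function.Bijective (cmp F h)))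
    (hfin : Hfin F)
    (hT1 : ∀ ⦃A A' A'' : Art k k⦄ (π' : A' ⟶ A) (i' : A ⟶ A') (π'' : A'' ⟶ A) (i'' : A ⟶ A'')
        (q : A'' ⟶ A'), i' ≫ π' = 𝟙 A → i'' ≫ π'' = 𝟙 A →
        RingHom.ker π'.toAlgHom * RingHom.ker π'.toAlgHom = ⊥ →
        RingHom.ker π''.toAlgHom * RingHom.ker π''.toAlgHom = ⊥ →
        q ≫ π' = π'' → i'' ≫ q = i' → Function.Surjective q → Function.Surjective (F.map q)) :
    IsSmoothFunctor F := by
  have hS1 : S1 F := fun B A A' A'' p' p'' f' f'' h hf => (hRS p' p'' f' f'' h hf).2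
  have hHeps : Heps F := fun B A' p' p'' h => hRS p' p'' _ _ h (surjective_toBase _)
  have hSS : Subsingleton (base k k ⟶ dual k k) :=
    ⟨fun d d' => hom_ext_apply fun c => (d.toAlgHom.commutes c).trans (d'.toAlgHom.commutes c).symm⟩
  obtain ⟨P⟩ := isProrepresentable_of_conditions h0 hS1 hHeps hfin
    (fun B A A' p₁ p₂ f h hf => (hRS p₁ p₂ f f h hf.1).1) (fun d d' _ => @Subsingleton.elim _ hSS d d')
  have hpow : ∃ n : ℕ, Nonempty (P.ring.carrier ≃ₐ[k] MvPowerSeries (Fin n) k) := by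
    refine ⟨_, Deform85.TrivSqLift.powerSeries_of_lifts P.ring rfl fun A W φ => ?_⟩
    let A' := tszArt A ((Fin _ → A) ⧸ W)
    let A'' := tszArt A (Fin (Module.finrank (IsLocalRing.ResidueField P.ring.carrier)
      (IsLocalRing.CotangentSpace P.ring.carrier)) → A)
    let π' : A' ⟶ A := ⟨fstHom k A _, rfl⟩
    let π'' : A'' ⟶ A := ⟨fstHom k A _, rfl⟩
    let i' : A ⟶ A' := ⟨{ inlHom A ((Fin _ → A) ⧸ W) with commutes' := fun c => rfl }, AlgHom.ext fun a => rfl⟩
    let i'' : A ⟶ A'' := ⟨{ inlHom A (Fin _ → A) with commutes' := fun c => rfl }, AlgHom.ext fun a => rfl⟩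
    let q : A'' ⟶ A' := ⟨{ (TrivSqZeroExt.map W.mkQ).toRingHom with
      commutes' := fun c => map_inl W.mkQ (algebraMap k A c) }, AlgHom.ext fun x => by
      change A.res (fst (TrivSqZeroExt.map W.mkQ x)) = A.res (fst x)
      rw [fst_map]⟩
    have hker : ∀ (X : Type u) [AddCommGroup X] [Module A X] [Module (↥A)ᵐᵒᵖ X] [IsCentralScalar A X]
        [Module k X] [IsScalarTower k A X] [IsScalarTower k (↥A)ᵐᵒᵖ X],
        RingHom.ker (fstHom k A X) * RingHom.ker (fstHom k A X) = ⊥ := by
      intro X _ _ _ _ _ _ _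
      rw [eq_bot_iff, Ideal.mul_le]
      intro a ha b hb
      rw [RingHom.mem_ker] at ha hb
      change a.fst = 0 at ha
      change b.fst = 0 at hb
      rw [Ideal.mem_bot]
      ext <;> simp [ha, hb]
    have hsurj : Function.Surjective q := fun y => by
      let y' : TrivSqZeroExt A ((Fin _ → A) ⧸ W) := y
      obtain ⟨w, hw⟩ := W.mkQ_surjective y'.snd
      refine ⟨(inl y'.fst + inr w : TrivSqZeroExt A _), ?_⟩
      change TrivSqZeroExt.map W.mkQ (inl y'.fst + inr w) = y'
      rw [map_add, map_inl, map_inr, hw, inl_fst_add_inr_snd_eq]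
    let φ₁ : P.ring.carrier →ₐ[k] A' := φ
    have hres : A'.res.comp φ₁ = P.ring.res := AlgHom.ext fun r => by
      have hm : r - algebraMap k _ (P.ring.res r) ∈ IsLocalRing.maximalIdeal P.ring.carrier := by
        rw [P.ring.mem_maximalIdeal_iff, map_sub, AlgHom.commutes, Algebra.algebraMap_self, RingHom.id_apply, sub_self]
      have h2 : (A'.res.comp φ₁) (r - algebraMap k _ (P.ring.res r)) = 0 :=
        (A'.mem_maximalIdeal_iff _).1 (Deform85.TrivSqLift.map_maximalIdeal P.ring A' φ₁ hm)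
      rw [map_sub, AlgHom.commutes, sub_eq_zero] at h2
      exact h2
    obtain ⟨y, hy⟩ := hT1 π' i' π'' i'' q (hom_ext_apply fun a => rfl) (hom_ext_apply fun a => rfl)
      (hker _) (hker _)
      (hom_ext_apply fun x => fst_map W.mkQ x) (hom_ext_apply fun a => map_inl W.mkQ a)
      hsurj (P.family.app A' ⟨φ₁, hres⟩)
    obtain ⟨ψ, rfl⟩ := (P.universal A'').2 y
    rw [← P.family.natural] at hy
    have e := (P.universal A').1 hy
    refine ⟨ψ.1, fun r => ?_⟩
    have er : TrivSqZeroExt.map W.mkQ (ψ.1 r) = φ r := congrArg (fun t => t.1 r) e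
    rw [← er]
    exact ⟨(fst_map _ _).symm, (snd_map _ _).symm⟩
  haveI : IsAdicComplete (IsLocalRing.maximalIdeal k) k := by
    rw [IsLocalRing.maximalIdeal_eq_bot]; infer_instance
  have hsm := (Groth.Agent.S12722.result (Λ := k) (k := k) (fun c => ⟨c, rfl⟩) P.ring).2 hpow
  intro B A μ hμ y
  obtain ⟨φ, rfl⟩ := (P.universal A).2 y
  obtain ⟨ψ, hψ⟩ := hsm μ hμ φ
  exact ⟨P.family.app B ψ, (P.family.natural μ ψ).symm.trans (congrArg (P.family.app A) hψ)⟩

end Groth.Agent.ArtF85
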