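import Groth.Agent.ArtF85.Lift
import Mathlib.LinearAlgebra.Dual.Lemmas
import Mathlib.LinearAlgebra.LinearIndependent.Lemmas

/-!
# A smooth coefficient ring with prescribed tangent space
-/

set_option autoImplicit false
set_option linter.style.haveILetI false

universe u v

open CategoryTheory

namespace Groth.Agent.ArtF85

open ArtFun ArtFun.Art

variable {Λ : Type u} {k : Type u} [CommRing Λ] [Field k] [Algebra Λ k]

/-- Factorisation through a surjective map to an object. -/
lemma homSet_factor {R : Type u} [CommRing R] [Algebra Λ R] {resR : R →ₐ[Λ] k} {T A : Art Λ k}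
    (π : HomSet R resR T) (hπ : Function.Surjective π.1) (φ : HomSet R resR A)
    (h : RingHom.ker π.1 ≤ RingHom.ker φ.1) : ∃ g : T ⟶ A, HomSet.map g π = φ := by
  refine ⟨⟨AlgHom.liftOfSurjective π.1 hπ φ.1 h, AlgHom.ext fun t => ?_⟩,
    homSet_ext fun r => AlgHom.liftOfSurjective_apply π.1 hπ φ.1 h r⟩
  obtain ⟨r, rfl⟩ := hπ t
  exact (congrArg A.res (AlgHom.liftOfSurjective_apply π.1 hπ φ.1 h r)).trans
    ((res_homSet_apply φ r).trans (res_homSet_apply π r).symm)

/-- A map killing `I` descends to the quotient ring. -/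
noncomputable def descend {S : CRing Λ k} {I : Ideal S.carrier}
    (hI : I ≤ IsLocalRing.maximalIdeal S.carrier) {A : Art Λ k} (φ : HomSet S.carrier S.res A)
    (h : I ≤ RingHom.ker φ.1) : HomSet (cringQuot S I hI).carrier (cringQuot S I hI).res A :=
  ⟨Ideal.Quotient.liftₐ I φ.1 (fun _ ha => RingHom.mem_ker.1 (h ha)), AlgHom.ext fun x => by
    obtain ⟨a, rfl⟩ := cringMk_surjective S I hI x
    exact res_homSet_apply φ a⟩

lemma descend_apply {S : CRing Λ k} {I : Ideal S.carrier}
    (hI : I ≤ IsLocalRing.maximalIdeal S.carrier) {A : Art Λ k} (φ : HomSet S.carrier S.res A)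
    (h : I ≤ RingHom.ker φ.1) (a : S.carrier) : (descend hI φ h).1 (cringMk S I hI a) = φ.1 a := rfl

/-- Composition with the projection to a quotient. -/
noncomputable def ascend {S : CRing Λ k} {I : Ideal S.carrier}
    (hI : I ≤ IsLocalRing.maximalIdeal S.carrier) {A : Art Λ k}
    (φ : HomSet (cringQuot S I hI).carrier (cringQuot S I hI).res A) : HomSet S.carrier S.res A :=
  ⟨φ.1.comp (cringMk S I hI), by rw [← AlgHom.comp_assoc, φ.2, res_comp_cringMk]⟩

lemma le_ker_ascend {S : CRing Λ k} {I : Ideal S.carrier}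
    (hI : I ≤ IsLocalRing.maximalIdeal S.carrier) {A : Art Λ k}
    (φ : HomSet (cringQuot S I hI).carrier (cringQuot S I hI).res A) :
    I ≤ RingHom.ker (ascend hI φ).1 := fun a ha => by
  rw [← ker_cringMk S I hI, RingHom.mem_ker] at ha
  rw [RingHom.mem_ker]
  exact (congrArg φ.1 ha).trans (map_zero _)

variable [IsNoetherianRing Λ] [Module.Finite Λ k]

/-- For every object `W` there is a smooth coefficient ring surjecting onto `W` all of whose
derivations factor through `W`. -/
theorem exists_smooth_tangent (W : Art Λ k) :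
    ∃ (S : CRing Λ k) (π : HomSet S.carrier S.res W), IsSmoothFunctor (hR S.carrier S.res) ∧
      Function.Surjective π.1 ∧
      ∀ δ : HomSet S.carrier S.res (dual Λ k), ∃ h : W ⟶ dual Λ k, HomSet.map h π = δ := by
  classical
  haveI := moduleFinite W
  obtain ⟨m, g, hg⟩ := Submodule.fg_iff_exists_fin_generating_family.1
    (inferInstance : Module.Finite Λ W).fg_top
  obtain ⟨r, c₀, hc₀⟩ := exists_generators_sum (Λ := Λ) (k := k)
  choose l hl using fun i => W.res_surjective (c₀ i)
  let c : Fin r ⊕ Fin m → k := Sum.elim c₀ (fun j => W.res (g j))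
  obtain ⟨S₀⟩ := exists_freeRing c (hc₀ _)
  obtain ⟨φ, hφ⟩ := S₀.lift W (Sum.elim l g) (by rintro (i | j) <;> simp [c, hl])
  have hφs : Function.Surjective φ.1 := by
    intro w
    have : Submodule.span Λ (Set.range g) ≤ LinearMap.range φ.1.toLinearMap :=
      Submodule.span_le.2 (by rintro _ ⟨j, rfl⟩; exact ⟨_, hφ (Sum.inr j)⟩)
    exact this (hg.symm ▸ Submodule.mem_top)
  have hv : ∀ v : Fin r ⊕ Fin m → k, ∃ δ : HomSet S₀.ring.carrier S₀.ring.res (dual Λ k),
      ∀ i, eps (δ.1 (S₀.X i)) = v i := fun v => by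
    obtain ⟨δ, hδ⟩ := S₀.lift (dual Λ k) (fun i => mkDual (c i) (v i)) (fun i => rfl)
    exact ⟨δ, fun i => by rw [hδ, eps_mkDual]⟩
  choose der hder using hv
  have huniq : ∀ δ, der (fun i => eps (δ.1 (S₀.X i))) = δ := fun δ => S₀.hom_ext fun i => dual_ext
    ((res_homSet_apply _ _).trans (res_homSet_apply δ _).symm) (hder _ i)
  have dadd : ∀ v w s, eps ((der (v + w)).1 s) = eps ((der v).1 s) + eps ((der w).1 s) := by
    intro v w s
    obtain ⟨ψ, h₁, h₂⟩ := exists_homSet_lift isFibreProd_dual2 (der v) (der w) (Subsingleton.elim _ _)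
    have h : HomSet.map (addHom pr₁ pr₂) ψ = der (v + w) := by
      refine (S₀.hom_ext fun i => dual_ext ((res_homSet_apply _ _).trans (res_homSet_apply _ _).symm) ?_)
      rw [homSet_map_apply, eps_addHom, ← homSet_map_apply pr₁, h₁, ← homSet_map_apply pr₂, h₂, hder,
        hder, hder, Pi.add_apply]
    rw [← h, homSet_map_apply, eps_addHom, ← homSet_map_apply pr₁, h₁, ← homSet_map_apply pr₂, h₂]
  have dsmul : ∀ (a : k) v s, eps ((der (a • v)).1 s) = a * eps ((der v).1 s) := by
    intro a v s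
    have h : HomSet.map (scale a) (der v) = der (a • v) := by
      refine (S₀.hom_ext fun i => dual_ext ((res_homSet_apply _ _).trans (res_homSet_apply _ _).symm) ?_)
      rw [homSet_map_apply, eps_scale, hder, hder, Pi.smul_apply, smul_eq_mul]
    rw [← h, homSet_map_apply, eps_scale]
  let ev : S₀.ring.carrier → Module.Dual k (Fin r ⊕ Fin m → k) := fun s =>
    { toFun := fun v => eps ((der v).1 s)
      map_add' := fun v w => dadd v w s
      map_smul' := fun a v => dsmul a v s }
  obtain ⟨b, hbsub, hbspan, hbli⟩ :=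
    exists_linearIndependent k (ev '' (RingHom.ker φ.1 : Set S₀.ring.carrier))
  haveI : Finite b := hbli.finite
  haveI := Fintype.ofFinite b
  choose s hs hse using fun i : b => hbsub i.2
  set I : Ideal S₀.ring.carrier := Ideal.span (Set.range s) with hI
  have hIker : I ≤ RingHom.ker φ.1 := Ideal.span_le.2 (by rintro _ ⟨i, rfl⟩; exact hs i)
  have hIm : I ≤ IsLocalRing.maximalIdeal S₀.ring.carrier := fun a ha => by
    rw [CRing.mem_maximalIdeal_iff, ← res_homSet_apply φ a, RingHom.mem_ker.1 (hIker ha), map_zero]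
  let M : (Fin r ⊕ Fin m → k) →ₗ[k] (b → k) := LinearMap.pi fun i => (i : Module.Dual k _)
  have hM : Function.Surjective M := by
    rw [← LinearMap.dualMap_injective_iff, ← LinearMap.ker_eq_bot, LinearMap.ker_eq_bot']
    intro f hf
    have hsum : ∑ i : b, f (Pi.single i 1) • (i : Module.Dual k (Fin r ⊕ Fin m → k)) = 0 := by
      refine LinearMap.ext fun v => ?_
      have h1 := LinearMap.congr_fun hf v
      rw [LinearMap.dualMap_apply, LinearMap.pi_apply_eq_sum_univ f, LinearMap.zero_apply] at h1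
      rw [LinearMap.sum_apply, LinearMap.zero_apply, ← h1]
      refine Finset.sum_congr rfl fun i _ => ?_
      rw [LinearMap.smul_apply, smul_eq_mul, smul_eq_mul, mul_comm]
      congr 2
      funext j
      simp [Pi.single_apply, eq_comm]
    have h0 := Fintype.linearIndependent_iff.1 hbli _ hsum
    refine LinearMap.ext fun x => ?_
    rw [LinearMap.pi_apply_eq_sum_univ f x, LinearMap.zero_apply]
    refine Finset.sum_eq_zero fun i _ => ?_
    rw [show (fun j => if i = j then (1 : k) else 0) = Pi.single i 1 by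
      funext j; simp [Pi.single_apply, eq_comm], h0 i, smul_zero]
  refine ⟨cringQuot S₀.ring I hIm, descend hIm φ hIker, ?_, ?_, ?_⟩
  · intro B A μ hμ
    refine surjective_induction (P := fun B A μ => Function.Surjective
      ((hR (cringQuot S₀.ring I hIm).carrier (cringQuot S₀.ring I hIm).res).map μ)) ?_ ?_ μ hμ
    · intro B A μ hμ
      exact (map_bijective _ μ hμ).2
    intro C B A g' f hg' _ ih ψ'
    obtain ⟨ψ₁, rfl⟩ := ih ψ'
    suffices ∀ ψ₁ : HomSet (cringQuot S₀.ring I hIm).carrier (cringQuot S₀.ring I hIm).res B,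
        ∃ ψ₂, HomSet.map g' ψ₂ = ψ₁ by
      obtain ⟨ψ₂, h₂⟩ := this ψ₁
      exact ⟨ψ₂, (homSet_map_map g' f ψ₂).symm.trans (congrArg (HomSet.map f) h₂)⟩
    intro ψ₁
    obtain ⟨ψ₀', e₀'⟩ := S₀.isSmoothFunctor g' hg'.1 (ascend hIm ψ₁)
    let ψ₀ : HomSet S₀.ring.carrier S₀.ring.res C := ψ₀'
    have e₀ : HomSet.map g' ψ₀ = ascend hIm ψ₁ := e₀'
    obtain ⟨t, ht0, hker, htm⟩ := exists_generator hg'
    obtain ⟨P, p₁, p₂, hP⟩ := exists_fibreProd g' g' hg'.1
    obtain ⟨d, hd, hPd⟩ := exists_diff ht0 hker htm hP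
    have hlam : ∀ i : b, ∃ a : C, a * t = ψ₀.1 (s i) := fun i => by
      refine Ideal.mem_span_singleton'.1 (hker ▸ RingHom.mem_ker.2 ?_)
      exact (congrArg (fun χ : HomSet S₀.ring.carrier S₀.ring.res B => χ.1 (s i)) e₀).trans
        (RingHom.mem_ker.1 (le_ker_ascend hIm ψ₁ (Ideal.subset_span ⟨i, rfl⟩)))
    choose a ha using hlam
    obtain ⟨v, hv⟩ := hM (fun i => - C.res (a i))
    obtain ⟨χ, hχ₁, hχ₂⟩ := exists_homSet_lift hPd ψ₀ (der v) (Subsingleton.elim _ _)
    have hχ : I ≤ RingHom.ker (HomSet.map p₂ χ).1 := Ideal.span_le.2 (by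
      rintro _ ⟨i, rfl⟩
      refine RingHom.mem_ker.2 ?_
      have hm : p₂ (χ.1 (s i)) - p₁ (χ.1 (s i)) ∈ RingHom.ker g'.toAlgHom :=
        (sub_mem_ker_iff g' _ _).2 (hP.w_apply _).symm
      rw [hker] at hm
      obtain ⟨e, he⟩ := Ideal.mem_span_singleton'.1 hm
      have h1 : C.res e = - C.res (a i) := by
        rw [← hd (χ.1 (s i)) e he.symm, ← homSet_map_apply d, hχ₂]
        have h2 := congrFun hv i
        rw [show M v i = eps ((der v).1 (s i)) from LinearMap.congr_fun (hse i).symm v] at h2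
        exact h2
      rw [← homSet_map_apply p₁, hχ₁] at he
      rw [homSet_map_apply]
      have h3 : e * t = (- a i) * t := mul_eq_mul_of_res_eq htm (by rw [h1, map_neg])
      rw [h3] at he
      linear_combination -he - ha i)
    refine ⟨descend hIm _ hχ, homSet_ext fun x => ?_⟩
    obtain ⟨x, rfl⟩ := cringMk_surjective S₀.ring I hIm x
    rw [homSet_map_apply, descend_apply, homSet_map_apply, ← Art.comp_apply p₂ g', ← hP.w, Art.comp_apply,
      ← homSet_map_apply p₁, hχ₁, ← homSet_map_apply g', e₀]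
    rfl
  · intro w
    obtain ⟨x, rfl⟩ := hφs w
    exact ⟨cringMk S₀.ring I hIm x, rfl⟩
  · intro δ
    set v : Fin r ⊕ Fin m → k := fun i => eps ((ascend hIm δ).1 (S₀.X i)) with hvd
    have hder' : der v = ascend hIm δ := huniq _
    have hker : RingHom.ker φ.1 ≤ RingHom.ker (ascend hIm δ).1 := by
      intro x hx
      have hall : ∀ L ∈ Submodule.span k b, L v = 0 := by
        intro L hL
        induction hL using Submodule.span_induction with
        | mem y hy =>
          rw [show y = ev (s ⟨y, hy⟩) from (hse ⟨y, hy⟩).symm]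
          change eps ((der v).1 _) = 0
          rw [hder', RingHom.mem_ker.1 (le_ker_ascend hIm δ (Ideal.subset_span ⟨_, rfl⟩)), eps_zero]
        | zero => rfl
        | add y z _ _ hy hz => rw [LinearMap.add_apply, hy, hz, add_zero]
        | smul a y _ hy => rw [LinearMap.smul_apply, hy, smul_zero]
      have h1 : eps ((der v).1 x) = 0 := hall (ev x) (hbspan.symm ▸ Submodule.subset_span ⟨x, hx, rfl⟩)
      rw [RingHom.mem_ker]
      refine dual_ext ?_ ?_
      · rw [res_homSet_apply, map_zero, ← res_homSet_apply φ x, RingHom.mem_ker.1 hx, map_zero]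
      · rw [← hder', h1, eps_zero]
    obtain ⟨h, hh⟩ := homSet_factor φ hφs (ascend hIm δ) hker
    refine ⟨h, homSet_ext fun x => ?_⟩
    obtain ⟨x, rfl⟩ := cringMk_surjective S₀.ring I hIm x
    exact congrArg (fun χ : HomSet S₀.ring.carrier S₀.ring.res (dual Λ k) => χ.1 x) hh

end Groth.Agent.ArtF85
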