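import Groth.Agent.ArtF85.Tangent

/-!
# The objects `k[ε₁, …, εₙ]` and universal first-order elements
-/

set_option autoImplicit false
set_option linter.style.haveILetI false

universe u v

open CategoryTheory

namespace Groth.Agent.ArtF85

open ArtFun ArtFun.Art

variable (Λ : Type u) (k : Type u) [CommRing Λ] [Field k] [Algebra Λ k]

/-- `k[ε₁, …, εₙ]`. -/
def sqObj (n : ℕ) : Art Λ k :=
  { carrier := TrivSqZeroExt k (Fin n → k)
    isLocalRing := isLocalRing_tsze k (Fin n → k)
    isArtinianRing := isArtinianRing_tsze k (Fin n → k)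
    res := TrivSqZeroExt.fstHom Λ k (Fin n → k)
    res_surjective := fun a => ⟨TrivSqZeroExt.inl a, rfl⟩ }

variable {Λ k} {n : ℕ}

/-- Scalars in `k[ε₁, …, εₙ]`. -/
def sqInl (c : k) : sqObj Λ k n := (TrivSqZeroExt.inl c : TrivSqZeroExt k (Fin n → k))

/-- The square-zero part. -/
def sqInr (v : Fin n → k) : sqObj Λ k n := (TrivSqZeroExt.inr v : TrivSqZeroExt k (Fin n → k))

/-- The `ε`-coefficients. -/
def sqSnd (x : sqObj Λ k n) : Fin n → k := TrivSqZeroExt.snd (x : TrivSqZeroExt k (Fin n → k))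

lemma sq_decomp (x : sqObj Λ k n) : x = sqInl ((sqObj Λ k n).res x) + sqInr (sqSnd x) :=
  (TrivSqZeroExt.inl_fst_add_inr_snd_eq (x : TrivSqZeroExt k (Fin n → k))).symm

lemma sq_ext {x y : sqObj Λ k n} (h₁ : (sqObj Λ k n).res x = (sqObj Λ k n).res y)
    (h₂ : sqSnd x = sqSnd y) : x = y := TrivSqZeroExt.ext h₁ h₂

@[simp] lemma res_sqInl (c : k) : (sqObj Λ k n).res (sqInl c) = c := rfl
@[simp] lemma res_sqInr (v : Fin n → k) : (sqObj Λ k n).res (sqInr v) = 0 := rfl
@[simp] lemma sqSnd_sqInr (v : Fin n → k) : sqSnd (sqInr (Λ := Λ) v) = v := rfl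

/-- The inclusion of `k`. -/
def sqIncl : base Λ k ⟶ sqObj Λ k n :=
  ⟨(Algebra.ofId k (TrivSqZeroExt k (Fin n → k))).restrictScalars Λ, AlgHom.ext fun _ => rfl⟩

lemma sqIncl_apply (c : k) : sqIncl (Λ := Λ) (n := n) c = sqInl c := rfl

/-- The morphism of a linear form. -/
def sqLin (L : (Fin n → k) →ₗ[k] k) : sqObj Λ k n ⟶ dual Λ k :=
  ⟨tszeMap L, AlgHom.ext fun _ => rfl⟩

@[simp] lemma eps_sqLin (L : (Fin n → k) →ₗ[k] k) (x : sqObj Λ k n) :
    eps (sqLin L x) = L (sqSnd x) := rfl

/-- Every morphism to `k[ε]` is a sum of a morphism through `k` and a linear form. -/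
lemma exists_decomp (h : sqObj Λ k n ⟶ dual Λ k) :
    ∃ (d : base Λ k ⟶ dual Λ k) (L : (Fin n → k) →ₗ[k] k),
      h = addHom (toBase (sqObj Λ k n) ≫ d) (sqLin L) := by
  let L : (Fin n → k) →ₗ[k] k :=
    { toFun := fun v => eps (h (sqInr v))
      map_add' := fun v w => by
        rw [← eps_add, ← map_add]
        exact congrArg (fun x => eps (h x)) (TrivSqZeroExt.inr_add _ v w)
      map_smul' := fun c v => by
        have e : (sqInr (c • v) : sqObj Λ k n) = sqInl c * sqInr v :=
          (TrivSqZeroExt.inl_mul_inr (M := Fin n → k) c v).symm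
        rw [RingHom.id_apply, e, map_mul, eps_mul, res_app, res_app, res_sqInl, res_sqInr, zero_mul,
          add_zero, smul_eq_mul] }
  refine ⟨sqIncl ≫ h, L, dual_hom_ext fun x => ?_⟩
  rw [eps_addHom, eps_sqLin]
  conv_lhs => rw [sq_decomp x]
  rw [map_add, eps_add]
  rfl

variable {F : Art Λ k ⥤ Type v} [TangentStr F]

omit [TangentStr F] in
lemma exists_universal (h0 : H0 F) (h2 : Heps F) (θ : Fin n → TangentSpace F) :
    ∃ z : F.obj (sqObj Λ k n), ∀ j, tan (sqLin (LinearMap.proj j)) z = θ j := by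
  induction n with
  | zero => exact ⟨F.map sqIncl h0.1.some, fun j => j.elim0⟩
  | succ n ih =>
    obtain ⟨z', hz'⟩ := ih (fun j => θ j.succ)
    let p' : sqObj Λ k (n + 1) ⟶ sqObj Λ k n :=
      ⟨tszeMap (LinearMap.funLeft k k Fin.succ), AlgHom.ext fun _ => rfl⟩
    have hsq : IsFibreProd p' (sqLin (LinearMap.proj 0)) (toBase _) (toBase (dual Λ k)) := by
      refine ⟨(eq_toBase _).trans (eq_toBase _).symm, fun a b e₁ e₂ => ?_, fun a e he => ?_⟩
      · refine sq_ext ?_ (funext (Fin.cases ?_ fun j => ?_))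
        · rw [← res_app p', e₁, res_app]
        · exact congrArg eps e₂
        · exact congrFun (congrArg sqSnd e₁) j
      · refine ⟨sqInl ((sqObj Λ k n).res a) + sqInr (Fin.cons (eps e) (sqSnd a)), sq_ext ?_ ?_, dual_ext ?_ ?_⟩
        · rw [res_app, map_add, res_sqInl, res_sqInr, add_zero]
        · funext j
          change (0 : k) + (Fin.cons (eps e) (sqSnd a) : Fin (n + 1) → k) j.succ = _
          rw [zero_add, Fin.cons_succ]
        · rw [res_app, map_add, res_sqInl, res_sqInr, add_zero]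
          exact he
        · rw [eps_sqLin]
          change (0 : k) + (Fin.cons (eps e) (sqSnd a) : Fin (n + 1) → k) 0 = _
          rw [zero_add, Fin.cons_zero]
    obtain ⟨z, hz₁, hz₂⟩ := (surjective_cmp_iff hsq).1 (h2 _ _ hsq).2 z' (θ 0)
      (@Subsingleton.elim _ h0.2 _ _)
    refine ⟨z, Fin.cases ?_ fun j => ?_⟩
    · exact hz₂
    · rw [← hz' j, ← hz₁, tan_map]
      rfl

lemma tan_sqLin {θ : Fin n → TangentSpace F} {z : F.obj (sqObj Λ k n)}
    (hz : ∀ j, tan (sqLin (LinearMap.proj j)) z = θ j) (L : (Fin n → k) →ₗ[k] k) :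
    tan (sqLin L) z = ∑ j, L (Pi.single j 1) • θ j := by
  let Φ : ((Fin n → k) →ₗ[k] k) →ₗ[k] TangentSpace F :=
    { toFun := fun L => tan (sqLin L) z
      map_add' := fun L L' => by
        rw [tan_add]
        exact congrArg (fun g => tan g z) (dual_hom_ext fun x =>
          (LinearMap.add_apply L L' (sqSnd x)).trans (eps_addHom (sqLin L) (sqLin L') x).symm)
      map_smul' := fun c L => by
        rw [RingHom.id_apply, smul_tan]
        exact congrArg (fun g => tan g z) (dual_hom_ext fun x => by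
          rw [eps_sqLin, LinearMap.smul_apply, smul_eq_mul]
          exact (eps_scale c (sqLin L x)).symm) }
  have hL : L = ∑ j, L (Pi.single j 1) • (LinearMap.proj j : (Fin n → k) →ₗ[k] k) := by
    apply LinearMap.pi_ext
    intro i x
    rw [show (Pi.single i x : Fin n → k) = x • Pi.single i 1 by rw [← Pi.single_smul, smul_eq_mul, mul_one],
      map_smul, map_smul]
    simp [Pi.single_apply, mul_comm]
  change Φ L = _
  conv_lhs => rw [hL, map_sum]
  exact Finset.sum_congr rfl fun j _ => by rw [map_smul]; exact congrArg _ (hz j)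

end Groth.Agent.ArtF85
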