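import Groth.Agent.ArtF85.Tangent

/-!
# Products with split square-zero objects
-/

set_option autoImplicit false
set_option linter.style.haveILetI false

universe u v

open CategoryTheory

namespace Groth.Agent.ArtF85

open ArtFun ArtFun.Art

variable {Λ : Type u} {k : Type u} [CommRing Λ] [Field k] [Algebra Λ k]
variable {F : Art Λ k ⥤ Type v}

theorem bijective_cmp_sqZero [IsNoetherianRing Λ] [Module.Finite Λ k] (hF : Heps F) {E : Art Λ k}
    (σ : base Λ k ⟶ E) (hE : IsLocalRing.maximalIdeal E ^ 2 = ⊥)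
    ⦃B A : Art Λ k⦄ (p' : B ⟶ A) (p'' : B ⟶ E)
    (h : IsFibreProd p' p'' (toBase A) (toBase E)) : Function.Bijective (cmp F h) := by
  revert σ hE B A p' p'' h
  refine surjective_induction (P := fun E Z _ => Function.Bijective (toBase Z) →
    ∀ (_ : base Λ k ⟶ E), IsLocalRing.maximalIdeal E ^ 2 = ⊥ →
      ∀ ⦃B A : Art Λ k⦄ (p' : B ⟶ A) (p'' : B ⟶ E)
        (h : IsFibreProd p' p'' (toBase A) (toBase E)), Function.Bijective (cmp F h))
    ?_ ?_ (toBase E) (surjective_toBase E) Function.bijective_id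
  · intro E Z f hf hZ σ _ B A p' p'' h
    refine bijective_cmp_of_bijective_right h ?_
    rw [← comp_toBase f]
    exact hZ.comp hf
  intro E C Z g f hg _ ih hZ σ hE B A p' p'' h
  obtain ⟨t, ht0, hker, htm⟩ := exists_generator hg
  have htE : E.res t = 0 := by
    have : t ∈ RingHom.ker g.toAlgHom := by rw [hker]; exact Ideal.mem_span_singleton_self t
    rw [← res_app g, RingHom.mem_ker.1 this, map_zero]
  have hEC : IsLocalRing.maximalIdeal C ^ 2 = ⊥ := by
    rw [eq_bot_iff, pow_two, Ideal.mul_le]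
    intro a ha b hb
    obtain ⟨a, rfl⟩ := hg.1 a
    obtain ⟨b, rfl⟩ := hg.1 b
    rw [mem_maximalIdeal_iff, res_app, ← mem_maximalIdeal_iff] at ha hb
    have h2 := Ideal.mul_mem_mul ha hb
    rw [← pow_two, hE, Ideal.mem_bot] at h2
    rw [Ideal.mem_bot, ← map_mul, h2, map_zero]
  have IH := ih hZ (σ ≫ g) hEC
  obtain ⟨s, hσ⟩ : ∃ s : k →ₐ[Λ] E, ∀ c : k, E.res (s c) = c := ⟨σ.toAlgHom, fun c => res_app σ c⟩
  have hsub : ∀ e : E, e - s (E.res e) ∈ IsLocalRing.maximalIdeal E := fun e => by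
    rw [mem_maximalIdeal_iff, map_sub, hσ, sub_self]
  letI : Algebra k E := s.toRingHom.toAlgebra
  have hsmul : ∀ (c : k) (e : E), c • e = s c * e := fun c e => Algebra.smul_def c e
  obtain ⟨ℓ, hℓ⟩ : ∃ ℓ : Module.Dual k E, ℓ t = 1 := by
    obtain ⟨L, hL⟩ := LinearMap.exists_leftInverse_of_injective (LinearMap.toSpanSingleton k E t)
      (LinearMap.ker_eq_bot.2 (smul_left_injective k ht0))
    exact ⟨L, by simpa using LinearMap.congr_fun hL 1⟩
  let δ : E →ₗ[Λ] k :=
    { toFun := fun e => ℓ (e - s (E.res e))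
      map_add' := fun a b => by
        rw [← map_add]
        congr 1
        rw [map_add E.res, map_add s]
        abel
      map_smul' := fun r a => by
        rw [RingHom.id_apply, map_smul E.res]
        rw [map_smul s]
        rw [← smul_sub, Algebra.smul_def r (a - _), Algebra.smul_def r (ℓ _),
          ← s.commutes r]
        exact (congrArg ℓ (hsmul _ _).symm).trans (map_smul ℓ _ _) }
  have hδ : ∀ a b, δ (a * b) = E.res a * δ b + E.res b * δ a := by
    intro a b
    change ℓ (a * b - s (E.res (a * b))) =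
      E.res a * ℓ (b - s (E.res b)) + E.res b * ℓ (a - s (E.res a))
    have h0 : (a - s (E.res a)) * (b - s (E.res b)) = 0 := by
      have := Ideal.mul_mem_mul (hsub a) (hsub b)
      rwa [← pow_two, hE, Ideal.mem_bot] at this
    rw [← smul_eq_mul (E.res a), ← smul_eq_mul (E.res b), ← map_smul ℓ, ← map_smul ℓ, ← map_add ℓ,
      hsmul, hsmul,
      map_mul E.res]
    congr 1
    rw [map_mul s]
    linear_combination h0
  have hδt : ∀ c : E, δ (c * t) = E.res c := by
    intro c
    change ℓ (c * t - s (E.res (c * t))) = _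
    rw [map_mul E.res, htE, mul_zero]
    rw [map_zero s]
    rw [sub_zero, mul_eq_mul_of_res_eq htm (b := s (E.res c)) (hσ _).symm, ← hsmul, map_smul, hℓ,
      smul_eq_mul, mul_one]
  set d := dualHom δ hδ with hd
  have hEd : IsFibreProd g d (toBase C) (toBase (dual Λ k)) := by
    refine ⟨(eq_toBase _).trans (eq_toBase _).symm, fun a b e₁ e₂ => ?_, fun c e he => ?_⟩
    · obtain ⟨c, hc⟩ := Ideal.mem_span_singleton'.1 (hker ▸ (sub_mem_ker_iff g a b).2 e₁)
      have h0 : E.res c = 0 := by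
        rw [← hδt, hc, map_sub, sub_eq_zero]
        exact congrArg eps e₂
      rw [← sub_eq_zero, ← hc]
      exact htm c ((mem_maximalIdeal_iff E c).2 h0)
    · obtain ⟨a, rfl⟩ := hg.1 c
      obtain ⟨r, hr⟩ := E.res_surjective (eps e - δ a)
      have ht' : g t = 0 := RingHom.mem_ker.1 (by rw [hker]; exact Ideal.mem_span_singleton_self t)
      refine ⟨a + r * t, by rw [map_add, map_mul, ht', mul_zero, add_zero], dual_ext ?_ ?_⟩
      · rw [res_app, map_add, map_mul, htE, mul_zero, add_zero, ← res_app g a]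
        exact he
      · change δ (a + r * t) = eps e
        rw [map_add, hδt, hr, add_sub_cancel]
  obtain ⟨B₁, q', q'', h₁⟩ := exists_fibreProd (toBase A) (toBase C) (surjective_toBase C)
  set r := fibreLift h₁ p' (p'' ≫ g) ((eq_toBase _).trans (eq_toBase _).symm) with hr
  have r₁ : r ≫ q' = p' := fibreLift_fst _ _ _ _
  have r₂ : r ≫ q'' = p'' ≫ g := fibreLift_snd _ _ _ _
  have h₂ : IsFibreProd r (p'' ≫ d) (toBase B₁) (toBase (dual Λ k)) := by
    refine ⟨(eq_toBase _).trans (eq_toBase _).symm, fun a b e₁ e₂ => ?_, fun b₁ e he => ?_⟩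
    · refine h.inj _ _ ?_ (hEd.inj _ _ ?_ e₂)
      · rw [← r₁]; exact congrArg q' e₁
      · have t : (r ≫ q'') a = (r ≫ q'') b := congrArg q'' e₁
        rw [r₂] at t
        exact t
    · obtain ⟨x, hx₁, hx₂⟩ := hEd.surj (q'' b₁) e ((res_app q'' b₁).trans he)
      obtain ⟨b, hb₁, hb₂⟩ := h.surj (q' b₁) x (by
        refine (h₁.w_apply b₁).trans ?_
        rw [← hx₁]
        exact res_app g x)
      refine ⟨b, h₁.inj _ _ ?_ ?_, ?_⟩
      · rw [← Art.comp_apply r q', r₁, hb₁]
      · rw [← Art.comp_apply r q'', r₂, Art.comp_apply, hb₂, hx₁]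
      · rw [Art.comp_apply, hb₂, hx₂]
  refine ⟨(injective_cmp_iff h).2 fun z w e₁ e₂ => ?_, (surjective_cmp_iff h).2 fun x y e => ?_⟩
  · refine (injective_cmp_iff h₂).1 (hF r _ h₂).1 _ _ ?_ ?_
    · refine (injective_cmp_iff h₁).1 (IH q' q'' h₁).1 _ _ ?_ ?_
      · rw [map_map r q', map_map r q', r₁, e₁]
      · rw [map_map r q'', map_map r q'', r₂, ← map_map p'' g, e₂, map_map]
    · rw [← map_map p'' d, e₂, map_map]
  · obtain ⟨z₁, hz₁, hz₂⟩ := (surjective_cmp_iff h₁).1 (IH q' q'' h₁).2 x (F.map g y)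
      (by rw [e, map_map, comp_toBase g])
    obtain ⟨z, hz₃, hz₄⟩ := (surjective_cmp_iff h₂).1 (hF r _ h₂).2 z₁ (F.map d y)
      (by rw [← comp_toBase q', ← map_map q', hz₁, e, map_map, comp_toBase d])
    refine ⟨z, by rw [← r₁, ← map_map r q', hz₃, hz₁], ?_⟩
    refine (injective_cmp_iff hEd).1 (hF g d hEd).1 _ _ ?_ ?_
    · rw [map_map, ← r₂, ← map_map r q'', hz₃, hz₂]
    · rw [map_map, hz₄]

end Groth.Agent.ArtF85
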