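import Groth.Agent.ArtF85.Dual

/-!
# The tangent space of a functor of Artin rings
-/

set_option autoImplicit false
set_option linter.style.haveILetI false

universe u v

open CategoryTheory

namespace Groth.Agent.ArtF85

open ArtFun ArtFun.Art

variable {Λ : Type u} {k : Type u} [CommRing Λ] [Field k] [Algebra Λ k]
variable {F G : Art Λ k ⥤ Type v}

lemma exists_dual2 (h0 : H0 F) (h2 : Heps F) (x y : F.obj (dual Λ k)) :
    ∃ z : F.obj (dual2 Λ k), F.map pr₁ z = x ∧ F.map pr₂ z = y :=
  (surjective_cmp_iff isFibreProd_dual2).1 (h2 _ _ isFibreProd_dual2).2 x y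
    (@Subsingleton.elim _ h0.2 _ _)

lemma map_congr_eps {E : Art Λ k} {g g' : E ⟶ dual Λ k} (h : ∀ a, eps (g a) = eps (g' a))
    (z : F.obj E) : F.map g z = F.map g' z := by rw [dual_hom_ext h]

lemma scale_zero_eq : (scale (0 : k) : dual Λ k ⟶ dual Λ k) = zeroHom (dual Λ k) :=
  dual_hom_ext fun a => by rw [eps_scale, eps_zeroHom, zero_mul]

lemma comp_addHom {A B : Art Λ k} (g : A ⟶ B) (a b : B ⟶ dual Λ k) :
    g ≫ addHom a b = addHom (g ≫ a) (g ≫ b) :=
  dual_hom_ext fun x => (eps_addHom a b (g x)).trans (eps_addHom (g ≫ a) (g ≫ b) x).symm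

lemma comp_zeroHom {A B : Art Λ k} (g : A ⟶ B) : g ≫ zeroHom B = zeroHom A := by
  rw [zeroHom, ← Category.assoc, comp_toBase]
  rfl

section Existence

/-- The tangent space structure. -/
@[instance_reducible]
noncomputable def tangentStrOf (h0 : H0 F) (h2 : Heps F) : TangentStr F :=
  let add (x y : F.obj (dual Λ k)) : F.obj (dual Λ k) := F.map plus (exists_dual2 h0 h2 x y).choose
  have add_map : ∀ {E : Art Λ k} (a b : E ⟶ dual Λ k) (z : F.obj E),
      add (F.map a z) (F.map b z) = F.map (addHom a b) z := fun {E} a b z => by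
    obtain ⟨e₁, e₂⟩ := (exists_dual2 h0 h2 (F.map a z) (F.map b z)).choose_spec
    change F.map plus _ = _
    rw [addHom, ← map_map]
    refine congrArg (F.map plus) ((injective_cmp_iff isFibreProd_dual2).1
      (h2 _ _ isFibreProd_dual2).1 _ _ ?_ ?_)
    · rw [e₁, map_map, fibreLift_fst]
    · rw [e₂, map_map, fibreLift_snd]
  let zero : F.obj (dual Λ k) := F.map baseToDual h0.1.some
  have map_zero' : ∀ {E : Art Λ k} (z : F.obj E), F.map (zeroHom E) z = zero := fun {E} z => by
    change F.map (toBase E ≫ baseToDual) z = _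
    rw [← map_map]
    exact congrArg (F.map baseToDual) (@Subsingleton.elim _ h0.2 _ _)
  have zero_add' : ∀ x, add zero x = x := fun x => by
    refine ((congrArg₂ add (map_zero' x).symm (map_id_apply x).symm).trans (add_map _ _ x)).trans ?_
    refine Eq.trans ?_ (map_id_apply x)
    refine map_congr_eps (fun a => ?_) _
    exact (eps_addHom _ _ a).trans (by rw [eps_zeroHom, zero_add])
  have add_comm' : ∀ x y, add x y = add y x := fun x y => by
    obtain ⟨z, rfl, rfl⟩ := exists_dual2 h0 h2 x y
    rw [add_map pr₁ pr₂, add_map pr₂ pr₁]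
    refine map_congr_eps (fun a => ?_) _
    rw [eps_addHom, eps_addHom, add_comm]
  letI : Zero (F.obj (dual Λ k)) := ⟨zero⟩
  letI : Add (F.obj (dual Λ k)) := ⟨add⟩
  letI : Neg (F.obj (dual Λ k)) := ⟨F.map (scale (-1))⟩
  letI : AddCommGroup (F.obj (dual Λ k)) :=
    { nsmul := nsmulRec
      zsmul := zsmulRec
      zero_add := zero_add'
      add_zero := fun x => (add_comm' x zero).trans (zero_add' x)
      add_comm := add_comm'
      add_assoc := fun x y w => by
        change add (add x y) w = add x (add y w)
        obtain ⟨z₂, rfl, rfl⟩ := exists_dual2 h0 h2 x y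
        rw [add_map]
        obtain ⟨B, q₁, q₂, hB⟩ : ∃ (B : Art Λ k) (q₁ : B ⟶ dual2 Λ k) (q₂ : B ⟶ dual Λ k),
            IsFibreProd q₁ q₂ (toBase _) (toBase _) := by
          haveI := isArtinianRing_tsze k (k × k × k)
          haveI := isLocalRing_tsze k (k × k × k)
          refine ⟨Art.of (TrivSqZeroExt k (k × k × k)) (TrivSqZeroExt.fstHom Λ k (k × k × k))
            (fun a => ⟨TrivSqZeroExt.inl a, rfl⟩), ?_⟩
          refine ⟨⟨tszeMap ((LinearMap.fst k k (k × k)).prod
              ((LinearMap.fst k k k).comp (LinearMap.snd k k (k × k)))), AlgHom.ext fun _ => rfl⟩,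
            ⟨tszeMap ((LinearMap.snd k k k).comp (LinearMap.snd k k (k × k))),
              AlgHom.ext fun _ => rfl⟩, (eq_toBase _).trans (eq_toBase _).symm, ?_, ?_⟩
          · intro b₁ b₂ h₁ h₂
            have e₀ := congrArg TrivSqZeroExt.fst h₁
            have e₁ := congrArg TrivSqZeroExt.snd h₁
            have e₂ := congrArg TrivSqZeroExt.snd h₂
            have e₁' : ((TrivSqZeroExt.snd b₁).1, (TrivSqZeroExt.snd b₁).2.1) =
              ((TrivSqZeroExt.snd b₂).1, (TrivSqZeroExt.snd b₂).2.1) := e₁
            have c₁ : (TrivSqZeroExt.snd b₁).1 = (TrivSqZeroExt.snd b₂).1 := (Prod.ext_iff.1 e₁').1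
            have c₂ : (TrivSqZeroExt.snd b₁).2.1 = (TrivSqZeroExt.snd b₂).2.1 := (Prod.ext_iff.1 e₁').2
            exact TrivSqZeroExt.ext e₀ (Prod.ext c₁ (Prod.ext c₂ e₂))
          · intro a a' e
            exact ⟨((a.fst, (a.snd.1, a.snd.2, a'.snd)) : k × k × k × k),
              TrivSqZeroExt.ext rfl rfl, TrivSqZeroExt.ext e rfl⟩
        obtain ⟨z, rfl, rfl⟩ := (surjective_cmp_iff hB).1 (h2 _ _ hB).2 z₂ w
          (@Subsingleton.elim _ h0.2 _ _)
        simp only [map_map, add_map]
        refine map_congr_eps (fun a => ?_) _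
        simp only [comp_addHom, eps_addHom, add_assoc]
      neg_add_cancel := fun x => by
        change add (F.map (scale (-1)) x) x = zero
        conv_lhs => arg 2; rw [← map_id_apply x]
        rw [add_map, ← map_zero' x]
        refine map_congr_eps (fun a => ?_) _
        exact by
          rw [eps_addHom, eps_scale, Art.id_apply, eps_zeroHom, neg_one_mul, neg_add_cancel] }
  { addCommGroup := inferInstance
    module :=
      { smul := fun c x => F.map (scale c) x
        one_smul := fun x => by
          change F.map (scale 1) x = x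
          refine Eq.trans ?_ (map_id_apply x)
          refine map_congr_eps (fun a => ?_) _
          exact (eps_scale 1 a).trans (one_mul _)
        mul_smul := fun c d x => by
          change F.map (scale (c * d)) x = F.map (scale c) (F.map (scale d) x)
          rw [map_map]
          refine map_congr_eps (fun a => ?_) _
          exact (eps_scale (c * d) a).trans (mul_assoc c d _)
        smul_zero := fun c => by
          change F.map (scale c) zero = zero
          change F.map (scale c) (F.map baseToDual _) = F.map baseToDual _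
          rw [map_map]
          refine map_congr_eps (fun a => ?_) _
          exact mul_zero c
        smul_add := fun c x y => by
          change F.map (scale c) (add x y) = add (F.map (scale c) x) (F.map (scale c) y)
          obtain ⟨z, rfl, rfl⟩ := exists_dual2 h0 h2 x y
          rw [add_map, map_map, map_map, map_map, add_map]
          refine map_congr_eps (fun a => ?_) _
          refine (eps_scale c (addHom pr₁ pr₂ a)).trans ((congrArg (c * ·) (eps_addHom pr₁ pr₂ a)).trans ?_)
          exact (mul_add c _ _).trans (eps_addHom (pr₁ ≫ scale c) (pr₂ ≫ scale c) a).symm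
        add_smul := fun c d x => by
          change F.map (scale (c + d)) x = add (F.map (scale c) x) (F.map (scale d) x)
          rw [add_map]
          refine map_congr_eps (fun a => ?_) _
          rw [eps_addHom, eps_scale, eps_scale, eps_scale, add_mul]
        zero_smul := fun x => by
          change F.map (scale 0) x = zero
          rw [scale_zero_eq, map_zero'] }
    smul_eq := fun _ _ => rfl
    add_eq := fun z => by
      change add _ _ = _
      rw [add_map]
      refine map_congr_eps (fun a => ?_) _
      exact (eps_addHom _ _ a).trans (eps_plus a).symm }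

end Existence

section Structured

variable [T : TangentStr F]

/-- The image of `z` in the tangent space along `a`. -/
def tan {E : Art Λ k} (a : E ⟶ dual Λ k) (z : F.obj E) : TangentSpace F := F.map a z

omit T in
lemma tan_id (x : TangentSpace F) : tan (𝟙 (dual Λ k)) x = x := map_id_apply (F := F) (A := dual Λ k) x

omit T in
lemma tan_map {E E' : Art Λ k} (g : E ⟶ E') (a : E' ⟶ dual Λ k) (z : F.obj E) :
    tan a (F.map g z) = tan (g ≫ a) z := map_map g a z

lemma tan_add {E : Art Λ k} (a b : E ⟶ dual Λ k) (z : F.obj E) :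
    tan a z + tan b z = tan (addHom a b) z := by
  have h := T.add_eq (F.map (fibreLift isFibreProd_dual2 a b ((eq_toBase _).trans (eq_toBase _).symm)) z)
  rw [map_map, map_map, map_map, fibreLift_fst, fibreLift_snd] at h
  exact h

lemma smul_tan {E : Art Λ k} (c : k) (a : E ⟶ dual Λ k) (z : F.obj E) :
    c • tan a z = tan (a ≫ scale c) z :=
  (T.smul_eq c (F.map a z)).trans (map_map a (scale c) z)

lemma tan_zeroHom {E : Art Λ k} (z : F.obj E) : tan (zeroHom E) z = 0 := by
  have h : zeroHom E = zeroHom E ≫ scale 0 := dual_hom_ext fun a => by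
    rw [eps_zeroHom]
    exact (zero_mul _).symm
  rw [h, ← smul_tan, zero_smul]

lemma tan_eq_zero_of_eps {E : Art Λ k} {a : E ⟶ dual Λ k} (h : ∀ x, eps (a x) = 0) (z : F.obj E) :
    tan a z = 0 := by
  rw [show a = zeroHom E from dual_hom_ext fun x => (h x).trans (eps_zeroHom x).symm, tan_zeroHom]

omit T in
lemma exists_pair (h0 : H0 F) (h2 : Heps F) (x y : TangentSpace F) :
    ∃ z : F.obj (dual2 Λ k), tan pr₁ z = x ∧ tan pr₂ z = y :=
  exists_dual2 h0 h2 x y

end Structured

theorem exists_linearMap_tangentMap [TangentStr F] [TangentStr G] (h0 : H0 F) (h2 : Heps F)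
    (φ : F ⟶ G) : ∃ f : TangentSpace F →ₗ[k] TangentSpace G, ⇑f = TangentSpace.map φ := by
  have hnat : ∀ {E : Art Λ k} (a : E ⟶ dual Λ k) (z : F.obj E),
      TangentSpace.map φ (tan a z) = tan a (φ.app E z) :=
    fun a z => NatTrans.naturality_apply φ a z
  refine ⟨{ toFun := TangentSpace.map φ, map_add' := fun x y => ?_, map_smul' := fun c x => ?_ }, rfl⟩
  · obtain ⟨z, rfl, rfl⟩ := exists_pair h0 h2 x y
    rw [tan_add, hnat, hnat, hnat, tan_add]
  · have h1 : c • x = tan (𝟙 (dual Λ k) ≫ scale c) (x : F.obj (dual Λ k)) :=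
      (congrArg (c • ·) (tan_id x)).symm.trans (smul_tan c (𝟙 (dual Λ k)) x)
    have h2 : TangentSpace.map φ x = tan (𝟙 (dual Λ k)) (φ.app (dual Λ k) x) :=
      (congrArg (TangentSpace.map φ) (tan_id x)).symm.trans (hnat (𝟙 (dual Λ k)) x)
    rw [h1, h2, RingHom.id_apply]
    exact (hnat (𝟙 (dual Λ k) ≫ scale c) x).trans (smul_tan c (𝟙 (dual Λ k)) _).symm

end Groth.Agent.ArtF85
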