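import Groth.Agent.ArtF85.SmoothTan
import Groth.Agent.ArtF85.SqObj

/-!
# Construction of versal families
-/

set_option autoImplicit false
set_option linter.style.haveILetI false

universe u v

open CategoryTheory

namespace Groth.Agent.ArtF85

open ArtFun ArtFun.Art

variable {Λ : Type u} {k : Type u} [CommRing Λ] [Field k] [Algebra Λ k]
variable {F : Art Λ k ⥤ Type v}

/-- The inductive step: the least quotient of `S` over which `x` lifts. -/
theorem exists_next (h1 : S1 F) (S : CRing Λ k) (T : Art Λ k) (π : HomSet S.carrier S.res T)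
    (hπ : Function.Surjective π.1) (x : F.obj T) :
    ∃ (T' : Art Λ k) (π' : HomSet S.carrier S.res T') (f : T' ⟶ T) (x' : F.obj T'),
      Function.Surjective π'.1 ∧ HomSet.map f π' = π ∧ F.map f x' = x ∧
      ∀ (C : Art Λ k) (q : C ⟶ T) (χ : HomSet S.carrier S.res C), IsSemismallExt q →
        Function.Surjective χ.1 → HomSet.map q χ = π → (∃ y, F.map q y = x) →
        RingHom.ker π'.1 ≤ RingHom.ker χ.1 := by
  obtain ⟨N, hN⟩ := exists_mpow_le_ker S π
  set Tr := S.trunc (N + 1) with hTr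
  set τ := S.truncHom (N + 1) with hτ
  have hτs : Function.Surjective τ.1 := truncHom_surjective S (N + 1)
  obtain ⟨g, hg⟩ := homSet_factor τ hτs π
    ((ker_truncHom S (N + 1)).trans_le ((Ideal.pow_le_pow_right (Nat.le_succ _)).trans hN))
  have hgs : Function.Surjective g := fun y => by
    obtain ⟨s, rfl⟩ := hπ y
    exact ⟨τ.1 s, congrArg (fun t : HomSet S.carrier S.res T => t.1 s) hg⟩
  set K : Ideal Tr := IsLocalRing.maximalIdeal Tr * RingHom.ker g.toAlgHom with hKdef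
  have hK : K ≤ IsLocalRing.maximalIdeal Tr := Ideal.mul_le_right.trans (ker_le_maximalIdeal g)
  have hKg : K ≤ RingHom.ker g.toAlgHom := Ideal.mul_le_right
  set B := quot Tr K hK with hB
  set p := quotFactor hK g hKg with hp'
  have hp : IsSemismallExt p := by
    refine ⟨surjective_of_surjective_comp (f := quotMk Tr K hK)
      ((quotMk_quotFactor hK g hKg).symm ▸ hgs), ?_⟩
    rw [eq_bot_iff, Ideal.mul_le]
    intro a ha b hb
    obtain ⟨a, rfl⟩ := quotMk_surjective Tr K hK a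
    obtain ⟨b, rfl⟩ := quotMk_surjective Tr K hK b
    rw [mem_maximalIdeal_iff, res_app, ← mem_maximalIdeal_iff] at ha
    have hb' : b ∈ RingHom.ker g.toAlgHom := RingHom.mem_ker.2 (RingHom.mem_ker.1 hb)
    rw [Ideal.mem_bot, ← map_mul]
    exact Ideal.Quotient.eq_zero_iff_mem.2 (Ideal.mul_mem_mul ha hb')
  obtain ⟨J₀, hJ₀, hJ₀', ⟨x', hx'⟩, hleast⟩ := exists_least_lift h1 p hp x
  refine ⟨quot B J₀ hJ₀', HomSet.map (quotMk B J₀ hJ₀') (HomSet.map (quotMk Tr K hK) τ),
    quotFactor hJ₀' p hJ₀, x', ?_, ?_, hx', ?_⟩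
  · exact (quotMk_surjective B J₀ hJ₀').comp ((quotMk_surjective Tr K hK).comp hτs)
  · rw [homSet_map_map, quotMk_quotFactor, homSet_map_map, quotMk_quotFactor, hg]
  intro C q χ hq hχ hqχ hy
  have hker : CRing.mpow S (N + 1) ≤ RingHom.ker χ.1 := by
    change IsLocalRing.maximalIdeal S.carrier ^ (N + 1 + 1) ≤ _
    rw [pow_succ', Ideal.mul_le]
    intro a ha b hb
    rw [RingHom.mem_ker, map_mul]
    refine mul_eq_zero_of_isSemismallExt hq ?_ ?_
    · rw [mem_maximalIdeal_iff, res_homSet_apply, ← CRing.mem_maximalIdeal_iff]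
      exact ha
    · rw [← homSet_map_apply q, hqχ]
      exact RingHom.mem_ker.1 (hN hb)
  obtain ⟨G, hG⟩ := homSet_factor τ hτs χ ((ker_truncHom S (N + 1)).trans_le hker)
  have hGq : G ≫ q = g := hom_ext_apply fun t => by
    obtain ⟨s, rfl⟩ := hτs t
    rw [Art.comp_apply, ← homSet_map_apply G, hG, ← homSet_map_apply q, hqχ, ← hg, homSet_map_apply]
  have hKG : K ≤ RingHom.ker G.toAlgHom := by
    rw [hKdef, Ideal.mul_le]
    intro a ha b hb
    rw [RingHom.mem_ker, map_mul]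
    refine mul_eq_zero_of_isSemismallExt hq ?_ ?_
    · rw [mem_maximalIdeal_iff, res_app, ← mem_maximalIdeal_iff]
      exact ha
    · rw [← Art.comp_apply G q, hGq]
      exact RingHom.mem_ker.1 hb
  set G' := quotFactor hK G hKG with hG'
  have hG'q : G' ≫ q = p := hom_ext_apply fun t => by
    obtain ⟨t, rfl⟩ := quotMk_surjective Tr K hK t
    exact congrArg (fun φ : Tr ⟶ T => φ t) hGq
  have hJ : RingHom.ker G'.toAlgHom ≤ RingHom.ker p.toAlgHom := fun t ht => by
    rw [RingHom.mem_ker] at ht ⊢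
    rw [← hG'q]
    exact (congrArg q.toAlgHom ht).trans (map_zero _)
  have hJ' := ker_le_maximalIdeal G'
  have hbij : Function.Bijective (quotFactor hJ' G' le_rfl) := by
    refine ⟨fun a b e => ?_, fun c => ?_⟩
    · obtain ⟨a, rfl⟩ := quotMk_surjective B _ hJ' a
      obtain ⟨b, rfl⟩ := quotMk_surjective B _ hJ' b
      exact Ideal.Quotient.eq.2 ((sub_mem_ker_iff G' a b).2 e)
    · obtain ⟨s, rfl⟩ := hχ c
      refine ⟨quotMk B _ hJ' (quotMk Tr K hK (τ.1 s)), ?_⟩
      exact congrArg (fun t : HomSet S.carrier S.res C => t.1 s) hG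
  obtain ⟨y, hy⟩ := hy
  obtain ⟨y', hy'⟩ := (map_bijective F _ hbij).2 y
  have hle := hleast _ hJ hJ' ⟨y', by
    rw [show quotFactor hJ' p hJ = quotFactor hJ' G' le_rfl ≫ q from hom_ext_apply fun a => by
      obtain ⟨a, rfl⟩ := quotMk_surjective B _ hJ' a
      exact (congrArg (fun φ : B ⟶ T => φ a) hG'q).symm, ← map_map, hy', hy]⟩
  intro s hs
  rw [RingHom.mem_ker, ← hG]
  have hmem : quotMk Tr K hK (τ.1 s) ∈ J₀ := Ideal.Quotient.eq_zero_iff_mem.1 (RingHom.mem_ker.1 hs)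
  exact RingHom.mem_ker.1 (hle hmem)

variable [IsNoetherianRing Λ] [Module.Finite Λ k]

/-- A versal family whose tangent map is described by `θ`. -/
theorem exists_versal [TangentStr F] (h0 : H0 F) (h1 : S1 F) (h2 : Heps F) {n : ℕ}
    (θ : Fin n → TangentSpace F) (pt : F.obj (base Λ k))
    (hspan : ∀ x : TangentSpace F, ∃ (d : base Λ k ⟶ dual Λ k) (c : Fin n → k),
      x = tan d pt + ∑ j, c j • θ j) :
    ∃ (R : CRing Λ k) (ξ : Family R.carrier R.res F), IsVersal ξ ∧
      ∀ δ : HomSet R.carrier R.res (dual Λ k), ∃ (d : base Λ k ⟶ dual Λ k) (c : Fin n → k),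
        TangentSpace.ofFamily ξ δ = tan d pt + ∑ j, c j • θ j ∧
          (c = 0 → δ = HomSet.map d (homSetBase R.carrier R.res)) := by
  obtain ⟨z, hz⟩ := exists_universal h0 h2 θ
  have hbar : Hbar F := fun _ _ _ _ p' p'' f' f'' h hs => h1 p' p'' f' f'' h hs.1
  obtain ⟨S, π₁, hSsm, hπ₁, htan⟩ := exists_smooth_tangent (sqObj Λ k n)
  let State : Type _ := Σ T : Art Λ k, {p : HomSet S.carrier S.res T × F.obj T // Function.Surjective p.1.1}
  have hnext : ∀ st : State, ∃ (st' : State) (f : st'.1 ⟶ st.1),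
      HomSet.map f st'.2.1.1 = st.2.1.1 ∧ F.map f st'.2.1.2 = st.2.1.2 ∧
      ∀ (C : Art Λ k) (q : C ⟶ st.1) (χ : HomSet S.carrier S.res C), IsSemismallExt q →
        Function.Surjective χ.1 → HomSet.map q χ = st.2.1.1 → (∃ y, F.map q y = st.2.1.2) →
        RingHom.ker st'.2.1.1.1 ≤ RingHom.ker χ.1 := fun st => by
    obtain ⟨T', π', f, x', hs, hf, hx, hl⟩ := exists_next h1 S st.1 st.2.1.1 st.2.2 st.2.1.2
    exact ⟨⟨T', ⟨(π', x'), hs⟩⟩, f, hf, hx, hl⟩
  choose nxt fmap hfπ hfx hleast using hnext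
  let seq : ℕ → State := Nat.rec ⟨sqObj Λ k n, ⟨(π₁, z), hπ₁⟩⟩ (fun _ st => nxt st)
  let T : ℕ → Art Λ k := fun i => (seq i).1
  let π : ∀ i, HomSet S.carrier S.res (T i) := fun i => (seq i).2.1.1
  let x : ∀ i, F.obj (T i) := fun i => (seq i).2.1.2
  have hπs : ∀ i, Function.Surjective (π i).1 := fun i => (seq i).2.2
  let f : ∀ i, T (i + 1) ⟶ T i := fun i => fmap (seq i)
  have hJ : Antitone fun i => RingHom.ker (π i).1 := antitone_nat_of_succ_le fun i s hs => by
    rw [RingHom.mem_ker] at hs ⊢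
    rw [← show HomSet.map (f i) (π (i + 1)) = π i from hfπ (seq i), homSet_map_apply, hs, map_zero]
  set J := ⨅ i, RingHom.ker (π i).1 with hJdef
  have hJm : J ≤ IsLocalRing.maximalIdeal S.carrier := fun a ha => by
    rw [CRing.mem_maximalIdeal_iff, ← res_homSet_apply (π 0) a,
      RingHom.mem_ker.1 ((iInf_le _ 0 : J ≤ _) ha), map_zero]
  let R := cringQuot S J hJm
  let πb : ∀ i, HomSet R.carrier R.res (T i) := fun i => descend hJm (π i) (iInf_le _ i)
  have hπb : ∀ i, Function.Surjective (πb i).1 := fun i t => by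
    obtain ⟨s, rfl⟩ := hπs i t
    exact ⟨cringMk S J hJm s, rfl⟩
  let sys : RSys R.carrier R.res :=
    { T := T
      π := πb
      surj := hπb
      f := f
      map_π := fun i => homSet_ext fun a => by
        obtain ⟨a, rfl⟩ := cringMk_surjective S J hJm a
        exact congrArg (fun t : HomSet S.carrier S.res (T i) => t.1 a) (hfπ (seq i))
      cofinal := fun {A} φ => by
        obtain ⟨N, hN⟩ := exists_mpow_le_ker S (ascend hJm φ)
        obtain ⟨i, hi⟩ := exists_le_sup_mpow (fun i => RingHom.ker (π i).1) hJ N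
        refine ⟨i, fun a ha => ?_⟩
        obtain ⟨a, rfl⟩ := cringMk_surjective S J hJm a
        exact RingHom.mem_ker.2 (RingHom.mem_ker.1
          ((sup_le (le_ker_ascend hJm φ) hN) (hi (RingHom.mem_ker.2 (RingHom.mem_ker.1 ha))))) }
  let ξ : Family R.carrier R.res F := sys.family x (fun i => hfx (seq i))
  have hξπ : ∀ i, ξ.app (T i) (πb i) = x i := sys.family_app_π x _
  have hδ : ∀ δ : HomSet R.carrier R.res (dual Λ k), ∃ (d : base Λ k ⟶ dual Λ k) (c : Fin n → k),
      TangentSpace.ofFamily ξ δ = tan d pt + ∑ j, c j • θ j ∧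
        (c = 0 → δ = HomSet.map d (homSetBase R.carrier R.res)) := by
    intro δ
    obtain ⟨h, hh⟩ := htan (ascend hJm δ)
    have hδh : HomSet.map h (πb 0) = δ := homSet_ext fun a => by
      obtain ⟨a, rfl⟩ := cringMk_surjective S J hJm a
      exact congrArg (fun t : HomSet S.carrier S.res (dual Λ k) => t.1 a) hh
    obtain ⟨d, L, rfl⟩ := exists_decomp h
    refine ⟨d, fun j => L (Pi.single j 1), ?_, fun hc => ?_⟩
    · change ξ.app _ δ = _
      rw [← hδh, ξ.natural]
      refine (congrArg (F.map (addHom (toBase _ ≫ d) (sqLin L))) (hξπ 0)).trans ?_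
      change tan (addHom _ _) z = _
      rw [← tan_add, tan_sqLin hz]
      congr 1
      change F.map (toBase _ ≫ d) z = F.map d pt
      rw [← map_map]
      exact congrArg (F.map d) (@Subsingleton.elim _ h0.2 _ _)
    · have hL : L = 0 := LinearMap.pi_ext fun j a => by
        rw [show (Pi.single j a : Fin n → k) = a • Pi.single j 1 by
          rw [← Pi.single_smul, smul_eq_mul, mul_one], map_smul, congrFun hc j]
        simp
      rw [← hδh]
      refine dual_homSet_ext fun a => ?_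
      rw [homSet_map_apply, eps_addHom, eps_sqLin, hL, LinearMap.zero_apply, add_zero, homSet_map_apply,
        Art.comp_apply]
      exact congrArg (fun t => eps (d t)) (res_homSet_apply (πb 0) a)
  refine ⟨R, ξ, (isVersal_iff h0 hbar h2 ξ).2 ⟨fun y => ?_, ?_⟩, hδ⟩
  · obtain ⟨d, c, hy⟩ := hspan y
    let L : (Fin n → k) →ₗ[k] k := ∑ j, c j • LinearMap.proj j
    refine ⟨HomSet.map (addHom (toBase _ ≫ d) (sqLin L)) (πb 0), ?_⟩
    rw [ξ.natural]
    refine (congrArg (F.map (addHom (toBase _ ≫ d) (sqLin L))) (hξπ 0)).trans ?_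
    change tan (addHom _ _) z = _
    rw [← tan_add, tan_sqLin hz, hy]
    congr 1
    · change F.map (toBase _ ≫ d) z = F.map d pt
      rw [← map_map]
      exact congrArg (F.map d) (@Subsingleton.elim _ h0.2 _ _)
    · refine Finset.sum_congr rfl fun j _ => ?_
      simp [L, Pi.single_apply]
  intro B A μ hμ φ y hy
  obtain ⟨i, hi⟩ := sys.cofinal φ
  let g : T i ⟶ A := sys.factor φ hi
  have hg : HomSet.map g (πb i) = φ := sys.map_factor φ hi
  obtain ⟨C, c₁, c₂, hC⟩ := exists_fibreProd g μ hμ.1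
  obtain ⟨ψ₀', e₀'⟩ := hSsm μ hμ.1 (ascend hJm φ)
  let ψ₀ : HomSet S.carrier S.res B := ψ₀'
  have e₀ : HomSet.map μ ψ₀ = ascend hJm φ := e₀'
  obtain ⟨χ, hχ₁, hχ₂⟩ := exists_homSet_lift hC (π i) ψ₀ (by
    rw [e₀]
    exact homSet_ext fun a =>
      congrArg (fun t : HomSet R.carrier R.res A => t.1 (cringMk S J hJm a)) hg)
  have hgoal : ∀ j (G : T j ⟶ C), HomSet.map (G ≫ c₁) (π j) = π i →
      ∃ ψ : HomSet R.carrier R.res B, HomSet.map μ ψ = φ := fun j G hG => by
    refine ⟨HomSet.map (G ≫ c₂) (πb j), ?_⟩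
    rw [homSet_map_map, Category.assoc, ← hC.w, ← Category.assoc, ← homSet_map_map, ← hg]
    refine congrArg (HomSet.map g) (homSet_ext fun a => ?_)
    obtain ⟨a, rfl⟩ := cringMk_surjective S J hJm a
    exact congrArg (fun t : HomSet S.carrier S.res (T i) => t.1 a) hG
  by_cases hcase : RingHom.ker (π i).1 ≤ RingHom.ker χ.1
  · obtain ⟨G, hG⟩ := homSet_factor (π i) (hπs i) χ hcase
    exact hgoal i G (by rw [← homSet_map_map, hG, hχ₁])
  obtain ⟨t, ht0, hker, htm⟩ := exists_generator hμ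
  have hc₁ : IsSemismallExt c₁ := by
    refine ⟨surjective_fst hC hμ.1, ?_⟩
    rw [eq_bot_iff, Ideal.mul_le]
    intro a ha b hb
    rw [RingHom.mem_ker] at hb
    rw [Ideal.mem_bot]
    refine hC.inj _ _ (by rw [map_mul, hb, mul_zero, map_zero]) ?_
    rw [map_mul, map_zero]
    refine mul_eq_zero_of_isSemismallExt hμ.isSemismallExt ?_ (by rw [← hC.w_apply, hb, map_zero])
    rwa [mem_maximalIdeal_iff, res_app, ← mem_maximalIdeal_iff]
  obtain ⟨s, hs, hs'⟩ := SetLike.not_le_iff_exists.1 hcase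
  have h1s : c₁ (χ.1 s) = 0 := by rw [← homSet_map_apply c₁, hχ₁]; exact RingHom.mem_ker.1 hs
  have h2s : c₂ (χ.1 s) ∈ RingHom.ker μ.toAlgHom := by
    rw [RingHom.mem_ker, ← hC.w_apply, h1s, map_zero]
  rw [hker] at h2s
  obtain ⟨e, he⟩ := Ideal.mem_span_singleton'.1 h2s
  have he0 : B.res e ≠ 0 := fun h0' => hs' (RingHom.mem_ker.2 (hC.inj _ _ (by rw [h1s, map_zero]) (by
    rw [map_zero, ← he]
    exact htm e ((mem_maximalIdeal_iff B e).2 h0'))))
  have hχs : Function.Surjective χ.1 := by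
    intro c
    obtain ⟨a, ha⟩ := hπs i (c₁ c)
    have h1a : c₁ (c - χ.1 a) = 0 := by rw [map_sub, ← homSet_map_apply c₁, hχ₁, ha, sub_self]
    have h2a : c₂ (c - χ.1 a) ∈ RingHom.ker μ.toAlgHom := by
      rw [RingHom.mem_ker, ← hC.w_apply, h1a, map_zero]
    rw [hker] at h2a
    obtain ⟨l, hl⟩ := Ideal.mem_span_singleton'.1 h2a
    obtain ⟨b, hb⟩ := S.res_surjective (B.res l / B.res e)
    refine ⟨a + b * s, (eq_of_sub_eq_zero ?_).symm⟩
    refine hC.inj _ _ ?_ ?_
    · rw [map_add, map_mul, ← sub_sub, map_sub, h1a, map_mul, h1s, mul_zero, sub_zero, map_zero]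
    · rw [map_add, map_mul, ← sub_sub, map_sub, ← hl, map_mul, ← he, map_zero, ← mul_assoc, sub_eq_zero]
      refine mul_eq_mul_of_res_eq htm ?_
      rw [map_mul, res_app, res_homSet_apply, hb, div_mul_cancel₀ _ he0]
  obtain ⟨y', hy'₁, -⟩ := (surjective_cmp_iff hC).1 (h1 _ _ _ _ hC hμ.1) (x i) y (by
    rw [hy, ← hg, ξ.natural, hξπ])
  obtain ⟨G, hG⟩ := homSet_factor (π (i + 1)) (hπs (i + 1)) χ
    (hleast (seq i) C c₁ χ hc₁ hχs hχ₁ ⟨y', hy'₁⟩)
  exact hgoal (i + 1) G (by rw [← homSet_map_map, hG, hχ₁])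

/-- A versal family minimal on tangent spaces. -/
theorem exists_minimal_versal [TangentStr F] (h0 : H0 F) (h1 : S1 F) (h2 : Heps F) (h3 : Hfin F) :
    ∃ (R : CRing Λ k) (ξ : Family R.carrier R.res F), IsVersal ξ ∧
      ∀ δ : HomSet R.carrier R.res (dual Λ k), TangentSpace.ofFamily ξ δ = 0 →
        ∃ d : base Λ k ⟶ dual Λ k, δ = HomSet.map d (homSetBase R.carrier R.res) ∧
          tan d h0.1.some = 0 := by
  haveI : Module.Finite k (TangentSpace F) := h3
  set pt := h0.1.some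
  let U : Submodule k (TangentSpace F) :=
    { carrier := Set.range fun d : base Λ k ⟶ dual Λ k => tan d pt
      zero_mem' := ⟨zeroHom _, tan_zeroHom pt⟩
      add_mem' := by
        rintro _ _ ⟨a, rfl⟩ ⟨b, rfl⟩
        exact ⟨addHom a b, (tan_add a b pt).symm⟩
      smul_mem' := by
        rintro c _ ⟨a, rfl⟩
        exact ⟨a ≫ scale c, (smul_tan c a pt).symm⟩ }
  obtain ⟨V, hV⟩ := Submodule.exists_isCompl U
  let b := Module.finBasis k V
  obtain ⟨R, ξ, hξ, hδ⟩ := exists_versal h0 h1 h2 (fun j => (b j : TangentSpace F)) pt fun x => by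
    obtain ⟨u, hu, w, hw, rfl⟩ := Submodule.mem_sup.1 (hV.sup_eq_top ▸ Submodule.mem_top (x := x))
    obtain ⟨d, rfl⟩ := hu
    refine ⟨d, fun j => b.repr ⟨w, hw⟩ j, congrArg (tan d pt + ·) ?_⟩
    have h := congrArg V.subtype (b.sum_repr ⟨w, hw⟩)
    simp only [map_sum, map_smul, Submodule.subtype_apply] at h
    exact h.symm
  refine ⟨R, ξ, hξ, fun δ h => ?_⟩
  obtain ⟨d, c, hdc, hc0⟩ := hδ δ
  rw [h] at hdc
  have hmem : ∑ j, c j • (b j : TangentSpace F) ∈ U ⊓ V := by
    refine ⟨?_, Submodule.sum_mem _ fun j _ => V.smul_mem _ (b j).2⟩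
    rw [eq_neg_of_add_eq_zero_right hdc.symm]
    exact U.neg_mem ⟨d, rfl⟩
  rw [hV.inf_eq_bot, Submodule.mem_bot] at hmem
  have hc : c = 0 := by
    funext j
    refine Fintype.linearIndependent_iff.1 b.linearIndependent c ?_ j
    exact Subtype.ext (by simpa using hmem)
  refine ⟨d, hc0 hc, ?_⟩
  rw [hmem, add_zero] at hdc
  exact hdc.symm

end Groth.Agent.ArtF85
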