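import Groth.Agent.ArtF85.Retract
import Groth.Agent.ArtF85.PowerSeries

/-!
# Versal families are minimal versal families with free variables adjoined
-/

set_option autoImplicit false
set_option linter.style.haveILetI false

universe u v

open CategoryTheory

namespace Groth.Agent.ArtF85

open ArtFun ArtFun.Art

variable {Λ : Type u} {k : Type u} [CommRing Λ] [Field k] [Algebra Λ k] [IsNoetherianRing Λ] [Module.Finite Λ k]
variable {F : Art Λ k ⥤ Type v}

/-- Versal lifts can be prescribed on the first truncation. -/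
theorem exists_along_of_trunc_one {R : CRing Λ k} (ξ : Family R.carrier R.res F) (hξ : IsVersal ξ) (S : CRing Λ k)
    (η : FormalElt F S) (G₁ : HomSet R.carrier R.res (S.trunc 1)) (h₁ : ξ.app _ G₁ = η.elt 1) :
    ∃ (G : R.carrier →ₐ[Λ] S.carrier) (_ : S.res.comp G = R.res),
      ∀ r, (S.truncHom 1).1 (G r) = G₁.1 r := by
  have step : ∀ n (ψ : {φ : HomSet R.carrier R.res (S.trunc (n + 1)) // ξ.app _ φ = η.elt (n + 1)}),
      ∃ ψ' : {φ : HomSet R.carrier R.res (S.trunc (n + 2)) // ξ.app _ φ = η.elt (n + 2)},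
        HomSet.map (S.truncMap (n + 1)) ψ'.1 = ψ.1 := fun n ψ => by
    obtain ⟨ψ', e₁, e₂⟩ := hξ (S.truncMap (n + 1)) (truncMap_surjective S (n + 1)) ψ.1 (η.elt (n + 2))
      (by rw [η.compat, ψ.2])
    exact ⟨⟨ψ', e₂⟩, e₁⟩
  choose next hnext using step
  let seq : ∀ n, {φ : HomSet R.carrier R.res (S.trunc (n + 1)) // ξ.app _ φ = η.elt (n + 1)} :=
    Nat.rec ⟨G₁, h₁⟩ (fun n ψ => next n ψ)
  let fam : ∀ n, HomSet R.carrier R.res (S.trunc n) := fun n => match n with
    | 0 => HomSet.map (S.truncMap 0) (seq 0).1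
    | n + 1 => (seq n).1
  obtain ⟨G, hG, hGn⟩ := exists_hom_of_compat S fam fun n => match n with
    | 0 => rfl
    | n + 1 => hnext n (seq n)
  exact ⟨G, hG, hGn 1⟩

/-- A coefficient ring retracting onto another one by a versal retraction is a power series ring over it. -/
theorem exists_equiv_powerSeries_of_retract {R R' : CRing Λ k} (ξ : Family R.carrier R.res F) (hξ : IsVersal ξ)
    (ξ' : Family R'.carrier R'.res F) (i : R'.carrier →ₐ[Λ] R.carrier) (hi : R.res.comp i = R'.res)
    (p : R.carrier →ₐ[Λ] R'.carrier) (hp : R'.res.comp p = R.res) (hpi : p.comp i = AlgHom.id Λ R'.carrier)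
    (hξi : ξ'.along i hi = ξ) :
    ∃ (n : ℕ) (e : R.carrier ≃ₐ[Λ] (psRing R' n).carrier), ∀ a, e (i a) = psC R' n a := by
  classical
  set m := IsLocalRing.maximalIdeal R.carrier
  have hpi' : ∀ a, p (i a) = a := AlgHom.congr_fun hpi
  have hIm : RingHom.ker p ≤ m := fun z hz => by
    rw [R.mem_maximalIdeal_iff, ← hp, AlgHom.comp_apply, RingHom.mem_ker.1 hz, map_zero]
  have hker : ∀ c, c - i (p c) ∈ RingHom.ker p := fun c => by rw [RingHom.mem_ker, map_sub, hpi', sub_self]
  have hproj : ∀ z ∈ m ^ 2, z - i (p z) ∈ m * RingHom.ker p := by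
    intro z hz
    rw [pow_two] at hz
    induction hz using Submodule.mul_induction_on' with
    | mem_mul_mem a ha b hb =>
      have hia : i (p a) ∈ m := by
        rw [R.mem_maximalIdeal_iff, show R.res (i (p a)) = R'.res (p a) from AlgHom.congr_fun hi _,
          show R'.res (p a) = R.res a from AlgHom.congr_fun hp a, ← R.mem_maximalIdeal_iff]
        exact ha
      have e : a * b - i (p (a * b)) = b * (a - i (p a)) + i (p a) * (b - i (p b)) := by
        rw [map_mul, map_mul]; ring
      rw [e]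
      exact Ideal.add_mem _ (Ideal.mul_mem_mul hb (hker a)) (Ideal.mul_mem_mul hia (hker b))
    | add a _ b _ ha hb =>
      convert Ideal.add_mem _ ha hb using 1
      simp only [map_add]
      ring
  have hex : ∃ n, ∃ x : Fin n → R.carrier, Ideal.span (Set.range x) = RingHom.ker p :=
    let ⟨n, x, hx⟩ := Submodule.fg_iff_exists_fin_generating_family.1 (IsNoetherian.noetherian (RingHom.ker p))
    ⟨n, x, hx⟩
  obtain ⟨n, hn⟩ : ∃ n, n = Nat.find hex := ⟨_, rfl⟩
  obtain ⟨x, hx⟩ : ∃ x : Fin n → R.carrier, Ideal.span (Set.range x) = RingHom.ker p := hn ▸ Nat.find_spec hex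
  have hxI : ∀ j, x j ∈ RingHom.ker p := fun j => hx ▸ Ideal.subset_span ⟨j, rfl⟩
  have hmin : ∀ c : Fin n → R.carrier, ∑ j, c j * x j ∈ m * RingHom.ker p → ∀ j, c j ∈ m := by
    intro c hc j
    by_contra hu
    obtain ⟨q, hq⟩ : ∃ q, n = q + 1 := Nat.exists_eq_succ_of_ne_zero (fun h0 => (h0 ▸ j).elim0)
    set Q := Ideal.span (Set.range fun l : {l // l ≠ j} => x l.1)
    have hxj : x j ∈ Q ⊔ m * RingHom.ker p := by
      rw [← Finset.add_sum_erase _ _ (Finset.mem_univ j)] at hc
      refine (Ideal.unit_mul_mem_iff_mem _ (IsLocalRing.notMem_maximalIdeal.1 hu)).1 ?_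
      rw [← add_sub_cancel_right (c j * x j) (∑ l ∈ Finset.univ.erase j, c l * x l)]
      refine Ideal.sub_mem _ (Submodule.mem_sup_right hc) (Submodule.mem_sup_left ?_)
      exact Submodule.sum_mem _ fun l hl => Ideal.mul_mem_left _ _
        (Ideal.subset_span ⟨⟨l, (Finset.mem_erase.1 hl).1⟩, rfl⟩)
    have hle : RingHom.ker p ≤ Q ⊔ m • RingHom.ker p := by
      rw [smul_eq_mul]
      conv_lhs => rw [← hx]
      refine Ideal.span_le.2 ?_
      rintro _ ⟨l, rfl⟩
      rcases eq_or_ne l j with rfl | hl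
      · exact hxj
      · exact Submodule.mem_sup_left (Ideal.subset_span ⟨⟨l, hl⟩, rfl⟩)
    have hle' : RingHom.ker p ≤ Q :=
      Submodule.le_of_le_smul_of_le_jacobson_bot (IsNoetherian.noetherian _)
        (IsLocalRing.maximalIdeal_le_jacobson _) hle
    let eq : {l : Fin n // l ≠ j} ≃ Fin q := Fintype.equivFinOfCardEq (by
      rw [Fintype.card_subtype_compl, Fintype.card_fin, Fintype.card_subtype_eq]
      omega)
    refine Nat.find_min hex (show q < Nat.find hex by omega) ⟨fun l => x (eq.symm l).1, le_antisymm ?_ ?_⟩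
    · exact Ideal.span_le.2 (by rintro _ ⟨l, rfl⟩; exact hxI _)
    · refine hle'.trans (Ideal.span_le.2 ?_)
      rintro _ ⟨l, rfl⟩
      exact Ideal.subset_span ⟨eq l, by simp⟩
  obtain ⟨φ, hφ, hφC, hφX⟩ := exists_psHom (R' := R') (n := n) R i x
    (fun j => (R.mem_maximalIdeal_iff _).1 (hIm (hxI j))) hi
  have hφC' : ∀ a, φ (psC R' n a) = i a := AlgHom.congr_fun hφC
  have hφs : Function.Surjective φ := by
    refine surjective_of_surjective_trunc φ hφ fun t => ?_
    obtain ⟨r, rfl⟩ := truncHom_surjective R 1 t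
    obtain ⟨c, hc⟩ := (Submodule.mem_span_range_iff_exists_fun _).1 (hx.symm ▸ hker r)
    refine ⟨psC R' n (p r) + ∑ j, psC R' n (p (c j)) * psX R' n j, ?_⟩
    refine sub_eq_zero.1 ?_
    rw [← map_sub, ← RingHom.mem_ker, ker_truncHom]
    change _ ∈ m ^ 2
    rw [map_add, map_sum]
    simp only [map_mul, hφC', hφX]
    have e : i (p r) + ∑ j, i (p (c j)) * x j - r = ∑ j, (i (p (c j)) - c j) * x j := by
      simp only [sub_mul, Finset.sum_sub_distrib]
      have hc' : ∑ j, c j * x j = r - i (p r) := hc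
      rw [hc']
      ring
    rw [e]
    refine Submodule.sum_mem _ fun j _ => ?_
    rw [pow_two]
    exact Ideal.mul_mem_mul (hIm (by rw [← neg_sub]; exact neg_mem (hker (c j)))) (hIm (hxI j))
  let φ₁ := CRing.truncMapOfHom φ hφ 1
  have hφ₁ : ∀ z, φ₁ (((psRing R' n).truncHom 1).1 z) = (R.truncHom 1).1 (φ z) := fun z => rfl
  have hφ₁b : Function.Bijective φ₁ := by
    refine ⟨(injective_iff_map_eq_zero φ₁.toAlgHom).2 fun t ht => ?_, fun t => ?_⟩
    · obtain ⟨z, rfl⟩ := truncHom_surjective (psRing R' n) 1 t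
      have hz : φ z ∈ m ^ 2 := by
        have h0 : (R.truncHom 1).1 (φ z) = 0 := ht
        rw [← RingHom.mem_ker, ker_truncHom] at h0
        exact h0
      rw [← RingHom.mem_ker, ker_truncHom]
      change z ∈ IsLocalRing.maximalIdeal (psRing R' n).carrier ^ 2
      let g : MvPowerSeries (Fin n) R'.carrier := z
      obtain ⟨d, hd⟩ := (Submodule.mem_span_range_iff_exists_fun _).1
        (mem_varIdeal_iff.2 (by rw [map_sub, MvPowerSeries.constantCoeff_C, sub_self]) :
          g - MvPowerSeries.C (MvPowerSeries.constantCoeff g) ∈ varIdeal R' n)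
      have hgd : g = MvPowerSeries.C (MvPowerSeries.constantCoeff g) + ∑ j, d j * MvPowerSeries.X j :=
        eq_add_of_sub_eq' hd.symm
      let d' : Fin n → (psRing R' n).carrier := d
      let c₀ : R'.carrier := MvPowerSeries.constantCoeff g
      let w : (psRing R' n).carrier := psC R' n c₀
      have hzd : z = w + ∑ j, (d' j * psX R' n j : (psRing R' n).carrier) := hgd
      have hpX : ∀ j, p (φ (psX R' n j)) = 0 := fun j => by rw [hφX]; exact RingHom.mem_ker.1 (hxI j)
      have hpφ : p (φ z) = c₀ := by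
        rw [hzd, map_add, map_add, show φ w = i c₀ from hφC' c₀, hpi', map_sum, map_sum]
        simp [map_mul, hpX]
      have h1 := hproj _ hz
      rw [hpφ] at h1
      have hsum : ∑ j, φ (d' j) * x j ∈ m * RingHom.ker p := by
        rw [hzd, map_add, map_sum, show φ w = i c₀ from hφC' c₀, add_sub_cancel_left] at h1
        simpa only [map_mul, hφX] using h1
      have hd'm : ∀ j, d' j ∈ IsLocalRing.maximalIdeal (psRing R' n).carrier := fun j => by
        rw [CRing.mem_maximalIdeal_iff, ← hφ, AlgHom.comp_apply, ← R.mem_maximalIdeal_iff]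
        exact hmin _ hsum j
      have hc : c₀ ∈ IsLocalRing.maximalIdeal R'.carrier ^ 2 := by
        rw [← hpφ]
        have := Ideal.mem_map_of_mem p hz
        rw [Ideal.map_pow] at this
        exact Ideal.pow_right_mono (map_maximalIdeal_le_of_res p hp) 2 this
      rw [hzd]
      refine Ideal.add_mem _ ?_ (Submodule.sum_mem _ fun j _ => ?_)
      · have := Ideal.mem_map_of_mem (psC R' n) hc
        rw [Ideal.map_pow] at this
        exact Ideal.pow_right_mono (map_maximalIdeal_le_of_res (psC R' n) (res_comp_psC R' n)) 2 this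
      · rw [pow_two]
        exact Ideal.mul_mem_mul (hd'm j) ((CRing.mem_maximalIdeal_iff _ _).2 (res_psX R' n j))
    · obtain ⟨r, rfl⟩ := truncHom_surjective R 1 t
      obtain ⟨z, rfl⟩ := hφs r
      exact ⟨((psRing R' n).truncHom 1).1 z, rfl⟩
  let G₁ := HomSet.map (invHom φ₁ hφ₁b) (R.truncHom 1)
  have hG₁ : ∀ z, G₁.1 (φ z) = ((psRing R' n).truncHom 1).1 z := fun z => by
    change invHom φ₁ hφ₁b ((R.truncHom 1).1 (φ z)) = _
    rw [← hφ₁]
    exact congrArg (fun f : (psRing R' n).trunc 1 ⟶ (psRing R' n).trunc 1 => f (((psRing R' n).truncHom 1).1 z))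
      (comp_invHom φ₁ hφ₁b)
  let η := ξ'.along (psC R' n) (res_comp_psC R' n)
  have hG₁ξ : ξ.app _ G₁ = η.toFormalElt.elt 1 := by
    rw [← hξi]
    exact congrArg (ξ'.app _) (homSet_ext fun a => (congrArg G₁.1 (hφC' a).symm).trans (hG₁ _))
  obtain ⟨G, hG, hG1⟩ := exists_along_of_trunc_one ξ hξ (psRing R' n) η.toFormalElt G₁ hG₁ξ
  have hGφ : Function.Surjective (G.comp φ) := by
    refine surjective_of_surjective_trunc (G.comp φ) (by rw [← AlgHom.comp_assoc, hG, hφ]) fun t => ?_
    obtain ⟨z, rfl⟩ := truncHom_surjective (psRing R' n) 1 t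
    exact ⟨z, (hG1 _).trans (hG₁ z)⟩
  have hinj : Function.Injective φ := fun a b e =>
    injective_of_surjective_endo (G.comp φ).toRingHom hGφ (congrArg G e)
  refine ⟨n, (AlgEquiv.ofBijective φ ⟨hinj, hφs⟩).symm, fun a => ?_⟩
  rw [AlgEquiv.symm_apply_eq]
  exact (hφC' a).symm

theorem versal_eq_minimalVersal_along_powerSeries (h0 : H0 F) (V : VersalPair F) :
    ∃ (R' : CRing Λ k) (ξ' : Family R'.carrier R'.res F), ξ'.IsMinimalVersal ∧
      ∃ (g : R'.carrier →ₐ[Λ] V.ring.carrier) (hg : V.ring.res.comp g = R'.res)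
        (n : ℕ) (e : V.ring.carrier ≃ₐ[Λ] MvPowerSeries (Fin n) R'.carrier),
        (∀ a : R'.carrier, e (g a) = algebraMap R'.carrier (MvPowerSeries (Fin n) R'.carrier) a) ∧
        (ξ'.along g hg).toFormalElt = V.family.toFormalElt := by
  obtain ⟨R', ξ', hmin, i, hi, p, hp, hpi, hξ⟩ := exists_minimal_retract h0 V
  obtain ⟨n, e, he⟩ := exists_equiv_powerSeries_of_retract V.family V.versal ξ' i hi p hp hpi hξ
  exact ⟨R', ξ', hmin, i, hi, n, e, he, congrArg _ hξ⟩

end Groth.Agent.ArtF85
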